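import Cfsg.Agent.Mrg.Omega.VP
import Cfsg.Agent.Mrg.Omega.NOne.LemmaT
import Cfsg.Agent.Mrg.Omega.FFBr.Act
import Cfsg.Agent.Mrg.Omega.Transv.Basic
import Cfsg.Agent.Mrg.Omega.FrameI
import Cfsg.Agent.Mrg.Omega.NatPair.Quad

-- merged: Cfsg.Agent.Mrg.Omega.NO1.Cfg
section

section


/-!
# The configuration of the leaf N1 (= NO-1', MASTER v5.2, project OMEGA)

`Cfg S P` : `G` as in `Frame.Ctx`, `S` a Sylow 2-subgroup, `Full S`, `P ∈ P*(S)` with
`V = V_P ≰ Q = O₂(C)`, `C = C_G(Ω₁(Z(S)))`; so `(P, C)` is nonlocal and `C_V(O²(P)) = 1`.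
(No hypothesis on mutual pairs.)

* facts on `V`, `C`, `Q`;
* `Cfg.exists_near` : for every `v ∈ V - Q` there is a frame `Near V (V ∩ Q) D F v` (NOne/NearFF).
-/

set_option autoImplicit false
set_option linter.unusedSectionVars false

namespace Cfsg.Agent.Omega.NO1

open Subgroup Cfsg Cfsg.Agent.ZN Cfsg.Agent.Omega.MinPar Cfsg.Agent.Omega.Frame
open Cfsg.Agent.MinSimple.VModule (oddGen)
open Cfsg.Agent.Omega.NoFF.LinesPlug (CC NoOne)
open Cfsg.Agent.Omega.NOne.NearFF
open scoped Pointwise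

universe u

variable {G : Type u} [Group G] [Finite G]

/-- The configuration of N1. -/
structure Cfg (S : Sylow 2 G) (P : Subgroup G) : Prop where
  ctx : Ctx G
  full : Full (S : Subgroup G)
  one : NoOne (S : Subgroup G) P

/-- The configuration from the hypotheses of `FrameLE.NodeN1`. -/
theorem Cfg.of {S : Sylow 2 G} {P : Subgroup G} (h : Ctx G) (hF : Full (S : Subgroup G))
    (hP : IsParS (S : Subgroup G) P)
    (hV : ¬ zl (S : Subgroup G) P ≤ o2 (FrameNOFF.CZ (S : Subgroup G))) : Cfg S P := by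
  have h1 := NoFF.LinesPlug.nonLoc h.char2 S hP hV
  exact ⟨h, hF, hP, hV, h1, NoFF.LinesPlug.inf_oddGen_eq_bot h.char2 S hP.toIsPar
    (NoFF.LinesPlug.inf_eq_bot S h1)⟩

namespace Cfg

variable {S : Sylow 2 G} {P : Subgroup G} (h : Cfg S P)
include h

theorem par : IsPar (S : Subgroup G) P := h.one.star.toIsPar

theorem loc : IsLoc (S : Subgroup G) P := h.par.isLoc

theorem S_le : (S : Subgroup G) ≤ P := h.loc.le

omit h in
theorem S_le_CC (S : Sylow 2 G) : (S : Subgroup G) ≤ CC (S : Subgroup G) := le_centralizer_zc _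

theorem locC : IsLoc (S : Subgroup G) (CC (S : Subgroup G)) :=
  isLoc_centralizer_zc S (h.ctx.sylow_ne_bot S)

theorem V_le_o2 : zl (S : Subgroup G) P ≤ o2 P :=
  (h.loc.zl_le S h.ctx.char2).trans (zc_le _)

theorem V_le_S : zl (S : Subgroup G) P ≤ S := h.V_le_o2.trans (h.loc.o2_le S)

theorem V_le_CC : zl (S : Subgroup G) P ≤ CC (S : Subgroup G) := h.V_le_S.trans (S_le_CC S)

theorem V_comm : zl (S : Subgroup G) P ≤ centralizer (zl (S : Subgroup G) P : Set G) := by
  have h1 := h.loc.zl_le S h.ctx.char2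
  intro x hx
  rw [mem_centralizer_iff]
  intro y hy
  exact MinSimple.VModule.zc_comm _ _ (h1 hy) _ (h1 hx)

theorem V_sq (w : G) (hw : w ∈ zl (S : Subgroup G) P) : w ^ 2 = 1 :=
  MinSimple.VModule.zc_sq _ _ (h.loc.zl_le S h.ctx.char2 hw)

theorem V_isPGroup : IsPGroup 2 (zl (S : Subgroup G) P) := S.isPGroup'.to_le h.V_le_S

/-- `Q = O₂(C) ≤ S` -/
theorem Q_le_S : o2 (CC (S : Subgroup G)) ≤ S := h.locC.o2_le S

omit h in
theorem P_norm_V (S : Sylow 2 G) (P : Subgroup G) : P ≤ normalizer (zl (S : Subgroup G) P : Set G) :=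
  le_normalizer_zl _ _

theorem Q_norm_V : o2 (CC (S : Subgroup G)) ≤ normalizer (zl (S : Subgroup G) P : Set G) :=
  (h.Q_le_S.trans h.S_le).trans (P_norm_V S P)

theorem char2C : CC (S : Subgroup G) ⊓ centralizer (o2 (CC (S : Subgroup G)) : Set G) ≤
    o2 (CC (S : Subgroup G)) := h.locC.char2 S h.ctx.char2

theorem Z_le_V : zc (S : Subgroup G) ≤ zl (S : Subgroup G) P := MinSimple.VModule.zc_le_zl _ _

/-- `Z ≤ Q` -/
theorem Z_le_Q : zc (S : Subgroup G) ≤ o2 (CC (S : Subgroup G)) := by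
  exact le_o2 ((zc_le _).trans (S_le_CC S)) (S.isPGroup'.to_le (zc_le _)) (centralizer_le_normalizer _)

theorem Z_le_E : zc (S : Subgroup G) ≤ zl (S : Subgroup G) P ⊓ o2 (CC (S : Subgroup G)) :=
  le_inf h.Z_le_V h.Z_le_Q

/-- There is `v ∈ V - Q`. -/
theorem exists_v : ∃ v ∈ zl (S : Subgroup G) P, v ∉ o2 (CC (S : Subgroup G)) := by
  by_contra hcon
  push Not at hcon
  exact h.one.not_le hcon

/-- `C_S(V) = O₂(P)` -/
theorem S_inf_centralizer :
    (S : Subgroup G) ⊓ centralizer (zl (S : Subgroup G) P : Set G) = o2 P :=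
  h.one.star.inf_centralizer S h.ctx.char2

/-- **The frame** at `v ∈ V - Q`. -/
theorem exists_near {v : G} (hv : v ∈ zl (S : Subgroup G) P) (hvQ : v ∉ o2 (CC (S : Subgroup G))) :
    ∃ g ∈ CC (S : Subgroup G), Fin (zl (S : Subgroup G) P) (o2 (CC (S : Subgroup G))) v g ∧
      ¬ IsPGroup 2 (NOne.Frame.X (V1 (zl (S : Subgroup G) P) (o2 (CC (S : Subgroup G))) v) g) ∧
      ∀ y ∈ CC (S : Subgroup G),
        Nat.card (NOne.Frame.X (V1 (zl (S : Subgroup G) P) (o2 (CC (S : Subgroup G))) v) y) <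
          Nat.card (NOne.Frame.X (V1 (zl (S : Subgroup G) P) (o2 (CC (S : Subgroup G))) v) g) →
        IsPGroup 2 (NOne.Frame.X (V1 (zl (S : Subgroup G) P) (o2 (CC (S : Subgroup G))) v) y) :=
  NOne.NearFF.exists_near h.char2C h.V_le_CC h.V_comm h.V_sq h.Q_norm_V hv hvQ

/-- `Z ≤ D` in every frame. -/
theorem Z_le_D {g : G} (hg : g ∈ CC (S : Subgroup G)) :
    zc (S : Subgroup G) ≤ (zl (S : Subgroup G) P ⊓ o2 (CC (S : Subgroup G))) ⊓
      MulAut.conj g • (zl (S : Subgroup G) P ⊓ o2 (CC (S : Subgroup G))) :=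
  NOne.NearFF.le_D h.Z_le_E fun z hz => (mem_centralizer_iff.1 hg z hz).symm

end Cfg

end Cfsg.Agent.Omega.NO1

end

section


/-!
# N1: `V_P` as an additive module for the group induced by `P` (project OMEGA, assembler helper406)

`Rep S P V Y M T Mx` : `M` is `V` as an additive group (`el : M → G`), `Y` is the group induced by `P`
(`ac : P →* Y`), `T` the image of `S`, `Mx` the unique maximal subgroup of `Y` over `T`, `O₂(Y) = 1`.
-/

set_option autoImplicit false
set_option linter.unusedSectionVars false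

namespace Cfsg.Agent.Omega.NO1

open Subgroup Cfsg Cfsg.Agent.ZN Cfsg.Agent.Omega.MinPar Cfsg.Agent.Omega.Frame
open Cfsg.Agent.Omega.FFBr (XX pr Abs)
open Cfsg.Agent.Omega.NoFF.LinesPlug (CC)

universe u

/-- `V` as a module for the group induced by `P`. -/
structure Rep {G : Type u} [Group G] (S P V : Subgroup G) (Y M : Type u) [Group Y] [AddCommGroup M]
    [DistribMulAction Y M] (T : Sylow 2 Y) (Mx : Subgroup Y) where
  el : M → G
  mem : ∀ m, el m ∈ V
  add : ∀ m n, el (m + n) = el m * el n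
  inj : Function.Injective el
  surj : ∀ v ∈ V, ∃ m, el m = v
  ac : P →* Y
  acs : Function.Surjective ac
  smul : ∀ (p : P) (m : M), el (ac p • m) = p * el m * (p : G)⁻¹
  two : ∀ m : M, m + m = 0
  faith : ∀ y : Y, (∀ m : M, y • m = m) → y = 1
  core : ∀ N : Subgroup Y, N.Normal → IsPGroup 2 N → N = ⊥
  mem_T : ∀ y, y ∈ T ↔ ∃ t : P, (t : G) ∈ S ∧ ac t = y
  TM : (T : Subgroup Y) ≤ Mx
  Mne : Mx ≠ ⊤
  max : ∀ K : Subgroup Y, (T : Subgroup Y) ≤ K → K ≠ ⊤ → K ≤ Mx

section AV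

variable {G : Type u} [Group G]

/-- `V` additively -/
def AV (V : Subgroup G) (_ : ∀ v w : V, v * w = w * v) : Type u := Additive V

variable {V : Subgroup G} {hc : ∀ v w : V, v * w = w * v}

instance : AddCommGroup (AV V hc) :=
  { (inferInstance : AddGroup (Additive V)) with
    add_comm := fun a b => congrArg Additive.ofMul (hc a.toMul b.toMul) }

instance {P : Subgroup G} (h : P ≤ normalizer (V : Set G)) : DistribMulAction (XX h) (AV V hc) where
  smul x m := Additive.ofMul ((x : MulAut V) m.toMul)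
  one_smul m := rfl
  mul_smul x y m := rfl
  smul_zero x := by
    change Additive.ofMul ((x : MulAut V) 1) = _
    rw [map_one]; rfl
  smul_add x a b := by
    change Additive.ofMul ((x : MulAut V) (a.toMul * b.toMul)) = _
    rw [map_mul]; rfl

end AV

variable {G : Type u} [Group G] [Finite G] {S : Sylow 2 G} {P : Subgroup G}

theorem Cfg.exists_rep (h : Cfg S P) :
    ∃ (Y M : Type u) (_ : Group Y) (_ : Finite Y) (_ : AddCommGroup M) (_ : Finite M)
      (_ : DistribMulAction Y M) (T : Sylow 2 Y) (Mx : Subgroup Y),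
      Nonempty (Rep (S : Subgroup G) P (zl (S : Subgroup G) P) Y M T Mx) := by
  have hN := Cfg.P_norm_V S P
  have hc : ¬ P ≤ centralizer (zl (S : Subgroup G) P : Set G) := by
    intro h1
    exact h.one.star.not_zc ((h1.trans (centralizer_le h.Z_le_V)).trans (centralizer_le_normalizer _))
  obtain ⟨T, Mx, hA, hT⟩ := FFBr.abs_of (T := (S : Subgroup G)) (H := P)
    ⟨h.S_le, S.isPGroup', fun _ _ hT hST => S.is_maximal' hT hST⟩
    h.par.toIsMinPar (h.loc.char2 S h.ctx.char2) hc hN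
  refine ⟨XX hN, AV (zl (S : Subgroup G) P) hA.comm, inferInstance, inferInstance, inferInstance,
    inferInstanceAs (Finite (zl (S : Subgroup G) P)), inferInstance, T, Mx, ⟨?_⟩⟩
  exact
    { el := fun m => ((Additive.toMul m : zl (S : Subgroup G) P) : G)
      mem := fun m => (Additive.toMul m : zl (S : Subgroup G) P).2
      add := fun m n => rfl
      inj := fun a b hab => by
        have : (Additive.toMul a : zl (S : Subgroup G) P) = Additive.toMul b := Subtype.ext hab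
        exact congrArg Additive.ofMul this
      surj := fun v hv => ⟨Additive.ofMul (⟨v, hv⟩ : zl (S : Subgroup G) P), rfl⟩
      ac := pr hN
      acs := FFBr.pr_surjective hN
      smul := fun p m => rfl
      two := fun m => congrArg Additive.ofMul (hA.sq (Additive.toMul m))
      faith := fun y hy => hA.faith y fun v => by
        have h1 := hy (Additive.ofMul v)
        exact congrArg Additive.toMul h1
      core := hA.core
      mem_T := hT
      TM := hA.TM
      Mne := hA.Mne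
      max := fun K hK hK1 => (hA.max K hK).resolve_right hK1 }

end Cfsg.Agent.Omega.NO1

end

section


/-!
# N1, (BT) with `|V / E| = 2`: facts in `G` for the bridge (project OMEGA, assembler helper406)

`V = V_P`, `Ω₁(Z(S)) = {1, z}`, `Q_x = O₂(C_G(x))`, `E_x = V ∩ Q_x` for the `P`-conjugates `x` of `z`.
-/

set_option autoImplicit false
set_option linter.unusedSectionVars false

namespace Cfsg.Agent.Omega.NO1.TwoG

open Subgroup Cfsg Cfsg.Agent.ZN Cfsg.Agent.Omega.MinPar Cfsg.Agent.Omega.Frame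
open Cfsg.Agent.Omega.NoFF.LinesPlug (CC)
open Cfsg.Agent.Omega.NoFF.Basic (mem_conj conj_le_iff conj_conj)
open Cfsg.Agent.Omega.NOne.Frame (mem_conj' X norm_mem comm_of_le_centralizer)
open Cfsg.Agent.Omega.NOne.NearFF
open scoped Pointwise

universe u

variable {G : Type u} [Group G]

/-- `Q_x = O₂(C_G(x))` -/
abbrev Qx (x : G) : Subgroup G := o2 (centralizer ({x} : Set G))

/-- `E_x = V ∩ Q_x` -/
abbrev Ex (V : Subgroup G) (x : G) : Subgroup G := V ⊓ Qx x

theorem idx2 {E V : Subgroup G} (h2 : E.relIndex V = 2) {a b : G} (ha : a ∈ V) (hb : b ∈ V) :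
    a * b ∈ E ↔ (a ∈ E ↔ b ∈ E) := by
  have h1 := Subgroup.mul_mem_iff_of_index_two (H := E.subgroupOf V) h2 (a := ⟨a, ha⟩) (b := ⟨b, hb⟩)
  exact h1

theorem cent_conj (p x : G) : centralizer ({p * x * p⁻¹} : Set G) = MulAut.conj p • centralizer ({x} : Set G) := by
  ext y
  rw [mem_conj, mem_centralizer_singleton_iff, mem_centralizer_singleton_iff]
  constructor
  · intro h
    calc p⁻¹ * y * p * x = p⁻¹ * (y * (p * x * p⁻¹)) * p := by group
      _ = p⁻¹ * ((p * x * p⁻¹) * y) * p := by rw [h]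
      _ = x * (p⁻¹ * y * p) := by group
  · intro h
    calc y * (p * x * p⁻¹) = p * (p⁻¹ * y * p * x) * p⁻¹ := by group
      _ = p * (x * (p⁻¹ * y * p)) * p⁻¹ := by rw [h]
      _ = (p * x * p⁻¹) * y := by group

theorem o2_conj_smul (p : G) (L : Subgroup G) : o2 (MulAut.conj p • L) = MulAut.conj p • o2 L :=
  o2_map_equiv (MulAut.conj p) L

theorem Qx_conj (p x : G) : Qx (p * x * p⁻¹) = MulAut.conj p • Qx x := by
  rw [Qx, cent_conj, o2_conj_smul]

theorem conj_V {V P : Subgroup G} (h : P ≤ normalizer (V : Set G)) {p : G} (hp : p ∈ P) :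
    MulAut.conj p • V = V := by
  ext y
  rw [mem_conj]
  exact (mem_normalizer_iff''.1 (h hp) y).symm

theorem Ex_conj {V P : Subgroup G} (h : P ≤ normalizer (V : Set G)) {p : G} (hp : p ∈ P) (x : G) :
    Ex V (p * x * p⁻¹) = MulAut.conj p • Ex V x := by
  rw [Ex, Qx_conj, Ex, smul_inf, conj_V h hp]

section Cfg

variable [Finite G] {S : Sylow 2 G} {P : Subgroup G}

theorem exists_z (hZ : Nat.card (zc (S : Subgroup G)) = 2) :
    ∃ z ∈ zc (S : Subgroup G), z ≠ 1 ∧ ∀ x ∈ zc (S : Subgroup G), x = 1 ∨ x = z := by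
  obtain ⟨x, y, hxy, hu⟩ := Nat.card_eq_two_iff.1 hZ
  by_cases hx : x = 1
  · refine ⟨y, y.2, fun h => hxy ?_, fun w hw => ?_⟩
    · rw [hx]; exact Subtype.ext h.symm
    · have : (⟨w, hw⟩ : zc (S : Subgroup G)) ∈ ({x, y} : Set _) := by rw [hu]; trivial
      rcases this with h | h
      · left; rw [hx] at h; exact congrArg Subtype.val h
      · right; exact congrArg Subtype.val h
  · refine ⟨x, x.2, fun h => hx (Subtype.ext h), fun w hw => ?_⟩
    have h1 : (1 : zc (S : Subgroup G)) ∈ ({x, y} : Set _) := by rw [hu]; trivial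
    have hy : y = 1 := by
      rcases h1 with h | h
      · exact absurd h.symm hx
      · exact h.symm
    have : (⟨w, hw⟩ : zc (S : Subgroup G)) ∈ ({x, y} : Set _) := by rw [hu]; trivial
    rcases this with h | h
    · right; exact congrArg Subtype.val h
    · left; rw [hy] at h; exact congrArg Subtype.val h

/-- The data `z`. -/
structure Zd (S : Sylow 2 G) (z : G) : Prop where
  mem : z ∈ zc (S : Subgroup G)
  ne : z ≠ 1
  eq : ∀ x ∈ zc (S : Subgroup G), x = 1 ∨ x = z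

theorem Zd.CC {z : G} (hz : Zd S z) : CC (S : Subgroup G) = centralizer ({z} : Set G) := by
  apply le_antisymm
  · exact centralizer_le (Set.singleton_subset_iff.2 hz.mem)
  · intro y hy
    rw [mem_centralizer_singleton_iff] at hy
    rw [mem_centralizer_iff]
    intro x hx
    rcases hz.eq x hx with rfl | rfl
    · rw [one_mul, mul_one]
    · exact hy.symm

variable (h : Cfg S P) {z : G} (hz : Zd S z)
include h hz

theorem Q_eq : o2 (CC (S : Subgroup G)) = Qx z := by rw [hz.CC]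

/-- `Q_x ≤ P` normalises `V` -/
theorem Qx_le_P {p : G} (hp : p ∈ P) : Qx (p * z * p⁻¹) ≤ P := by
  rw [Qx_conj]
  intro y hy
  rw [mem_conj] at hy
  have h1 : p⁻¹ * y * p ∈ P := h.S_le (h.Q_le_S (by rw [Q_eq h hz]; exact hy))
  have e : y = p * (p⁻¹ * y * p) * p⁻¹ := by group
  rw [e]
  exact mul_mem (mul_mem hp h1) (inv_mem hp)

theorem relIndex_Ex (hA : (Ex (zl (S : Subgroup G) P) z).relIndex (zl (S : Subgroup G) P) = 2) {p : G}
    (hp : p ∈ P) :
    (Ex (zl (S : Subgroup G) P) (p * z * p⁻¹)).relIndex (zl (S : Subgroup G) P) = 2 := by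
  have hV := conj_V (Cfg.P_norm_V S P) hp
  have h1 := relIndex_pointwise_smul (MulAut.conj p) (Ex (zl (S : Subgroup G) P) z) (zl (S : Subgroup G) P)
  rw [hV, hA] at h1
  rw [Ex_conj (Cfg.P_norm_V S P) hp]
  exact h1

end Cfg

/-! ### (*) -/

section star

/-- If `V = (V ∩ Q) (V ∩ Q')`, `Q`, `Q'` normalise `V` and `g` normalises `Q`, `Q'`, then `⟨V, V^g⟩` is a
2-group. -/
theorem isPGroup_X {V Q Q' : Subgroup G} {g : G} (hV2 : IsPGroup 2 V) (hsup : (V ⊓ Q) ⊔ (V ⊓ Q') = V)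
    (hQ : Q ≤ normalizer (V : Set G)) (hQ' : Q' ≤ normalizer (V : Set G))
    (hgQ : MulAut.conj g • Q = Q) (hgQ' : MulAut.conj g • Q' = Q') : IsPGroup 2 (X V g) := by
  have h1 : MulAut.conj g • ((V ⊓ Q) ⊔ (V ⊓ Q')) ≤ normalizer (V : Set G) := by
    rw [smul_sup]
    refine sup_le (le_trans ?_ hQ) (le_trans ?_ hQ')
    · calc MulAut.conj g • (V ⊓ Q) ≤ MulAut.conj g • Q := conj_le_iff.2 inf_le_right
        _ = Q := hgQ
    · calc MulAut.conj g • (V ⊓ Q') ≤ MulAut.conj g • Q' := conj_le_iff.2 inf_le_right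
        _ = Q' := hgQ'
  rw [hsup] at h1
  refine hV2.to_sup_of_normal_left' ?_ h1
  exact hV2.map _

theorem sup_eq_of_index_two [Finite G] {V A B : Subgroup G} (hA : A ≤ V) (hB : B ≤ V)
    (hA2 : A.relIndex V = 2) (hB2 : B.relIndex V = 2) (hne : A ≠ B) : A ⊔ B = V := by
  have h1 : A ⊔ B ≤ V := sup_le hA hB
  have h2 := relIndex_mul_relIndex A (A ⊔ B) V le_sup_left h1
  rw [hA2] at h2
  have h3 : (A ⊔ B).relIndex V ∣ 2 := ⟨_, by rw [mul_comm]; exact h2.symm⟩
  rcases (Nat.dvd_prime Nat.prime_two).1 h3 with h4 | h4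
  · exact le_antisymm h1 (relIndex_eq_one.1 h4)
  · exfalso
    rw [h4] at h2
    have h5 : A.relIndex (A ⊔ B) = 1 := by omega
    have h6 : A ⊔ B ≤ A := relIndex_eq_one.1 h5
    have h7 : B ≤ A := le_sup_right.trans h6
    apply hne
    have h8 := relIndex_mul_relIndex B A V h7 hA
    rw [hB2, hA2] at h8
    have h9 : B.relIndex A = 1 := by omega
    exact le_antisymm (relIndex_eq_one.1 h9) h7

variable [Finite G] {S : Sylow 2 G} {P : Subgroup G} (h : Cfg S P) {z : G} (hz : Zd S z)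
include h hz

theorem star (hA : (Ex (zl (S : Subgroup G) P) z).relIndex (zl (S : Subgroup G) P) = 2)
    {v g : G} (hF : Fin (zl (S : Subgroup G) P) (Qx z) v g) (hv : v ∈ zl (S : Subgroup G) P)
    (hX : ¬ IsPGroup 2 (X (V1 (zl (S : Subgroup G) P) (Qx z) v) g))
    {p : G} (hp : p ∈ P)
    (hy : p * z * p⁻¹ ∈ (zl (S : Subgroup G) P ⊓ Qx z) ⊓ MulAut.conj g • (zl (S : Subgroup G) P ⊓ Qx z)) :
    Ex (zl (S : Subgroup G) P) (p * z * p⁻¹) = Ex (zl (S : Subgroup G) P) z := by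
  by_contra hne
  have hV1 : V1 (zl (S : Subgroup G) P) (Qx z) v ≤ zl (S : Subgroup G) P := V1_le hv
  have hXle : X (V1 (zl (S : Subgroup G) P) (Qx z) v) g ≤ X (zl (S : Subgroup G) P) g :=
    sup_le_sup hV1 (conj_le_iff.2 hV1)
  have hgy : g * (p * z * p⁻¹) = (p * z * p⁻¹) * g := hF.cent g (hXle hF.fr.gX) _ hy
  apply hX
  refine IsPGroup.to_le ?_ hXle
  have h1 := sup_eq_of_index_two inf_le_left inf_le_left (relIndex_Ex h hz hA hp) hA hne
  refine isPGroup_X h.V_isPGroup h1 ?_ ?_ ?_ hF.fr.gQ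
  · exact (Qx_le_P h hz hp).trans (Cfg.P_norm_V S P)
  · rw [← Q_eq h hz]; exact h.Q_norm_V
  · rw [← Qx_conj, hgy, mul_inv_cancel_right]

end star

end Cfsg.Agent.Omega.NO1.TwoG

end

section


/-!
# N1, (BT) with `|V / E| = 2`: the full family (project OMEGA, assembler helper406)

`Gd z f Q x B` : all conditions of `NearFF.Dat` on `B ∈ BB x`; the family of all these `B` is equivariant, so one
good `B` at `z` gives the datum (`dat_of`).
-/

set_option autoImplicit false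
set_option linter.unusedSectionVars false

namespace Cfsg.Agent.Omega.NearFF

open Subgroup MulAction Cfsg.Agent.Omega.Transv

variable {Y : Type*} [Group Y] {V : Type*} [AddCommGroup V] [Module (ZMod 2) V] [DistribMulAction Y V]

/-- `B^g` -/
abbrev cjB (g : Y) (B : Subgroup Y) : Subgroup Y := B.map (MulAut.conj g).toMonoidHom

theorem mem_cjB {g : Y} {B : Subgroup Y} {a : Y} : a ∈ cjB g B ↔ ∃ b ∈ B, g * b * g⁻¹ = a := Iff.rfl

theorem conj_smul_iff {g b : Y} {v : V} : (g * b * g⁻¹) • v = v ↔ b • (g⁻¹ • v) = g⁻¹ • v := by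
  rw [mul_smul, mul_smul, ← eq_inv_smul_iff]

theorem fx_cjB {g : Y} {B : Subgroup Y} {v : V} : Fx (cjB g B) v ↔ Fx B (g⁻¹ • v) := by
  constructor
  · intro h b hb
    exact conj_smul_iff.1 (h _ (mem_cjB.2 ⟨b, hb, rfl⟩))
  · intro h a ha
    obtain ⟨b, hb, rfl⟩ := mem_cjB.1 ha
    exact conj_smul_iff.2 (h b hb)

theorem inv_smul_cm {g b : Y} {v : V} : g⁻¹ • cm (g * b * g⁻¹) v = cm b (g⁻¹ • v) := by
  rw [cm, cm, smul_add, smul_smul, ← mul_smul]
  congr 2
  group

theorem mem_orbit_inv_smul {z w : V} {g : Y} (hw : w ∈ orbit Y z) : g⁻¹ • w ∈ orbit Y z := by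
  obtain ⟨h, rfl⟩ := hw
  exact ⟨g⁻¹ * h, mul_smul _ _ _⟩

theorem NB.smul {φ : Du V} {B : Subgroup Y} (h : NB φ B) (g : Y) : NB (dua g φ) (cjB g B) where
  comm a ha b hb := by
    obtain ⟨a', ha', rfl⟩ := mem_cjB.1 ha
    obtain ⟨b', hb', rfl⟩ := mem_cjB.1 hb
    calc g * a' * g⁻¹ * (g * b' * g⁻¹) = g * (a' * b') * g⁻¹ := by group
      _ = g * (b' * a') * g⁻¹ := by rw [h.comm a' ha' b' hb']
      _ = g * b' * g⁻¹ * (g * a' * g⁻¹) := by group
  sq a ha := by
    obtain ⟨a', ha', rfl⟩ := mem_cjB.1 ha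
    calc g * a' * g⁻¹ * (g * a' * g⁻¹) = g * (a' * a') * g⁻¹ := by group
      _ = 1 := by rw [h.sq a' ha']; group
  ne hb := by
    apply h.ne
    rw [eq_bot_iff]
    intro b hb'
    have h1 : g * b * g⁻¹ ∈ cjB g B := mem_cjB.2 ⟨b, hb', rfl⟩
    rw [hb, mem_bot] at h1
    rw [mem_bot]
    have : b = g⁻¹ * (g * b * g⁻¹) * g := by group
    rw [this, h1]; group
  inv a ha v := by
    obtain ⟨a', ha', rfl⟩ := mem_cjB.1 ha
    rw [dua_apply, dua_apply, smul_smul]
    have e : g⁻¹ * (g * a' * g⁻¹) = a' * g⁻¹ := by group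
    rw [e, mul_smul, h.inv a' ha']
  ed e he a ha := by
    obtain ⟨a', ha', rfl⟩ := mem_cjB.1 ha
    rw [fx_cjB, inv_smul_cm]
    exact h.ed _ he a' ha'
  inj v hv a ha hf := by
    obtain ⟨a', ha', rfl⟩ := mem_cjB.1 ha
    rw [fx_cjB, inv_smul_cm] at hf
    rw [h.inj _ hv a' ha' hf]
    group
  surj v e hv he := by
    obtain ⟨b, hb, hbe⟩ := h.surj _ _ hv he
    refine ⟨_, mem_cjB.2 ⟨b, hb, rfl⟩, ?_⟩
    rw [fx_cjB, smul_add, inv_smul_cm]
    exact hbe

/-- all conditions on `B ∈ BB x` -/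
structure Gd (z : V) (f : V → Du V) (Q : V → Subgroup Y) (x : V) (B : Subgroup Y) : Prop where
  fx : Fx B x
  nb : NB (f x) B
  all : ∀ y ∈ orbit Y z, Fx B y → f y = f x ∧ B ≤ Q y ∧ Q y ≤ normalizer (B : Set Y)

variable {z : V} {f : V → Du V} {Q : V → Subgroup Y}

theorem Gd.star {x : V} {B : Subgroup Y} (h : Gd z f Q x B) {y : V} (hy : y ∈ orbit Y z) (hB : Fx B y) :
    Gd z f Q y B where
  fx := hB
  nb := by rw [(h.all y hy hB).1]; exact h.nb
  all w hw hwB := by
    refine ⟨?_, (h.all w hw hwB).2⟩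
    rw [(h.all w hw hwB).1, (h.all y hy hB).1]

theorem Gd.smul (hf : ∀ (g : Y) (x : V), x ∈ orbit Y z → f (g • x) = dua g (f x))
    (hQ : ∀ (g : Y) (x : V), x ∈ orbit Y z → ∀ a ∈ Q x, g * a * g⁻¹ ∈ Q (g • x))
    {x : V} (hx : x ∈ orbit Y z) {B : Subgroup Y} (h : Gd z f Q x B) (g : Y) : Gd z f Q (g • x) (cjB g B) where
  fx := by rw [fx_cjB, inv_smul_smul]; exact h.fx
  nb := by rw [hf g x hx]; exact h.nb.smul g
  all w hw hwB := by
    rw [fx_cjB] at hwB
    have hw' := mem_orbit_inv_smul (g := g) hw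
    obtain ⟨h1, h2, h3⟩ := h.all _ hw' hwB
    refine ⟨?_, ?_, ?_⟩
    · rw [hf g x hx, ← h1, ← hf g _ hw', smul_inv_smul]
    · intro a ha
      obtain ⟨b, hb, rfl⟩ := mem_cjB.1 ha
      have := hQ g _ hw' b (h2 hb)
      rwa [smul_inv_smul] at this
    · intro a ha
      have ha' : g⁻¹ * a * g ∈ Q (g⁻¹ • w) := by
        have := hQ g⁻¹ w hw a ha
        rwa [inv_inv] at this
      have h4 := mem_normalizer_iff.1 (h3 ha')
      rw [mem_normalizer_iff]
      intro b
      have key : ∀ c : Y, c ∈ cjB g B ↔ g⁻¹ * c * g ∈ B := by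
        intro c
        rw [mem_cjB]
        constructor
        · rintro ⟨b, hb, rfl⟩
          have e : g⁻¹ * (g * b * g⁻¹) * g = b := by group
          rwa [e]
        · intro hc
          exact ⟨_, hc, by group⟩
      rw [key, key]
      have h5 := h4 (g⁻¹ * b * g)
      rw [h5]
      have e : g⁻¹ * a * g * (g⁻¹ * b * g) * (g⁻¹ * a * g)⁻¹ = g⁻¹ * (a * b * a⁻¹) * g := by group
      rw [e]

/-- The datum from one good `B`. -/
theorem dat_of {T : Sylow 2 Y} {M : Subgroup Y} (faith : Faith Y V) (le : (T : Subgroup Y) ≤ M) (ne : M ≠ ⊤)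
    (max : ∀ X : Subgroup Y, (T : Subgroup Y) ≤ X → X ≤ M ∨ X = ⊤) (z_ne : z ≠ 0)
    (z_fix : Fx (T : Subgroup Y) z) (fixT : ∀ v : V, Fx (T : Subgroup Y) v → v = 0 ∨ v = z)
    (span : Submodule.span (ZMod 2) (Set.range fun g : Y => g • z) = ⊤)
    (noff : ∀ A : Subgroup Y, A ≠ ⊥ → (∀ a ∈ A, ∀ b ∈ A, a * b = b * a) → (∀ a ∈ A, a * a = 1) →
      Nat.card A * Nat.card {v : V // Fx A v} < Nat.card V)
    (f_smul : ∀ (g : Y) (x : V), x ∈ orbit Y z → f (g • x) = dua g (f x)) (f_self : f z z = 0) (f_ne : f z ≠ 0)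
    (q_smul : ∀ (g : Y) (x : V), x ∈ orbit Y z → ∀ a ∈ Q x, g * a * g⁻¹ ∈ Q (g • x))
    (q_two : IsPGroup 2 (Q z)) (q_fix : Fx (Q z) z) {B : Subgroup Y} (hB : Gd z f Q z B) :
    Dat T M z f Q fun x => {B | Gd z f Q x B} where
  faith := faith
  le := le
  ne := ne
  max := max
  z_ne := z_ne
  z_fix := z_fix
  fixT := fixT
  span := span
  noff := noff
  f_smul := f_smul
  f_self := f_self
  f_ne := f_ne
  q_smul := q_smul
  q_two := q_two
  q_fix := q_fix
  bb_smul g _ hx _ hB := Gd.smul f_smul q_smul hx hB g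
  bb_ne := ⟨B, hB⟩
  bb_le _ hB := (hB.all z (mem_orbit_self z) hB.fx).2.1
  bb_norm _ hB a ha b hb := (mem_normalizer_iff.1 ((hB.all z (mem_orbit_self z) hB.fx).2.2 ha) b).1 hb
  bb _ hB := hB.nb
  star _ hB x hx hBx := (hB.all x hx hBx).1

end Cfsg.Agent.Omega.NearFF

end

end

-- merged: Cfsg.Agent.Mrg.Omega.NO1.Types
section

section


/-!
# The types of `V_P` in the leaf N1 (= NO-1', project OMEGA)

`V = V_P`, `Z = Ω₁(Z(S))`.  The types of the pair `(P/C_P(V), V)` (conclusion of the near-FF theorem (BT)):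

* `Minus2 S P z` : `V = O₄⁻(2)`, five singular vectors `z i`, `Z = ⟨z 0⟩`, `P` induces at least `A₅` on them;
* `Plus2 S P z` : `V = O₄⁺(2) = N₁ ⊗ N₂`, nine singular vectors `z i j` (rows and columns are lines),
  `Z = ⟨z 0 0⟩`, `P` induces `S₃ ≀ 2`;
* `Nat4 S P` : `V = F₄²` is the natural module of a normal subgroup `SL₂(4)`, `|Z| = 2`, `|V/E| = 2`;
* `MinusQ K σ P V` : `V = O₄⁻(q)` = the hermitian `2 × 2`-matrices over `K`, `|K| = q²`;
* `PlusQ F P V` : `V = O₄⁺(q)` = `M₂(F)` = `N ⊗ N'`, the two factors `SL₂(F)` are interchanged by `P` (and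
  `|V/E| ≥ 4`).
-/

set_option autoImplicit false
set_option linter.unusedSectionVars false

namespace Cfsg.Agent.Omega.NO1

open Subgroup Cfsg Cfsg.Agent.ZN Cfsg.Agent.Omega.MinPar Cfsg.Agent.Omega.Frame
open Cfsg.Agent.Omega.FrameFF (NatOver)

universe u

section defs

variable {G : Type u} [Group G]

/-- **(β), `q = 2`**: `V = O₄⁻(2)`, the singular vectors are `z 0, …, z 4`. -/
structure Minus2 (S P : Subgroup G) (z : Fin 5 → G) : Prop where
  inj : Function.Injective z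
  ne_one : ∀ i, z i ≠ 1
  sq : ∀ i, z i * z i = 1
  comm : ∀ i j, z i * z j = z j * z i
  prod : z 0 * z 1 * z 2 * z 3 * z 4 = 1
  gen : closure (Set.range z) = zl S P
  Z : zc S = zpowers (z 0)
  perm : ∀ m ∈ P, ∃ σ : Equiv.Perm (Fin 5), ∀ i, m * z i * m⁻¹ = z (σ i)
  alt : ∀ σ ∈ alternatingGroup (Fin 5), ∃ m ∈ P, ∀ i, m * z i * m⁻¹ = z (σ i)

/-- **(γ), `q = 2`**: `V = O₄⁺(2) = N₁ ⊗ N₂`, the singular vectors are `z i j`. -/
structure Plus2 (S P : Subgroup G) (z : Fin 3 → Fin 3 → G) : Prop where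
  inj : ∀ i j k l, z i j = z k l → i = k ∧ j = l
  ne_one : ∀ i j, z i j ≠ 1
  sq : ∀ i j, z i j * z i j = 1
  comm : ∀ i j k l, z i j * z k l = z k l * z i j
  row : ∀ i, z i 0 * z i 1 * z i 2 = 1
  col : ∀ j, z 0 j * z 1 j * z 2 j = 1
  gen : closure (Set.range fun x : Fin 3 × Fin 3 => z x.1 x.2) = zl S P
  Z : zc S = zpowers (z 0 0)
  perm : ∀ m ∈ P, ∃ σ τ : Equiv.Perm (Fin 3), (∀ i j, m * z i j * m⁻¹ = z (σ i) (τ j)) ∨
    (∀ i j, m * z i j * m⁻¹ = z (σ j) (τ i))
  full : ∀ σ τ : Equiv.Perm (Fin 3), ∃ m ∈ P, ∀ i j, m * z i j * m⁻¹ = z (σ i) (τ j)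
  swap : ∃ m ∈ P, ∀ i j, m * z i j * m⁻¹ = z j i

/-- The subgroup `E = V ∩ Q`, `Q = O₂(C_G(Z))`. -/
abbrev EE (S P : Subgroup G) : Subgroup G := zl S P ⊓ o2 (NoFF.LinesPlug.CC S)

/-- **(α)**: `V = F₄²` is the natural `SL₂(4)`-module, `|Z| = 2` (so `S` contains a field automorphism) and
`|V / E| = 2`. -/
structure Nat4 (S P : Subgroup G) : Prop where
  nat : ∃ (F : Type) (_ : Field F) (_ : Finite F) (_ : CharP F 2), Nat.card F = 4 ∧
    Nonempty (NatOver F P (zl S P) ⊥)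
  Z : Nat.card (zc S) = 2
  ind : (EE S P).relIndex (zl S P) = 2

/-- **(β)**: `V = O₄⁻(q)`, the hermitian `2 × 2`-matrices over `K`, `σ` an automorphism of order 2 of `K`,
`|K| = q²`; `SL₂(K)` acts by `X ↦ A X A^*` (a normal subgroup of the group induced by `N`). -/
structure MinusQ (K : Type) [Field K] (σ : K ≃+* K) (N V : Subgroup G) where
  e : G → Matrix (Fin 2) (Fin 2) K
  herm : ∀ v ∈ V, ((e v).map σ).transpose = e v
  mul : ∀ v ∈ V, ∀ w ∈ V, e (v * w) = e v + e w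
  surj : ∀ X : Matrix (Fin 2) (Fin 2) K, (X.map σ).transpose = X → ∃ v ∈ V, e v = X
  ker : ∀ v ∈ V, e v = 0 → v = 1
  lift : ∀ A : Matrix.SpecialLinearGroup (Fin 2) K, ∃ g ∈ N, ∀ v ∈ V,
    e (g * v * g⁻¹) = A.1 * e v * (A.1.map σ).transpose
  norm : ∀ g ∈ N, ∀ h ∈ N, ∀ A : Matrix.SpecialLinearGroup (Fin 2) K,
    (∀ v ∈ V, e (h * v * h⁻¹) = A.1 * e v * (A.1.map σ).transpose) →
      ∃ B : Matrix.SpecialLinearGroup (Fin 2) K,
        ∀ v ∈ V, e (g * h * g⁻¹ * v * (g * h * g⁻¹)⁻¹) = B.1 * e v * (B.1.map σ).transpose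

/-- **(γ)**: `V = O₄⁺(q) = M₂(F)`, `SL₂(F) × SL₂(F)` acts by `X ↦ A X Bᵀ` (a normal subgroup of the group
induced by `N`), and `N` interchanges the two factors. -/
structure PlusQ (F : Type) [Field F] (N V : Subgroup G) where
  e : G → Matrix (Fin 2) (Fin 2) F
  mul : ∀ v ∈ V, ∀ w ∈ V, e (v * w) = e v + e w
  surj : ∀ X : Matrix (Fin 2) (Fin 2) F, ∃ v ∈ V, e v = X
  ker : ∀ v ∈ V, e v = 0 → v = 1
  lift : ∀ A B : Matrix.SpecialLinearGroup (Fin 2) F, ∃ g ∈ N, ∀ v ∈ V,
    e (g * v * g⁻¹) = A.1 * e v * B.1.transpose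
  norm : ∀ g ∈ N, ∀ h ∈ N, ∀ A B : Matrix.SpecialLinearGroup (Fin 2) F,
    (∀ v ∈ V, e (h * v * h⁻¹) = A.1 * e v * B.1.transpose) →
      ∃ A' B' : Matrix.SpecialLinearGroup (Fin 2) F,
        ∀ v ∈ V, e (g * h * g⁻¹ * v * (g * h * g⁻¹)⁻¹) = A'.1 * e v * B'.1.transpose
  swap : ∃ s ∈ N, ∀ h ∈ N, ∀ A : Matrix.SpecialLinearGroup (Fin 2) F,
    (∀ v ∈ V, e (h * v * h⁻¹) = A.1 * e v) →
      ∃ B : Matrix.SpecialLinearGroup (Fin 2) F,
        ∀ v ∈ V, e (s * h * s⁻¹ * v * (s * h * s⁻¹)⁻¹) = e v * B.1.transpose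

/-- The five types. -/
inductive Ty (S P : Subgroup G) : Prop
  | minus2 (z : Fin 5 → G) (h : Minus2 S P z)
  | plus2 (z : Fin 3 → Fin 3 → G) (h : Plus2 S P z)
  | nat4 (h : Nat4 S P)
  | minusQ (K : Type) [Field K] [Finite K] [CharP K 2] (σ : K ≃+* K) (h1 : σ ≠ RingEquiv.refl K)
      (h2 : ∀ x, σ (σ x) = x) (h4 : 16 ≤ Nat.card K) (h : Nonempty (MinusQ K σ P (zl S P)))
  | plusQ (F : Type) [Field F] [Finite F] [CharP F 2] (h4 : 4 ≤ Nat.card F)
      (hE : 4 ≤ (EE S P).relIndex (zl S P)) (h : Nonempty (PlusQ F P (zl S P)))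

end defs

end Cfsg.Agent.Omega.NO1

end

section


/-!
# THEOREM ALL-N1: the types `Minus2` and `Plus2` do not coexist with `Core` (bb #16847 (4), helper983)

* `Core.not_minus2`, `Core.not_plus2`.
-/

set_option autoImplicit false
set_option linter.unusedSectionVars false

namespace Cfsg.Agent.Omega.All.NOne

open Subgroup Cfsg Cfsg.Agent.ZN Cfsg.Agent.Omega.MinPar
open Cfsg.Agent.Omega.FrameNOFF (CZ)
open SmallFour (mm ad sc ac Ind)

universe u

variable {G : Type u} [Group G]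

/-- abstract form of the final step -/
theorem four_of {R : Subgroup G} (hR : Nat.card R = 4) {z : Fin 4 → G} (D : Ind z) {s a : Fin 4 → Bool}
    (hs : mm z s ∈ R) (ha : mm z a ∈ R) (hs0 : s ≠ fun _ => false) (ha0 : a ≠ fun _ => false) (has : a ≠ s)
    {g : G} {M : Fin 4 → Fin 4 → Bool} (hg : ∀ i, g * z i * g⁻¹ = mm z (M i))
    {b : Fin 4 → Bool} (hgR : g * mm z b * g⁻¹ ∈ R) :
    ac M b = (fun _ => false) ∨ ac M b = s ∨ ac M b = a ∨ ac M b = ad a s := by
  rw [D.conj hg] at hgR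
  have h1 : ∀ b, mm z b = 1 → b = fun _ => false := D.ind
  rcases mem_of_card_four hR hs ha (fun h => hs0 (D.ind _ h)) (fun h => ha0 (D.ind _ h))
    (fun h => has (D.inj h)) (D.mm_sq s) hgR with h | h | h | h
  · exact Or.inl (D.ind _ h)
  · exact Or.inr (Or.inl (D.inj h))
  · exact Or.inr (Or.inr (Or.inl (D.inj h)))
  · rw [D.mm_mul] at h
    exact Or.inr (Or.inr (Or.inr (D.inj h)))

/-! ### `Minus2` -/

section minus

variable {S P : Subgroup G} {z : Fin 5 → G} (m : NO1.Minus2 S P z)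
include m

theorem minus_zero : z 0 = z 1 * z 2 * z 3 * z 4 := by
  have h1 := m.prod
  have h2 : z 0 * (z 1 * z 2 * z 3 * z 4) = 1 := by rw [← h1]; group
  calc z 0 = z 0 * (z 1 * z 2 * z 3 * z 4) * (z 1 * z 2 * z 3 * z 4)⁻¹ := by group
    _ = (z 1 * z 2 * z 3 * z 4)⁻¹ := by rw [h2, one_mul]
    _ = z 4 * z 3 * z 2 * z 1 := by
        rw [mul_inv_rev, mul_inv_rev, mul_inv_rev, inv_eq_of_mul_eq_one_left (m.sq 1),
          inv_eq_of_mul_eq_one_left (m.sq 2), inv_eq_of_mul_eq_one_left (m.sq 3),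
          inv_eq_of_mul_eq_one_left (m.sq 4)]
        group
    _ = z 1 * (z 4 * z 3 * z 2) := by
        rw [show z 4 * z 3 * z 2 * z 1 = z 4 * z 3 * (z 2 * z 1) by group, m.comm 2 1,
          show z 4 * z 3 * (z 1 * z 2) = z 4 * (z 3 * z 1) * z 2 by group, m.comm 3 1,
          show z 4 * (z 1 * z 3) * z 2 = (z 4 * z 1) * z 3 * z 2 by group, m.comm 4 1]
        group
    _ = z 1 * (z 2 * (z 4 * z 3)) := by
        rw [show z 4 * z 3 * z 2 = z 4 * (z 3 * z 2) by group, m.comm 3 2,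
          show z 4 * (z 2 * z 3) = (z 4 * z 2) * z 3 by group, m.comm 4 2]
        group
    _ = z 1 * z 2 * z 3 * z 4 := by rw [m.comm 4 3]; group

theorem minus_mm : z 0 = mm ![z 1, z 2, z 3, z 4] (fun _ => true) := by
  rw [minus_zero m]; simp [mm]

theorem minus_ind : Ind ![z 1, z 2, z 3, z 4] := by
  have hne : ∀ i j : Fin 5, i ≠ j → z i * z j ≠ 1 := by
    intro i j hij h
    apply hij
    apply m.inj
    calc z i = z i * (z j * z j) := by rw [m.sq, mul_one]
      _ = z i * z j * z j := by group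
      _ = z j := by rw [h, one_mul]
  have h0 := minus_zero m
  have h3 : ∀ {x y : G}, z 0 = x * y → y = 1 → z 0 = x := by
    intro x y h1 h2
    rw [h1, h2, mul_one]
  refine ⟨?_, ?_, ?_⟩
  · intro i j
    fin_cases i <;> fin_cases j <;> exact m.comm _ _
  · intro i
    fin_cases i <;> exact m.sq _
  · intro a ha
    have hc := m.comm
    simp only [mm, Matrix.cons_val_zero, Matrix.cons_val_one, Matrix.cons_val] at ha
    have e123 : z 0 = z 4 * (z 1 * z 2 * z 3) := by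
      rw [h0, show z 4 * (z 1 * z 2 * z 3) = (z 4 * z 1) * z 2 * z 3 by group, hc 4 1,
        show z 1 * z 4 * z 2 * z 3 = z 1 * (z 4 * z 2) * z 3 by group, hc 4 2,
        show z 1 * (z 2 * z 4) * z 3 = z 1 * z 2 * (z 4 * z 3) by group, hc 4 3]
      group
    have e124 : z 0 = z 3 * (z 1 * z 2 * z 4) := by
      rw [h0, show z 3 * (z 1 * z 2 * z 4) = (z 3 * z 1) * z 2 * z 4 by group, hc 3 1,
        show z 1 * z 3 * z 2 * z 4 = z 1 * (z 3 * z 2) * z 4 by group, hc 3 2]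
      group
    have e134 : z 0 = z 2 * (z 1 * z 3 * z 4) := by
      rw [h0, show z 2 * (z 1 * z 3 * z 4) = (z 2 * z 1) * z 3 * z 4 by group, hc 2 1]
    have e234 : z 0 = z 1 * (z 2 * z 3 * z 4) := by
      rw [h0]; group
    have key : ∀ i : Fin 5, i ≠ 0 → z 0 ≠ z i := fun i hi h => hi (m.inj h).symm
    funext i
    rcases h_0 : a 0 with _ | _ <;> rcases h_1 : a 1 with _ | _ <;> rcases h_2 : a 2 with _ | _ <;>
      rcases h_3 : a 3 with _ | _ <;> rw [h_0, h_1, h_2, h_3] at ha <;>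
      simp only [cond_true, cond_false, one_mul, mul_one] at ha
    · fin_cases i <;> assumption
    · exact absurd ha (m.ne_one 4)
    · exact absurd ha (m.ne_one 3)
    · exact absurd ha (hne 3 4 (by decide))
    · exact absurd ha (m.ne_one 2)
    · exact absurd ha (hne 2 4 (by decide))
    · exact absurd ha (hne 2 3 (by decide))
    · exact absurd (h3 e234 ha) (key 1 (by decide))
    · exact absurd ha (m.ne_one 1)
    · exact absurd ha (hne 1 4 (by decide))
    · exact absurd ha (hne 1 3 (by decide))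
    · exact absurd (h3 e134 ha) (key 2 (by decide))
    · exact absurd ha (hne 1 2 (by decide))
    · exact absurd (h3 e124 ha) (key 3 (by decide))
    · exact absurd (h3 e123 ha) (key 4 (by decide))
    · exact absurd (h0.trans ha) (m.ne_one 0)

theorem minus_le {x : G} (hx : x ∈ zl S P) : ∃ a, x = mm ![z 1, z 2, z 3, z 4] a := by
  have D := minus_ind m
  apply D.exists_mm
  rw [← m.gen] at hx
  have h1 : closure (Set.range z) ≤ closure (Set.range ![z 1, z 2, z 3, z 4]) := by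
    rw [closure_le]
    rintro _ ⟨i, rfl⟩
    have h2 : ∀ i : Fin 4, ![z 1, z 2, z 3, z 4] i ∈ closure (Set.range ![z 1, z 2, z 3, z 4]) := fun i =>
      subset_closure ⟨i, rfl⟩
    fin_cases i
    · change z 0 ∈ _
      rw [minus_zero m]
      exact mul_mem (mul_mem (mul_mem (h2 0) (h2 1)) (h2 2)) (h2 3)
    · exact h2 0
    · exact h2 1
    · exact h2 2
    · exact h2 3
  exact h1 hx

theorem minus_mem (a : Fin 4 → Bool) : mm ![z 1, z 2, z 3, z 4] a ∈ zl S P := by
  have h1 : ∀ i, z i ∈ zl S P := fun i => by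
    rw [← m.gen]; exact subset_closure ⟨i, rfl⟩
  have h2 : ∀ (i : Fin 5) (x : Bool), (bif x then z i else 1) ∈ zl S P := by
    intro i x
    cases x
    · exact one_mem _
    · exact h1 i
  exact mul_mem (mul_mem (mul_mem (h2 1 _) (h2 2 _)) (h2 3 _)) (h2 4 _)

end minus

/-! ### `Plus2` -/

section plus

variable {S P : Subgroup G} {z : Fin 3 → Fin 3 → G} (m : NO1.Plus2 S P z)
include m

theorem plus_inv (i j : Fin 3) : (z i j)⁻¹ = z i j := inv_eq_of_mul_eq_one_left (m.sq i j)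

theorem plus_row (i : Fin 3) : z i 2 = z i 0 * z i 1 := by
  have h1 := m.row i
  have h2 : z i 2 = (z i 0 * z i 1)⁻¹ := eq_inv_of_mul_eq_one_right h1
  rw [h2, mul_inv_rev, plus_inv m, plus_inv m, m.comm]

theorem plus_col (j : Fin 3) : z 2 j = z 0 j * z 1 j := by
  have h1 := m.col j
  have h2 : z 2 j = (z 0 j * z 1 j)⁻¹ := eq_inv_of_mul_eq_one_right h1
  rw [h2, mul_inv_rev, plus_inv m, plus_inv m, m.comm]

theorem plus_ind : Ind ![z 0 0, z 0 1, z 1 0, z 1 1] := by
  have hne : ∀ i j k l : Fin 3, ¬ (i = k ∧ j = l) → z i j * z k l ≠ 1 := by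
    intro i j k l hij h
    apply hij
    apply m.inj
    calc z i j = z i j * (z k l * z k l) := by rw [m.sq, mul_one]
      _ = z i j * z k l * z k l := by group
      _ = z k l := by rw [h, one_mul]
  have r0 := plus_row m 0
  have r1 := plus_row m 1
  have c0 := plus_col m 0
  have c1 := plus_col m 1
  have c2 := plus_col m 2
  refine ⟨?_, ?_, ?_⟩
  · intro i j
    fin_cases i <;> fin_cases j <;> exact m.comm _ _ _ _
  · intro i
    fin_cases i <;> exact m.sq _ _
  · intro a ha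
    have hc := m.comm
    simp only [mm, Matrix.cons_val_zero, Matrix.cons_val_one, Matrix.cons_val] at ha
    funext i
    rcases h_0 : a 0 with _ | _ <;> rcases h_1 : a 1 with _ | _ <;> rcases h_2 : a 2 with _ | _ <;>
      rcases h_3 : a 3 with _ | _ <;> rw [h_0, h_1, h_2, h_3] at ha <;>
      simp only [cond_true, cond_false, one_mul, mul_one] at ha
    · fin_cases i <;> assumption
    · exact absurd ha (m.ne_one 1 1)
    · exact absurd ha (m.ne_one 1 0)
    · exact absurd ha (hne 1 0 1 1 (by decide))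
    · exact absurd ha (m.ne_one 0 1)
    · exact absurd ha (hne 0 1 1 1 (by decide))
    · exact absurd ha (hne 0 1 1 0 (by decide))
    · rw [mul_assoc, ← r1] at ha
      exact absurd ha (hne 0 1 1 2 (by decide))
    · exact absurd ha (m.ne_one 0 0)
    · exact absurd ha (hne 0 0 1 1 (by decide))
    · exact absurd ha (hne 0 0 1 0 (by decide))
    · rw [mul_assoc, ← r1] at ha
      exact absurd ha (hne 0 0 1 2 (by decide))
    · exact absurd ha (hne 0 0 0 1 (by decide))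
    · rw [← r0] at ha
      exact absurd ha (hne 0 2 1 1 (by decide))
    · rw [← r0] at ha
      exact absurd ha (hne 0 2 1 0 (by decide))
    · rw [mul_assoc, ← r0, ← r1, ← c2] at ha
      exact absurd ha (m.ne_one 2 2)

theorem plus_le {x : G} (hx : x ∈ zl S P) : ∃ a, x = mm ![z 0 0, z 0 1, z 1 0, z 1 1] a := by
  have D := plus_ind m
  apply D.exists_mm
  rw [← m.gen] at hx
  have h1 : closure (Set.range fun x : Fin 3 × Fin 3 => z x.1 x.2) ≤
      closure (Set.range ![z 0 0, z 0 1, z 1 0, z 1 1]) := by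
    rw [closure_le]
    rintro _ ⟨⟨i, j⟩, rfl⟩
    have h2 : ∀ i : Fin 4, ![z 0 0, z 0 1, z 1 0, z 1 1] i ∈ closure (Set.range ![z 0 0, z 0 1, z 1 0, z 1 1]) :=
      fun i => subset_closure ⟨i, rfl⟩
    have k00 : z 0 0 ∈ closure (Set.range ![z 0 0, z 0 1, z 1 0, z 1 1]) := h2 0
    have k01 : z 0 1 ∈ closure (Set.range ![z 0 0, z 0 1, z 1 0, z 1 1]) := h2 1
    have k10 : z 1 0 ∈ closure (Set.range ![z 0 0, z 0 1, z 1 0, z 1 1]) := h2 2
    have k11 : z 1 1 ∈ closure (Set.range ![z 0 0, z 0 1, z 1 0, z 1 1]) := h2 3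
    have k02 : z 0 2 ∈ closure (Set.range ![z 0 0, z 0 1, z 1 0, z 1 1]) := by
      rw [plus_row m]; exact mul_mem k00 k01
    have k12 : z 1 2 ∈ closure (Set.range ![z 0 0, z 0 1, z 1 0, z 1 1]) := by
      rw [plus_row m]; exact mul_mem k10 k11
    have k2 : ∀ j, z 0 j ∈ closure (Set.range ![z 0 0, z 0 1, z 1 0, z 1 1]) →
        z 1 j ∈ closure (Set.range ![z 0 0, z 0 1, z 1 0, z 1 1]) →
        z 2 j ∈ closure (Set.range ![z 0 0, z 0 1, z 1 0, z 1 1]) := by
      intro j a b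
      rw [plus_col m]; exact mul_mem a b
    change z i j ∈ _
    fin_cases i <;> fin_cases j
    · exact k00
    · exact k01
    · exact k02
    · exact k10
    · exact k11
    · exact k12
    · exact k2 0 k00 k10
    · exact k2 1 k01 k11
    · exact k2 2 k02 k12
  exact h1 hx

theorem plus_mem (a : Fin 4 → Bool) : mm ![z 0 0, z 0 1, z 1 0, z 1 1] a ∈ zl S P := by
  have h1 : ∀ i j, z i j ∈ zl S P := fun i j => by
    rw [← m.gen]; exact subset_closure ⟨(i, j), rfl⟩
  have h2 : ∀ (i j : Fin 3) (x : Bool), (bif x then z i j else 1) ∈ zl S P := by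
    intro i j x
    cases x
    · exact one_mem _
    · exact h1 i j
  exact mul_mem (mul_mem (mul_mem (h2 0 0 _) (h2 0 1 _)) (h2 1 0 _)) (h2 1 1 _)

end plus

/-- the group of all `mm z a` has order 16 -/
theorem card_of_mm {W : Subgroup G} {z : Fin 4 → G} (D : Ind z) (h1 : ∀ a, mm z a ∈ W)
    (h2 : ∀ x ∈ W, ∃ a, x = mm z a) : Nat.card W = 16 := by
  let f : (Fin 4 → Bool) → W := fun a => ⟨mm z a, h1 a⟩
  have hf : Function.Bijective f := by
    constructor
    · intro a b hab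
      exact D.inj (congrArg Subtype.val hab)
    · rintro ⟨x, hx⟩
      obtain ⟨a, rfl⟩ := h2 x hx
      exact ⟨a, rfl⟩
  rw [← Nat.card_congr (Equiv.ofBijective f hf)]
  simp

/-- an element of `R` outside `{1, z}` -/
theorem exists_of_card {R : Subgroup G} (hR : Nat.card R = 4) (z : G) : ∃ x ∈ R, x ≠ 1 ∧ x ≠ z := by
  classical
  by_contra hcon
  push Not at hcon
  have h3 : Nat.card R ≤ Nat.card Bool := by
    apply Nat.card_le_card_of_injective (fun x : R => decide ((x : G) = 1))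
    rintro ⟨x, hx⟩ ⟨y, hy⟩ hxy
    have h4 : (x = 1 ↔ y = 1) := by simpa using hxy
    apply Subtype.ext
    change x = y
    by_cases h5 : x = 1
    · rw [h5, h4.1 h5]
    · rw [hcon x hx h5, hcon y hy (fun h6 => h5 (h4.2 h6))]
  rw [hR, Nat.card_eq_fintype_card, Fintype.card_bool] at h3
  omega

namespace Core

variable {F T : Type*} [Field F] [AddCommGroup T] [Module F T]
  {V R Q X : Subgroup G} {e : F → T → F → G} {N : T → F} {B : T → T → F}

variable [Finite G] (S : Sylow 2 G) (h : Core (S : Subgroup G) V R Q X e N B) (hG : IsCharacteristicTwoType G)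
  (hZ : zc (S : Subgroup G) ≠ ⊥)

omit [Finite G] in
theorem S_le_norm_zl {P : Subgroup G} (hP : IsParS (S : Subgroup G) P) :
    (S : Subgroup G) ≤ normalizer (zl (S : Subgroup G) P : Set G) := hP.isLoc.le.trans (le_normalizer_zl _ _)

include hG in
theorem zl_le_S {P : Subgroup G} (hP : IsParS (S : Subgroup G) P) : zl (S : Subgroup G) P ≤ (S : Subgroup G) :=
  (hP.isLoc.zl_le S hG).trans ((zc_le _).trans (hP.isLoc.o2_le S))

include h hG hZ

/-- common part of `not_minus2`, `not_plus2` -/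
theorem small_step {P : Subgroup G} (hP : IsParS (S : Subgroup G) P) (hPQ : ¬ zl (S : Subgroup G) P ≤ Q)
    {z : Fin 4 → G} (D : Ind z) (h1 : ∀ a, mm z a ∈ zl (S : Subgroup G) P)
    (h2 : ∀ x ∈ zl (S : Subgroup G) P, ∃ a, x = mm z a) {s : Fin 4 → Bool} (hs : mm z s ∈ zc (S : Subgroup G))
    (hs0 : s ≠ fun _ => false) :
    ∃ a, a ≠ (fun _ => false) ∧ a ≠ s ∧ mm z a ∈ R ∧ Nat.card R = 4 ∧ mm z s ∈ R := by
  have hSW := S_le_norm_zl S hP
  have hWS := zl_le_S S hG hP
  have h3 := card_of_mm D h1 h2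
  have h4 := h.card_R_of S hG hZ hWS hSW hPQ h3
  obtain ⟨h5, -⟩ := h.R_le_of S hG hZ hWS hSW hPQ
  obtain ⟨x, hx, hx1, hx2⟩ := exists_of_card h4 (mm z s)
  obtain ⟨a, rfl⟩ := h2 x (h5 hx)
  refine ⟨a, ?_, ?_, hx, h4, h.Z_R hs⟩
  · rintro rfl
    exact hx1 Ind.mm_zero
  · rintro rfl
    exact hx2 rfl

/-- **`Minus2` is impossible.** -/
theorem not_minus2 {P : Subgroup G} (hP : IsParS (S : Subgroup G) P) {z : Fin 5 → G}
    (m : NO1.Minus2 (S : Subgroup G) P z) (hPQ : ¬ zl (S : Subgroup G) P ≤ Q) : False := by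
  have D := minus_ind m
  have hz0 : mm ![z 1, z 2, z 3, z 4] (fun _ => true) ∈ zc (S : Subgroup G) := by
    rw [← minus_mm m, m.Z]; exact mem_zpowers _
  obtain ⟨a, ha0, has, haR, hR4, hsR⟩ := h.small_step S hG hZ hP hPQ D (minus_mem m) (fun x hx => minus_le m hx)
    hz0 (by decide)
  have hst : ∀ {g : G}, g * z 0 * g⁻¹ = z 0 → ∀ x ∈ R, g * x * g⁻¹ ∈ R := by
    intro g hg x hx
    have h1 : z 0 ∈ R := by rw [minus_mm m]; exact hsR
    exact h.R_nor (h.ti S hG hZ h1 (m.ne_one 0) (by rw [hg]; exact h1)) hx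
  obtain ⟨g, -, hg⟩ := m.alt c[1, 2, 3] (by rw [Equiv.Perm.mem_alternatingGroup]; decide)
  obtain ⟨k, -, hk⟩ := m.alt c[2, 3, 4] (by rw [Equiv.Perm.mem_alternatingGroup]; decide)
  have hgz : ∀ i : Fin 4, g * ![z 1, z 2, z 3, z 4] i * g⁻¹ = mm ![z 1, z 2, z 3, z 4]
      (![![false, true, false, false], ![false, false, true, false], ![true, false, false, false],
        ![false, false, false, true]] i) := by
    have e1 : (c[1, 2, 3] : Equiv.Perm (Fin 5)) 1 = 2 := by decide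
    have e2 : (c[1, 2, 3] : Equiv.Perm (Fin 5)) 2 = 3 := by decide
    have e3 : (c[1, 2, 3] : Equiv.Perm (Fin 5)) 3 = 1 := by decide
    have e4 : (c[1, 2, 3] : Equiv.Perm (Fin 5)) 4 = 4 := by decide
    intro i
    fin_cases i
    · refine (hg 1).trans ?_
      rw [e1]; simp [mm]
    · refine (hg 2).trans ?_
      rw [e2]; simp [mm]
    · refine (hg 3).trans ?_
      rw [e3]; simp [mm]
    · refine (hg 4).trans ?_
      rw [e4]; simp [mm]
  have hkz : ∀ i : Fin 4, k * ![z 1, z 2, z 3, z 4] i * k⁻¹ = mm ![z 1, z 2, z 3, z 4]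
      (![![true, false, false, false], ![false, false, true, false], ![false, false, false, true],
        ![false, true, false, false]] i) := by
    have e1 : (c[2, 3, 4] : Equiv.Perm (Fin 5)) 1 = 1 := by decide
    have e2 : (c[2, 3, 4] : Equiv.Perm (Fin 5)) 2 = 3 := by decide
    have e3 : (c[2, 3, 4] : Equiv.Perm (Fin 5)) 3 = 4 := by decide
    have e4 : (c[2, 3, 4] : Equiv.Perm (Fin 5)) 4 = 2 := by decide
    intro i
    fin_cases i
    · refine (hk 1).trans ?_
      rw [e1]; simp [mm]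
    · refine (hk 2).trans ?_
      rw [e2]; simp [mm]
    · refine (hk 3).trans ?_
      rw [e3]; simp [mm]
    · refine (hk 4).trans ?_
      rw [e4]; simp [mm]
  have e0 : (c[1, 2, 3] : Equiv.Perm (Fin 5)) 0 = 0 := by decide
  have e0' : (c[2, 3, 4] : Equiv.Perm (Fin 5)) 0 = 0 := by decide
  have hg0 : g * z 0 * g⁻¹ = z 0 := by rw [hg, e0]
  have hk0 : k * z 0 * k⁻¹ = z 0 := by rw [hk, e0']
  have f1 := four_of hR4 D hsR haR (by decide) ha0 has hgz (hst hg0 _ haR)
  have f2 := four_of hR4 D hsR haR (by decide) ha0 has hkz (hst hk0 _ haR)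
  clear hgz hkz haR
  revert a
  decide

/-- **`Plus2` is impossible.** -/
theorem not_plus2 {P : Subgroup G} (hP : IsParS (S : Subgroup G) P) {z : Fin 3 → Fin 3 → G}
    (m : NO1.Plus2 (S : Subgroup G) P z) (hPQ : ¬ zl (S : Subgroup G) P ≤ Q) : False := by
  have D := plus_ind m
  have hz00 : z 0 0 = mm ![z 0 0, z 0 1, z 1 0, z 1 1] ![true, false, false, false] := by simp [mm]
  have hz0 : mm ![z 0 0, z 0 1, z 1 0, z 1 1] ![true, false, false, false] ∈ zc (S : Subgroup G) := by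
    rw [← hz00, m.Z]; exact mem_zpowers _
  obtain ⟨a, ha0, has, haR, hR4, hsR⟩ := h.small_step S hG hZ hP hPQ D (plus_mem m) (fun x hx => plus_le m hx)
    hz0 (by decide)
  have h00R : z 0 0 ∈ R := by rw [hz00]; exact hsR
  have hst : ∀ {g y : G}, y ∈ R → y ≠ 1 → g * y * g⁻¹ = y → ∀ x ∈ R, g * x * g⁻¹ ∈ R := by
    intro g y hy hy1 hg x hx
    exact h.R_nor (h.ti S hG hZ hy hy1 (by rw [hg]; exact hy)) hx
  have s0 : (Equiv.swap 1 2 : Equiv.Perm (Fin 3)) 0 = 0 := by decide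
  have s1 : (Equiv.swap 1 2 : Equiv.Perm (Fin 3)) 1 = 2 := by decide
  obtain ⟨g, -, hg⟩ := m.full (Equiv.swap 1 2) 1
  obtain ⟨k, -, hk⟩ := m.full 1 (Equiv.swap 1 2)
  obtain ⟨w, -, hw⟩ := m.swap
  have hgz : ∀ i : Fin 4, g * ![z 0 0, z 0 1, z 1 0, z 1 1] i * g⁻¹ = mm ![z 0 0, z 0 1, z 1 0, z 1 1]
      (![![true, false, false, false], ![false, true, false, false], ![true, false, true, false],
        ![false, true, false, true]] i) := by
    intro i
    fin_cases i
    · refine (hg 0 0).trans ?_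
      rw [s0]; simp [mm]
    · refine (hg 0 1).trans ?_
      rw [s0]; simp [mm]
    · refine (hg 1 0).trans ?_
      rw [s1, Equiv.Perm.one_apply, plus_col m]; simp [mm]
    · refine (hg 1 1).trans ?_
      rw [s1, Equiv.Perm.one_apply, plus_col m]; simp [mm]
  have hkz : ∀ i : Fin 4, k * ![z 0 0, z 0 1, z 1 0, z 1 1] i * k⁻¹ = mm ![z 0 0, z 0 1, z 1 0, z 1 1]
      (![![true, false, false, false], ![true, true, false, false], ![false, false, true, false],
        ![false, false, true, true]] i) := by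
    intro i
    fin_cases i
    · refine (hk 0 0).trans ?_
      rw [s0]; simp [mm]
    · refine (hk 0 1).trans ?_
      rw [s1, Equiv.Perm.one_apply, plus_row m]; simp [mm]
    · refine (hk 1 0).trans ?_
      rw [s0]; simp [mm]
    · refine (hk 1 1).trans ?_
      rw [s1, Equiv.Perm.one_apply, plus_row m]; simp [mm]
  have hwz : ∀ i : Fin 4, w * ![z 0 0, z 0 1, z 1 0, z 1 1] i * w⁻¹ = mm ![z 0 0, z 0 1, z 1 0, z 1 1]
      (![![true, false, false, false], ![false, false, true, false], ![false, true, false, false],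
        ![false, false, false, true]] i) := by
    intro i
    fin_cases i
    · refine (hw 0 0).trans ?_
      simp [mm]
    · refine (hw 0 1).trans ?_
      simp [mm]
    · refine (hw 1 0).trans ?_
      simp [mm]
    · refine (hw 1 1).trans ?_
      simp [mm]
  have f1 := four_of hR4 D hsR haR (by decide) ha0 has hgz
    (hst h00R (m.ne_one 0 0) (by rw [hg, s0]; rfl) _ haR)
  have f2 := four_of hR4 D hsR haR (by decide) ha0 has hkz
    (hst h00R (m.ne_one 0 0) (by rw [hk, s0]; rfl) _ haR)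
  have f3 := four_of hR4 D hsR haR (by decide) ha0 has hwz
    (hst h00R (m.ne_one 0 0) (hw 0 0) _ haR)
  -- `z01 z10 ∈ R`
  have hc : mm ![z 0 0, z 0 1, z 1 0, z 1 1] ![false, true, true, false] ∈ R := by
    have h1 : a = ![false, true, true, false] ∨ a = ![true, true, true, false] := by
      clear hgz hkz hwz haR
      revert a
      decide
    rcases h1 with h1 | h1
    · rw [← h1]; exact haR
    · have h2 : ad a ![true, false, false, false] = ![false, true, true, false] := by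
        rw [h1]; decide
      rw [← h2, ← D.mm_mul]
      exact mul_mem haR hsR
  have hne : mm ![z 0 0, z 0 1, z 1 0, z 1 1] ![false, true, true, false] ≠ 1 := by
    intro h1
    exact absurd (D.ind _ h1) (by decide)
  -- the element exchanging `z00` and `z11`
  have t0 : (Equiv.swap 0 1 : Equiv.Perm (Fin 3)) 0 = 1 := by decide
  have t1 : (Equiv.swap 0 1 : Equiv.Perm (Fin 3)) 1 = 0 := by decide
  obtain ⟨n, -, hn⟩ := m.full (Equiv.swap 0 1) (Equiv.swap 0 1)
  have hnz : ∀ i : Fin 4, n * ![z 0 0, z 0 1, z 1 0, z 1 1] i * n⁻¹ = mm ![z 0 0, z 0 1, z 1 0, z 1 1]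
      (![![false, false, false, true], ![false, false, true, false], ![false, true, false, false],
        ![true, false, false, false]] i) := by
    intro i
    fin_cases i
    · refine (hn 0 0).trans ?_
      rw [t0]; simp [mm]
    · refine (hn 0 1).trans ?_
      rw [t0, t1]; simp [mm]
    · refine (hn 1 0).trans ?_
      rw [t0, t1]; simp [mm]
    · refine (hn 1 1).trans ?_
      rw [t1]; simp [mm]
  have hnc : n * mm ![z 0 0, z 0 1, z 1 0, z 1 1] ![false, true, true, false] * n⁻¹ =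
      mm ![z 0 0, z 0 1, z 1 0, z 1 1] ![false, true, true, false] := by
    rw [D.conj hnz]
    congr 1
    decide
  have f4 := four_of hR4 D hsR hc (by decide) (by decide) (by decide) hnz (hst hc hne hnc _ hsR)
  revert f4
  decide

end Core

end Cfsg.Agent.Omega.All.NOne

end

section


/-!
# THEOREM ALL-N1: the type `Nat4` does not coexist with `Core` (bb #16847 (4), helper983, helper940)

`V' = zl S P = F₄²`, `V' ≰ Q`: the transvections of `SL₂(4)` fixing `Z` normalise `R` (TI), so `R` is the `F₄`-point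
of `Z`; the torus normalises `R`, `Q` and `V' ∩ Q`, so `V' ≤ Q`.
-/

set_option autoImplicit false
set_option linter.unusedSectionVars false

namespace Cfsg.Agent.Omega.All.NOne

open Subgroup Cfsg Cfsg.Agent.ZN Cfsg.Agent.Omega.MinPar
open Cfsg.Agent.Omega.FrameFF (NatOver)
open Cfsg.Agent.Omega.NatPair (ap dt dt_add dt_smul exists_smul_of_dt exists_comb)

universe u

variable {G : Type u} [Group G]

/-- `NatOver`, `D = 1`: `e` is injective on `V`. -/
theorem natOver_inj {F : Type} [Field F] {N V : Subgroup G} (M : NatOver F N V ⊥) {v w : G} (hv : v ∈ V)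
    (hw : w ∈ V) (h : M.e v = M.e w) : v = w := by
  have h1 : M.e 1 = 0 := (M.ker 1 (one_mem V)).2 (one_mem _)
  have h2 : M.e w + M.e w⁻¹ = 0 := by
    rw [← M.mul w hw _ (inv_mem hw), mul_inv_cancel, h1]
  have h3 : M.e (v * w⁻¹) = 0 := by
    rw [M.mul v hv _ (inv_mem hw), h, h2]
  have h4 := (M.ker _ (mul_mem hv (inv_mem hw))).1 h3
  rw [mem_bot] at h4
  exact mul_inv_eq_one.1 h4

/-- `|V| = |F|²` -/
theorem natOver_card {F : Type} [Field F] [Finite F] {N V : Subgroup G} (M : NatOver F N V ⊥) :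
    Nat.card V = Nat.card F ^ 2 := by
  have h1 : Function.Bijective (fun v : V => M.e v.1) := by
    constructor
    · intro v w hvw
      exact Subtype.ext (natOver_inj M v.2 w.2 hvw)
    · intro x
      obtain ⟨v, hv, h⟩ := M.surj x
      exact ⟨⟨v, hv⟩, h⟩
  rw [Nat.card_congr (Equiv.ofBijective _ h1), Nat.card_fun, Nat.card_eq_fintype_card (α := Fin 2),
    Fintype.card_fin]

namespace Core

variable {F T : Type*} [Field F] [AddCommGroup T] [Module F T]
  {V R Q X : Subgroup G} {e : F → T → F → G} {N : T → F} {B : T → T → F}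

variable [Finite G] (S : Sylow 2 G) (h : Core (S : Subgroup G) V R Q X e N B) (hG : IsCharacteristicTwoType G)
  (hZ : zc (S : Subgroup G) ≠ ⊥)
include h hG hZ

/-- another `P' ∈ P*(S)` is not of type `Nat4` (unless `V_P' ≤ Q`) -/
theorem not_nat4 {P : Subgroup G} (hP : IsParS (S : Subgroup G) P) (h4 : NO1.Nat4 (S : Subgroup G) P)
    (hPQ : ¬ zl (S : Subgroup G) P ≤ Q) : False := by
  obtain ⟨F', iF, iFin, iCh, hc4, ⟨M⟩⟩ := h4.nat
  set W := zl (S : Subgroup G) P with hW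
  have hPW : P ≤ normalizer (W : Set G) := le_normalizer_zl _ _
  have hSW : (S : Subgroup G) ≤ normalizer (W : Set G) := hP.isLoc.le.trans hPW
  have hWS : W ≤ (S : Subgroup G) :=
    (hP.isLoc.zl_le S hG).trans ((zc_le _).trans (hP.isLoc.o2_le S))
  have hWc : Nat.card W = 16 := by rw [natOver_card M, hc4]; norm_num
  have hR4 : Nat.card R = 4 := h.card_R_of S hG hZ hWS hSW hPQ hWc
  obtain ⟨hRW, w, hwW, hwQ, hwR⟩ := h.R_le_of S hG hZ hWS hSW hPQ
  obtain ⟨z, hz1⟩ := Subgroup.ne_bot_iff_exists_ne_one.1 hZ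
  have hz1' : (z : G) ≠ 1 := fun h0 => hz1 (Subtype.ext h0)
  have hzR : (z : G) ∈ R := h.Z_R z.2
  have hzW : (z : G) ∈ W := hRW hzR
  have hPc : ∀ {g v : G}, g ∈ P → v ∈ W → g * v * g⁻¹ ∈ W := fun hg hv =>
    (mem_normalizer_iff.1 (hPW hg) _).1 hv
  set x0 := M.e z with hx0
  have hx0n : x0 ≠ 0 := by
    intro h0
    have h1 := (M.ker z hzW).1 h0
    exact hz1' ((mem_bot).1 h1)
  have hdd : dt x0 x0 = 0 := by unfold dt; ring
  have finF : Finite (Option F') := inferInstance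
  have hO : Nat.card (Option F') = 5 := by rw [Finite.card_option, hc4]
  -- `e a ∈ F' x0` for `a ∈ R`
  have claim1 : ∀ a ∈ R, dt x0 (M.e a) = 0 := by
    intro a ha
    by_contra hd
    have h1 : ∀ c : F', ∃ r ∈ R, M.e r = M.e a + c • x0 := by
      intro c
      have h2 : dt x0 (M.e a + c • x0) = dt x0 (M.e a) := by
        rw [dt_add, dt_smul, hdd, mul_zero, add_zero]
      obtain ⟨A, hA1, hA2⟩ := NatPair.NormExc.exists_ap2 hd h2
      obtain ⟨g, hg, hg', -⟩ := M.lift A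
      have h3 : g * z * g⁻¹ = z := by
        apply natOver_inj M (hPc hg hzW) hzW
        rw [hg' z hzW, ← hx0, hA1]
      have h4 : g ∈ normalizer (R : Set G) := by
        apply h.ti S hG hZ hzR hz1'
        rw [h3]; exact hzR
      exact ⟨g * a * g⁻¹, h.R_nor h4 ha, by rw [hg' a (hRW ha), hA2]⟩
    choose r hr hr' using h1
    let f : Option F' → R := fun o => o.elim ⟨1, one_mem _⟩ fun c => ⟨r c, hr c⟩
    have hf : Function.Injective f := by
      have hne : ∀ c, r c ≠ 1 := by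
        intro c h0
        apply hd
        have h5 := hr' c
        rw [h0, (M.ker 1 (one_mem _)).2 (one_mem _)] at h5
        have h6 : dt x0 (M.e a + c • x0) = dt x0 (M.e a) := by
          rw [dt_add, dt_smul, hdd, mul_zero, add_zero]
        rw [← h6, ← h5]
        unfold dt; simp
      intro o o' hoo
      rcases o with _ | c <;> rcases o' with _ | c'
      · rfl
      · exact absurd (congrArg Subtype.val hoo).symm (hne c')
      · exact absurd (congrArg Subtype.val hoo) (hne c)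
      · have h5 : r c = r c' := congrArg Subtype.val hoo
        have h6 : c • x0 = c' • x0 := by
          have h7 := hr' c
          rw [h5, hr' c'] at h7
          exact (add_left_cancel h7).symm
        rw [smul_left_injective F' hx0n h6]
    have := Nat.card_le_card_of_injective f hf
    rw [hO, hR4] at this
    omega
  -- `R` is the whole point
  have claim2 : ∀ v ∈ W, dt x0 (M.e v) = 0 → v ∈ R := by
    intro v hv hd
    by_contra hvR
    have h1 : ∀ o : Option R, ∃ c : F', (o.elim (M.e v) fun a => M.e a) = c • x0 := by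
      intro o
      apply exists_smul_of_dt hx0n
      rcases o with _ | a
      · exact hd
      · exact claim1 a a.2
    choose c hc using h1
    have hf : Function.Injective c := by
      intro o o' hoo
      have h2 := hc o
      rw [hoo, ← hc o'] at h2
      rcases o with _ | a <;> rcases o' with _ | a'
      · rfl
      · exact absurd (by rw [natOver_inj M hv (hRW a'.2) h2]; exact a'.2) hvR
      · exact absurd (by rw [← natOver_inj M (hRW a.2) hv h2]; exact a.2) hvR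
      · rw [Subtype.ext (natOver_inj M (hRW a.2) (hRW a'.2) h2)]
    have h3 := Nat.card_le_card_of_injective c hf
    rw [Finite.card_option, hR4, hc4] at h3
    omega
  -- the torus
  set y0 := M.e w with hy0
  have hd : dt x0 y0 ≠ 0 := fun h0 => hwR (claim2 w hwW h0)
  obtain ⟨l, hl0, hl1⟩ : ∃ l : F', l ≠ 0 ∧ l ≠ 1 := by
    by_contra hcon
    push Not at hcon
    classical
    have h1 : Function.Injective (fun x : F' => decide (x = 0)) := by
      intro x y hxy
      replace hxy : (x = 0) ↔ (y = 0) := decide_eq_decide.1 hxy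
      by_cases hx : x = 0
      · rw [hx, hxy.1 hx]
      · have hy : y ≠ 0 := fun h0 => hx (hxy.2 h0)
        rw [hcon x hx, hcon y hy]
    have h2 := Nat.card_le_card_of_injective _ h1
    rw [hc4, Nat.card_eq_fintype_card, Fintype.card_bool] at h2
    omega
  have h2 : dt (l • x0) (l⁻¹ • y0) = dt x0 y0 := by
    have : dt (l • x0) (l⁻¹ • y0) = l * l⁻¹ * dt x0 y0 := by
      unfold dt; simp only [Pi.smul_apply, smul_eq_mul]; ring
    rw [this, mul_inv_cancel₀ hl0, one_mul]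
  obtain ⟨A, hA1, hA2⟩ := NatPair.NormExc.exists_ap2 hd h2
  obtain ⟨g, hg, hg', -⟩ := M.lift A
  have hgR : g ∈ normalizer (R : Set G) := by
    apply h.ti S hG hZ hzR hz1'
    apply claim2 _ (hPc hg hzW)
    rw [hg' z hzW, ← hx0, hA1, dt_smul, hdd, mul_zero]
  have hw2 : g * w * g⁻¹ ∈ W ⊓ Q := ⟨hPc hg hwW, h.Q_nor hgR hwQ⟩
  have hw2e : M.e (g * w * g⁻¹) = l⁻¹ • y0 := by rw [hg' w hwW, ← hy0, hA2]
  -- all multiples of `y0`
  have hmul : ∀ c : F', ∃ v ∈ W ⊓ Q, M.e v = c • y0 := by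
    have hlist : ∀ c : F', c = 0 ∨ c = 1 ∨ c = l⁻¹ ∨ c = 1 + l⁻¹ := by
      intro c
      have := Fintype.ofFinite F'
      classical
      have hli0 : l⁻¹ ≠ 0 := inv_ne_zero hl0
      have hli1 : l⁻¹ ≠ 1 := fun h0 => hl1 (inv_eq_one.1 h0)
      have e2 : ∀ x : F', x + x = 0 := fun x => CharTwo.add_self_eq_zero x
      have h7 : ({0, 1, l⁻¹, 1 + l⁻¹} : Finset F') = Finset.univ := by
        apply Finset.eq_univ_of_card
        rw [← Nat.card_eq_fintype_card, hc4, Finset.card_insert_of_notMem, Finset.card_insert_of_notMem,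
          Finset.card_insert_of_notMem, Finset.card_singleton]
        · rw [Finset.mem_singleton]
          intro h0
          exact one_ne_zero (right_eq_add.1 h0)
        · rw [Finset.mem_insert, Finset.mem_singleton]
          push Not
          exact ⟨hli1.symm, fun h0 => hli0 (left_eq_add.1 h0)⟩
        · rw [Finset.mem_insert, Finset.mem_insert, Finset.mem_singleton]
          push Not
          refine ⟨zero_ne_one, hli0.symm, fun h0 => hli1 ?_⟩
          have h8 := e2 1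
          calc l⁻¹ = 0 + l⁻¹ := by rw [zero_add]
            _ = (1 + 1) + l⁻¹ := by rw [h8]
            _ = 1 + (1 + l⁻¹) := by rw [add_assoc]
            _ = 1 := by rw [← h0, add_zero]
      have h8 : c ∈ ({0, 1, l⁻¹, 1 + l⁻¹} : Finset F') := by rw [h7]; exact Finset.mem_univ _
      rwa [Finset.mem_insert, Finset.mem_insert, Finset.mem_insert, Finset.mem_singleton] at h8
    have hwWQ : w ∈ W ⊓ Q := ⟨hwW, hwQ⟩
    intro c
    rcases hlist c with rfl | rfl | rfl | rfl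
    · exact ⟨1, one_mem _, by rw [zero_smul]; exact (M.ker 1 (one_mem _)).2 (one_mem _)⟩
    · exact ⟨w, hwWQ, by rw [one_smul]⟩
    · exact ⟨_, hw2, hw2e⟩
    · exact ⟨w * (g * w * g⁻¹), mul_mem hwWQ hw2, by rw [M.mul w hwW _ hw2.1, hw2e, add_smul, one_smul]⟩
  apply hPQ
  intro v hv
  obtain ⟨a, b, hab⟩ := exists_comb hd (M.e v)
  obtain ⟨v1, hv1, hv1e⟩ := M.surj (a • x0)
  obtain ⟨v2, hv2, hv2e⟩ := hmul b
  have hv1R : v1 ∈ R := by
    apply claim2 v1 hv1
    rw [hv1e, dt_smul, hdd, mul_zero]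
  have h5 : v = v1 * v2 := by
    apply natOver_inj M hv (mul_mem hv1 hv2.1)
    rw [M.mul v1 hv1 v2 hv2.1, hv1e, hv2e, hab]
  rw [h5]
  exact mul_mem (h.R_Q hv1R) hv2.2

end Core

end Cfsg.Agent.Omega.All.NOne

end

section


/-!
# THEOREM NAT (#13408), the output of (0)-(3)

`Cfg S P`, `V = zl S P` one natural `SL₂(F)`-module.  Then `V` is of type `Nat4` (case (α)) or `Quad`:

* `C = C_G(z)`, `Z = ⟨z⟩`, `Q = O₂(C)`, `V₁ = V ∩ Q = C_V(U)` of order 4, `|V| = 16`, `V₁ ≤ Z(Q)`;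
* `H = C_G(V₁)`: `|N_G(V₁) / H| = 6`, `V, Q ≤ O₂(H)`;
* `S ∩ H` induces on `V` the Sylow 2-subgroup `U` of `SL₂(4)`: `[V, x] = V₁ = C_V(x)` for
  `x ∈ S ∩ H`, `[V, x] ≠ 1`;
* `W₀ = ⟨V₁^C⟩` (`ncl C V₁`) : `W₀ ≤ Z(Q)`, `[v, W₀] = V₁` for `v ∈ V - V₁`;
* `t ∈ P` of odd order acts on `V` as `diag(λ, λ⁻¹)`, `λ ≠ 1`.
-/

set_option autoImplicit false
set_option linter.unusedSectionVars false

namespace Cfsg.Agent.Omega.NO1.NatA

open Subgroup Cfsg Cfsg.Agent.ZN Cfsg.Agent.Omega.MinPar Cfsg.Agent.Omega.Frame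
open Cfsg.Agent.Omega.FFThm (NatK)
open Cfsg.Agent.Omega.NOne.NearFF (Fin)

universe u

section defs

variable {G : Type u} [Group G]

/-- `⟨A^C⟩` -/
def ncl (C A : Subgroup G) : Subgroup G := closure {x | ∃ c ∈ C, ∃ a ∈ A, x = c * a * c⁻¹}

/-- **The output of (0)-(3) of THEOREM NAT in the quadratic case.** -/
structure Quad [Finite G] (S : Sylow 2 G) (P : Subgroup G) (z : G) (V V₁ C Q : Subgroup G) : Prop where
  cfg : Cfg S P
  V_eq : V = zl (S : Subgroup G) P
  C_eq : C = centralizer {z}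
  CC_eq : C = NoFF.LinesPlug.CC (S : Subgroup G)
  Q_eq : Q = o2 C
  V1_eq : V₁ = V ⊓ Q
  Z_eq : zc (S : Subgroup G) = zpowers z
  z_ne : z ≠ 1
  z_sq : z * z = 1
  z_mem : z ∈ V₁
  card_V : Nat.card V = 16
  card_V1 : Nat.card V₁ = 4
  /-- `V` is a natural `SL₂(4)`-module, `V₁ = {x 1 = 0}` -/
  nat : ∃ (F : Type) (_ : Field F) (_ : Finite F) (_ : CharP F 2) (M : NatK F (S : Subgroup G) P V ⊥ 1),
    Nat.card F = 4 ∧ ∀ v ∈ V, M.e v 0 1 = 0 ↔ v ∈ V₁
  /-- `P` is transitive on `V - 1` -/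
  trans : ∀ v ∈ V, v ≠ 1 → ∀ w ∈ V, w ≠ 1 → ∃ p ∈ P, p * v * p⁻¹ = w
  /-- `V₁` is normal in `S` -/
  S_le : (S : Subgroup G) ≤ normalizer (V₁ : Set G)
  /-- `Q ≤ H` -/
  Q_le : Q ≤ centralizer (V₁ : Set G)
  /-- `V ≤ R = O₂(H)` -/
  V_le_R : V ≤ o2 (centralizer (V₁ : Set G))
  /-- `Q ≤ R` -/
  Q_le_R : Q ≤ o2 (centralizer (V₁ : Set G))
  /-- `|N_G(V₁) / H| = 6` -/
  index : (centralizer (V₁ : Set G)).relIndex (normalizer (V₁ : Set G)) = 6
  /-- `S ≰ H` -/
  S_not_le : ¬ (S : Subgroup G) ≤ centralizer (V₁ : Set G)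
  /-- `[V, S ∩ H] ≤ V₁` -/
  comm : ∀ x ∈ (S : Subgroup G), x ∈ centralizer (V₁ : Set G) → ∀ v ∈ V, v * x * v⁻¹ * x⁻¹ ∈ V₁
  /-- `C_V(x) ≤ V₁` for `x ∈ S ∩ H` with `[V, x] ≠ 1` -/
  reg : ∀ x ∈ (S : Subgroup G), x ∈ centralizer (V₁ : Set G) → x ∉ centralizer (V : Set G) →
    ∀ v ∈ V, v * x = x * v → v ∈ V₁
  /-- `[V, x] = V₁` for `x ∈ S ∩ H` with `[V, x] ≠ 1` -/
  surj : ∀ x ∈ (S : Subgroup G), x ∈ centralizer (V₁ : Set G) → x ∉ centralizer (V : Set G) →
    ∀ e ∈ V₁, ∃ v ∈ V, v * x * v⁻¹ * x⁻¹ = e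
  /-- `[v, W₀] = V₁` for `v ∈ V - V₁` -/
  full : ∀ v ∈ V, v ∉ V₁ → ∀ e ∈ V₁, ∃ w ∈ ncl C V₁, v * w * v⁻¹ * w⁻¹ = e
  /-- `W₀ ≤ Z(Q)` -/
  W_le : ncl C V₁ ≤ Q ⊓ centralizer (Q : Set G)
  /-- `W₀² = 1` -/
  W_sq : ∀ w ∈ ncl C V₁, w * w = 1
  /-- `|W₀ : C_{W₀}(V)| = 4` -/
  W_index : (centralizer (V : Set G)).relIndex (ncl C V₁) = 4
  /-- a frame at every `v ∈ V - V₁`, `D = Z` -/
  frame : ∀ v ∈ V, v ∉ V₁ → ∃ g ∈ C, Fin V Q v g ∧
    V₁ ⊓ V₁.map (MulAut.conj g).toMonoidHom = zpowers z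
  /-- an element of odd order of `P` acting as `diag(λ, λ⁻¹)`, `λ ≠ 1` -/
  tor : ∃ t ∈ P, Odd (orderOf t) ∧ t ∈ normalizer (V₁ : Set G) ∧
    (∀ v ∈ V, t ^ 3 * v = v * t ^ 3) ∧ (∀ v ∈ V₁, t * v = v * t → v = 1) ∧
    ∀ v ∈ V, t * v * t⁻¹ * v⁻¹ ∈ V₁ → v ∈ V₁

end defs

end Cfsg.Agent.Omega.NO1.NatA

end

end
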