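import Cfsg.Agent.Mrg.Omega.NO1.Fr
import Cfsg.Agent.Mrg.Omega.NO1.HE.Base
import Cfsg.Agent.Mrg.Omega.NO1.HE.Plug
import Mathlib
import Cfsg.Agent.Mrg.Omega.NearFF.Symp
import Cfsg.Agent.Mrg.Omega.NearFF.Geo
import Cfsg.Agent.Mrg.Omega.Transv.Basic

-- merged: Cfsg.Agent.Mrg.Omega.NO1.FrRep
section

/-!
# The bridge from the frames of TEXT B4 to the modules of #17521 (helper438)

`Fr S P M F`, `R : Rep S P (zl S P) Y V T Mx`, (+) give `HE.Pts Y (Y ⧸ Mx)` and
`HE.Fr |V_P : V_P ∩ E_F| T 1 (V_P ∩ E_F) (V_P ∩ F) B`, `B` a complement of the image of `C_W(E)` in the image of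
`W = W_F`.
-/

set_option autoImplicit false
set_option linter.unusedSectionVars false

namespace Cfsg.Agent.Omega.NO1.FrRep

open Subgroup Cfsg Cfsg.Agent.ZN Cfsg.Agent.Omega.MinPar Cfsg.Agent.Omega.Frame
open Cfsg.Agent.Omega.NOne.Flat (Hyp Bad WW NN)
open Cfsg.Agent.Omega.NOne.NearFF (c c_def)
open scoped Pointwise

universe u

section compl

variable {Y : Type u} [Group Y] [Finite Y]

/-- Complements in elementary abelian 2-groups. -/
theorem exists_compl {U N : Subgroup Y} (hc : ∀ a ∈ U, ∀ b ∈ U, a * b = b * a) (hsq : ∀ a ∈ U, a * a = 1)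
    (hN : N ≤ U) : ∃ B ≤ U, B ⊓ N = ⊥ ∧ ∀ u ∈ U, ∃ b ∈ B, ∃ n ∈ N, u = b * n := by
  classical
  obtain ⟨B, hB⟩ := (Set.toFinite {B : Subgroup Y | B ≤ U ∧ B ⊓ N = ⊥}).exists_maximal
    ⟨⊥, bot_le, bot_inf_eq N⟩
  obtain ⟨⟨hBU, hBN⟩, hmax⟩ := hB
  refine ⟨B, hBU, hBN, fun u hu => ?_⟩
  by_contra hcon
  push Not at hcon
  have hu0 : u ∉ B := fun h1 => hcon u h1 1 (one_mem _) (mul_one u).symm
  let B' : Subgroup Y :=
    { carrier := {x | x ∈ B ∨ u * x ∈ B}
      mul_mem' := by
        rintro a b (ha | ha) (hb | hb)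
        · exact Or.inl (mul_mem ha hb)
        · right
          have e : u * (a * b) = a * (u * b) := by
            rw [← mul_assoc, hc u hu a (hBU ha), mul_assoc]
          rw [e]
          exact mul_mem ha hb
        · right
          rw [← mul_assoc]
          exact mul_mem ha hb
        · left
          have hbU : b ∈ U := by
            have := mul_mem hu (hBU hb)
            rwa [← mul_assoc, hsq u hu, one_mul] at this
          have haU : a ∈ U := by
            have := mul_mem hu (hBU ha)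
            rwa [← mul_assoc, hsq u hu, one_mul] at this
          have e : a * b = u * a * (u * b) := by
            calc a * b = u * u * (a * b) := by rw [hsq u hu, one_mul]
              _ = u * (u * a) * b := by group
              _ = u * (a * u) * b := by rw [hc u hu a haU]
              _ = _ := by group
          rw [e]
          exact mul_mem ha hb
      one_mem' := Or.inl (one_mem _)
      inv_mem' := by
        rintro a (ha | ha)
        · exact Or.inl (inv_mem ha)
        · right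
          have haU : a ∈ U := by
            have := mul_mem hu (hBU ha)
            rwa [← mul_assoc, hsq u hu, one_mul] at this
          have h1 : a⁻¹ = a := inv_eq_of_mul_eq_one_left (hsq a haU)
          rw [h1]
          exact ha }
  have h1 : B ≤ B' := fun x hx => Or.inl hx
  have h2 : B' ≤ U := by
    rintro x (hx | hx)
    · exact hBU hx
    · have := mul_mem hu (hBU hx)
      rwa [← mul_assoc, hsq u hu, one_mul] at this
  have h3 : B' ⊓ N = ⊥ := by
    rw [eq_bot_iff]
    rintro x ⟨hx, hxN⟩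
    rcases hx with hx | hx
    · rw [← hBN]; exact ⟨hx, hxN⟩
    · exfalso
      refine hcon _ hx x⁻¹ (inv_mem hxN) ?_
      group
  have h4 : B' ≤ B := hmax ⟨h2, h3⟩ h1
  exact hu0 (h4 (Or.inr (by rw [hsq u hu]; exact one_mem _)))

end compl

variable {G : Type u} [Group G] [Finite G] {S : Sylow 2 G} {P M F : Subgroup G}
  {Y V : Type u} [Group Y] [Finite Y] [AddCommGroup V] [DistribMulAction Y V] {T : Sylow 2 Y} {Mx : Subgroup Y}
  (R : Rep (S : Subgroup G) P (zl (S : Subgroup G) P) Y V T Mx)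

/-- The additive subgroup of the module given by `A ≤ G`. -/
def co (A : Subgroup G) : AddSubgroup V where
  carrier := {m | R.el m ∈ A}
  add_mem' := by
    intro a b ha hb
    change R.el (a + b) ∈ A
    rw [R.add]
    exact mul_mem ha hb
  zero_mem' := by
    change R.el 0 ∈ A
    rw [R.el_zero]
    exact one_mem _
  neg_mem' := by
    intro a ha
    have h1 : -a = a := neg_eq_of_add_eq_zero_left (R.two a)
    rw [h1]
    exact ha

theorem mem_co {A : Subgroup G} {m : V} : m ∈ co R A ↔ R.el m ∈ A := Iff.rfl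

include R in
theorem ext_y {y y' : Y} (h : ∀ m : V, y • m = y' • m) : y = y' := by
  have h1 : y'⁻¹ * y = 1 := R.faith _ fun m => by rw [mul_smul, h, inv_smul_smul]
  exact (inv_mul_eq_one.1 h1).symm

theorem el_c {s : G} (hs : s ∈ P) (m : V) : R.el (R.ac ⟨s, hs⟩ • m + m) = c (R.el m) s := by
  rw [add_comm, R.add, R.smul, c_def]
  have h1 : (R.el m)⁻¹ = R.el m := R.el_inv m
  rw [h1]
  group

theorem two_iff {a b : V} (R : Rep (S : Subgroup G) P (zl (S : Subgroup G) P) Y V T Mx) :
    a + b = 0 ↔ a = b := by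
  constructor
  · intro h
    have h1 : a + b + b = b := by rw [h, zero_add]
    rwa [add_assoc, R.two, add_zero] at h1
  · rintro rfl
    exact R.two a

section fr

variable (h : Fr S P M F)
include h

theorem W_le_P : WW (zl (S : Subgroup G) M) F ≤ P := h.W_le_S.trans h.cfg.S_le

include R in
theorem top1 : Top1 T Mx where
  TM := R.TM
  M_ne := R.Mne
  max := R.max
  o2 := R.core
  T_ne := by
    intro h1
    apply h.W_not
    have h2 : WW (zl (S : Subgroup G) M) F ≤ (S : Subgroup G) ⊓ centralizer (zl (S : Subgroup G) P : Set G) := by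
      refine le_inf h.W_le_S fun s hs => ?_
      have hsP := W_le_P h hs
      have h3 : R.ac ⟨s, hsP⟩ ∈ (T : Subgroup Y) := (R.mem_T _).2 ⟨⟨s, hsP⟩, h.W_le_S hs, rfl⟩
      rw [h1, mem_bot] at h3
      exact R.ac_eq_one.1 h3
    exact h2.trans h.cfg.S_inf_centralizer.le

/-- (+) for the module -/
theorem plus_of (hp : PlusAt (S : Subgroup G) P (NOne.Flat.EE (zl (S : Subgroup G) M) F)) {g : Y} {m : V}
    (hm : m ≠ 0) (hfix : ∀ t ∈ (T : Subgroup Y), t • m = m)
    (hE : R.el (g • m) ∈ NOne.Flat.EE (zl (S : Subgroup G) M) F) : g ∈ Mx := by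
  obtain ⟨⟨p, hpP⟩, rfl⟩ := R.acs g
  have hz : R.el m ∈ zc (S : Subgroup G) := by
    refine ChoiceBase.mem_zc.2 ⟨h.cfg.V_le_S (R.mem m), by rw [sq]; exact R.el_sq m, fun s hs => ?_⟩
    have hsP := h.cfg.S_le hs
    have h1 := hfix _ ((R.mem_T _).2 ⟨⟨s, hsP⟩, hs, rfl⟩)
    have h2 := R.smul ⟨s, hsP⟩ m
    rw [h1] at h2
    have h3 : R.el m = s * R.el m * s⁻¹ := h2
    calc s * R.el m = (s * R.el m * s⁻¹) * s := by group
      _ = R.el m * s := by rw [← h3]
  have hz1 : R.el m ≠ 1 := fun h1 => hm (R.el_eq_one.1 h1)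
  have h1 : (S : Subgroup G) ⊔ zpowers p ≠ P := by
    refine hp p hpP _ hz hz1 ?_
    have h2 := R.smul ⟨p, hpP⟩ m
    rw [h2] at hE
    exact hE
  by_contra hg
  apply h1
  have hSp : (S : Subgroup G) ⊔ zpowers p ≤ P := sup_le h.cfg.S_le (zpowers_le.2 hpP)
  -- `⟨T, g⟩ = Y`
  have h2 : (T : Subgroup Y) ⊔ zpowers (R.ac ⟨p, hpP⟩) = ⊤ := by
    by_contra hne
    exact hg (R.max _ le_sup_left hne (le_sup_right (a := (T : Subgroup Y)) (mem_zpowers _)))
  have h3 : P ≤ ((S : Subgroup G) ⊔ zpowers p) ⊔ (P ⊓ centralizer (zl (S : Subgroup G) P : Set G)) := by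
    intro x hx
    have h4 : R.ac ⟨x, hx⟩ ∈ R.im ((S : Subgroup G) ⊔ zpowers p) := by
      have h5 : (T : Subgroup Y) ⊔ zpowers (R.ac ⟨p, hpP⟩) ≤ R.im ((S : Subgroup G) ⊔ zpowers p) := by
        refine sup_le ?_ ?_
        · intro t ht
          obtain ⟨⟨s, hsP⟩, hs, rfl⟩ := (R.mem_T t).1 ht
          exact R.mem_im.2 ⟨s, hsP, le_sup_left (a := (S : Subgroup G)) hs, rfl⟩
        · rw [zpowers_le]
          exact R.mem_im.2 ⟨p, hpP, le_sup_right (a := (S : Subgroup G)) (mem_zpowers p), rfl⟩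
      rw [h2] at h5
      exact h5 (mem_top _)
    obtain ⟨a, haP, ha, hax⟩ := R.mem_im.1 h4
    have h6 : R.ac (⟨a, haP⟩⁻¹ * ⟨x, hx⟩) = 1 := by rw [map_mul, map_inv, hax, inv_mul_cancel]
    have h7 := R.ac_eq_one.1 h6
    have h8 : x = a * (a⁻¹ * x) := by group
    rw [h8]
    exact mul_mem (le_sup_left (a := (S : Subgroup G) ⊔ zpowers p) ha)
      (le_sup_right (a := (S : Subgroup G) ⊔ zpowers p) (mem_inf.2 ⟨P.mul_mem (P.inv_mem haP) hx, h7⟩))
  -- the unique maximal subgroup of `P` over `S`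
  obtain ⟨M₀, hM₀, hM₁⟩ := h.cfg.par.toIsMinPar.exists_max
  by_contra hne
  have h4 : (S : Subgroup G) ⊔ zpowers p ≤ M₀ := hM₁ _ le_sup_left (lt_of_le_of_ne hSp hne)
  have h5 : (S : Subgroup G) ⊔ (P ⊓ centralizer (zl (S : Subgroup G) P : Set G)) ≤ M₀ := by
    refine hM₁ _ le_sup_left (lt_of_le_of_ne (sup_le h.cfg.S_le inf_le_left) fun h6 => R.Mne ?_)
    rw [eq_top_iff]
    intro y _
    obtain ⟨⟨x, hx⟩, rfl⟩ := R.acs y
    apply R.TM
    have hx' := hx
    rw [← h6] at hx'
    have h7 : ((S : Subgroup G) ⊔ (P ⊓ centralizer (zl (S : Subgroup G) P : Set G))).subgroupOf P ≤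
        (T : Subgroup Y).comap R.ac := by
      have e1 : ((S : Subgroup G) ⊔ (P ⊓ centralizer (zl (S : Subgroup G) P : Set G))).subgroupOf P =
          (S : Subgroup G).subgroupOf P ⊔
            (P ⊓ centralizer (zl (S : Subgroup G) P : Set G)).subgroupOf P :=
        subgroupOf_sup h.cfg.S_le inf_le_left
      rw [e1]
      refine sup_le ?_ ?_
      · intro s hs
        exact (R.mem_T _).2 ⟨s, hs, rfl⟩
      · intro s hs
        have h8 : R.ac s = 1 := R.ac_eq_one.2 hs.2
        change R.ac s ∈ (T : Subgroup Y)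
        rw [h8]
        exact one_mem _
    exact h7 (show (⟨x, hx⟩ : P) ∈ _ from hx')
  exact hM₀.not_ge (h3.trans (sup_le h4 (le_sup_right.trans h5)))

/-- **The bridge.** -/
theorem exists_fr' (hp : PlusAt (S : Subgroup G) P (NOne.Flat.EE (zl (S : Subgroup G) M) F)) :
    ∃ B : Subgroup Y, HE.Fr ((co R (NOne.Flat.EE (zl (S : Subgroup G) M) F)).index) T ((1 : Y) : Y ⧸ Mx)
      (co R (NOne.Flat.EE (zl (S : Subgroup G) M) F)) (co R F) B := by
  have H := h.hyp
  have hfl := h.fdat.flat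
  have hWP := W_le_P h
  set VV : Subgroup G := zl (S : Subgroup G) M with hVV
  set E : Subgroup G := NOne.Flat.EE VV F with hE
  have hV : ∀ m : V, R.el m ∈ VV := fun m => h.VP_le (R.mem m)
  have hNW : NN VV F ≤ WW VV F := inf_le_left
  -- the image of `W`
  have hU : ∀ y ∈ R.im (WW VV F), ∃ (s : G) (hs : s ∈ P), s ∈ WW VV F ∧ R.ac ⟨s, hs⟩ = y := fun y hy => R.mem_im.1 hy
  have hcomm : ∀ a ∈ R.im (WW VV F), ∀ b ∈ R.im (WW VV F), a * b = b * a := by
    intro a ha b hb
    obtain ⟨s, hs, hsW, rfl⟩ := hU a ha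
    obtain ⟨t, ht, htW, rfl⟩ := hU b hb
    refine ext_y R fun m => R.inj ?_
    rw [mul_smul, mul_smul, R.smul, R.smul, R.smul, R.smul]
    exact hfl.ab s hsW t htW _ (R.mem m)
  have hsq : ∀ a ∈ R.im (WW VV F), a * a = 1 := by
    intro a ha
    obtain ⟨s, hs, hsW, rfl⟩ := hU a ha
    refine ext_y R fun m => R.inj ?_
    rw [mul_smul, R.smul, R.smul, one_smul]
    exact hfl.inv s hsW _ (R.mem m)
  have hNU : R.im (NN VV F) ≤ R.im (WW VV F) := by
    intro y hy
    obtain ⟨s, hs, hsN, rfl⟩ := R.mem_im.1 hy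
    exact R.mem_im.2 ⟨s, hs, hNW hsN, rfl⟩
  obtain ⟨B, hBU, hBN, hdec⟩ := exists_compl hcomm hsq hNU
  -- the elements of the image of `N`
  have hN1 : ∀ n ∈ R.im (NN VV F), ∀ m : V, n • m + m ∈ co R F := by
    intro n hn m
    obtain ⟨s, hs, hsN, rfl⟩ := R.mem_im.1 hn
    rw [mem_co, el_c]
    exact H.c_mem_F (hV m) hsN
  have hN2 : ∀ n ∈ R.im (NN VV F), ∀ m ∈ co R E, n • m = m := by
    intro n hn m hm
    obtain ⟨s, hs, hsN, rfl⟩ := R.mem_im.1 hn
    apply R.inj
    rw [R.smul]
    have h1 : s * R.el m = R.el m * s := (mem_centralizer_iff.1 hsN.2 _ hm).symm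
    change s * R.el m * s⁻¹ = R.el m
    rw [h1, mul_inv_cancel_right]
  have hFfix : ∀ b ∈ R.im (WW VV F), ∀ m ∈ co R F, b • m = m := by
    intro b hb m hm
    obtain ⟨s, hs, hsW, rfl⟩ := hU b hb
    rw [← two_iff R]
    apply R.inj
    rw [el_c, R.el_zero]
    exact NOne.Flat.Hyp.c_F hm hsW
  have hsurj : ∀ w, w ∉ co R E → ∀ e ∈ co R E, ∃ b ∈ B, b • w + w + e ∈ co R F := by
    intro w hw e he
    obtain ⟨s, hsW, f, hf, hfe⟩ := hfl.reg (R.el w) (R.mem w) (fun h1 => hw h1.2) (R.el e) ⟨R.mem e, he⟩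
    have hs := hWP hsW
    obtain ⟨b, hb, n, hn, hbn⟩ := hdec (R.ac ⟨s, hs⟩) (R.mem_im.2 ⟨s, hs, hsW, rfl⟩)
    refine ⟨b, hb, ?_⟩
    have h1 : R.ac ⟨s, hs⟩ • w + w + e ∈ co R F := by
      rw [mem_co, R.add, el_c, c_def]
      have e1 : R.el w * s * (R.el w)⁻¹ * s⁻¹ = (R.el w)⁻¹ * (s * R.el w * s⁻¹) := by
        rw [R.el_inv]; group
      rw [e1, hfe]
      have e2 : (R.el w)⁻¹ * (s * R.el w * s⁻¹) * ((R.el w)⁻¹ * (s * R.el w * s⁻¹) * f) = f := by
        have h2 : (R.el w)⁻¹ * (s * R.el w * s⁻¹) ∈ zl (S : Subgroup G) P := (zl (S : Subgroup G) P).mul_mem (inv_mem (R.mem w)) (hfl.norm s hsW _ (R.mem w))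
        have h3 := h.cfg.V_sq _ h2
        rw [← mul_assoc, ← sq, h3, one_mul]
      rw [e2]
      exact hf.2
    rw [hbn, mul_smul] at h1
    -- `b n w = b w + f`
    have h2 := hN1 n hn w
    have h3 : b • (n • w) = b • w + (n • w + w) := by
      have h4 : b • (n • w + w) = n • w + w := hFfix b (hBU hb) _ h2
      rw [smul_add] at h4
      calc b • (n • w) = b • (n • w) + (b • w + b • w) := by rw [R.two, add_zero]
        _ = (b • (n • w) + b • w) + b • w := by abel
        _ = b • w + (n • w + w) := by rw [h4, add_comm]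
    rw [h3] at h1
    have h5 : b • w + w + e = (b • w + (n • w + w) + w + e) + (n • w + w) := by
      have h6 : (b • w + (n • w + w) + w + e) + (n • w + w) =
          b • w + w + e + ((n • w + w) + (n • w + w)) := by abel
      rw [h6, R.two, add_zero]
    rw [h5]
    exact (co R F).add_mem h1 h2
  refine ⟨B, ?_⟩
  exact
    { at' := by
        intro t ht
        change ((t * 1 : Y) : Y ⧸ Mx) = ((1 : Y) : Y ⧸ Mx)
        rw [mul_one, eq_comm, QuotientGroup.eq, inv_one, one_mul]
        exact R.TM ht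
      ind := rfl
      BT := by
        intro b hb
        obtain ⟨s, hs, hsW, rfl⟩ := hU b (hBU hb)
        exact (R.mem_T _).2 ⟨⟨s, hs⟩, h.W_le_S hsW, rfl⟩
      comm := fun b hb b' hb' => hcomm b (hBU hb) b' (hBU hb')
      sq := fun b hb => hsq b (hBU hb)
      FE := fun m hm => H.F_lt_E.le hm
      VB := by
        intro b hb m
        obtain ⟨s, hs, hsW, rfl⟩ := hU b (hBU hb)
        rw [mem_co, el_c]
        exact H.c_memE (hV m) hsW
      EB := by
        intro b hb m hm
        obtain ⟨s, hs, hsW, rfl⟩ := hU b (hBU hb)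
        rw [mem_co, el_c]
        exact H.comm_EW hm hsW
      FB := fun b hb => hFfix b (hBU hb)
      CB := by
        intro v hv
        by_cases hvE : v ∈ co R E
        · -- `U` fixes `v`
          have h1 : R.el v ∈ zl (S : Subgroup G) P ⊓ centralizer (WW VV F : Set G) := by
            refine ⟨R.mem v, mem_centralizer_iff.2 fun s hsW => ?_⟩
            have hs := hWP hsW
            obtain ⟨b, hb, n, hn, hbn⟩ := hdec (R.ac ⟨s, hs⟩) (R.mem_im.2 ⟨s, hs, hsW, rfl⟩)
            have h2 : R.ac ⟨s, hs⟩ • v = v := by rw [hbn, mul_smul, hN2 n hn v hvE, hv b hb]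
            have h3 := R.smul ⟨s, hs⟩ v
            rw [h2] at h3
            have h4 : R.el v = s * R.el v * s⁻¹ := h3
            calc s * R.el v = (s * R.el v * s⁻¹) * s := by group
              _ = R.el v * s := by rw [← h4]
          rw [← hfl.F_eq] at h1
          exact h1.2
        · exfalso
          apply hfl.ne
          rintro e ⟨he, heE⟩
          obtain ⟨m, rfl⟩ := R.surj e he
          obtain ⟨b, hb, h1⟩ := hsurj v hvE m heE
          rw [hv b hb, R.two, zero_add] at h1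
          exact ⟨he, h1⟩
      inj := by
        intro w hw b hb h1
        obtain ⟨s, hs, hsW, rfl⟩ := hU b (hBU hb)
        rw [mem_co, el_c] at h1
        have h2 : s ∈ NN VV F := (H.c_mem_F_iff (hV w) hw hsW).1 h1
        have h3 : R.ac ⟨s, hs⟩ ∈ B ⊓ R.im (NN VV F) := ⟨hb, R.mem_im.2 ⟨s, hs, h2, rfl⟩⟩
        rw [hBN, mem_bot] at h3
        exact h3
      surj := hsurj
      ne := by
        obtain ⟨v, hv, hvE⟩ := SetLike.not_le_iff_exists.1 hfl.ne'
        obtain ⟨m, rfl⟩ := R.surj v hv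
        exact ⟨m, fun h1 => hvE ⟨hv, h1⟩⟩
      ne' := by
        obtain ⟨v, hv, hvF⟩ := SetLike.not_le_iff_exists.1 hfl.ne
        obtain ⟨m, rfl⟩ := R.surj v hv.1
        exact ⟨m, hv.2, fun h1 => hvF ⟨hv.1, h1⟩⟩
      plus := by
        rintro T' q hq ⟨v, hvE, hv0, hfix⟩
        obtain ⟨g, rfl⟩ := MulAction.exists_smul_eq Y T T'
        have h1 : g ∈ Mx := by
          refine plus_of R h hp (m := g⁻¹ • v) (fun h0 => hv0 ?_) (fun t ht => ?_) ?_
          · rwa [inv_smul_eq_iff, smul_zero] at h0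
          · have h2 := hfix (g * t * g⁻¹) (by
              rw [HE.mem_smul_sylow]
              have e : g⁻¹ * (g * t * g⁻¹) * g = t := by group
              rwa [e])
            rw [mul_smul, mul_smul, ← eq_inv_smul_iff] at h2
            exact h2
          · rw [smul_inv_smul]
            exact hvE
        have h2 := (top1 R h).pts.one (g • T) q ((1 : Y) : Y ⧸ Mx) hq ?_
        · exact h2
        · intro t ht
          rw [HE.mem_smul_sylow] at ht
          change ((t * 1 : Y) : Y ⧸ Mx) = ((1 : Y) : Y ⧸ Mx)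
          rw [mul_one, eq_comm, QuotientGroup.eq, inv_one, one_mul]
          have h3 := mul_mem (mul_mem h1 (R.TM ht)) (inv_mem h1)
          have e : g * (g⁻¹ * t * g) * g⁻¹ = t := by group
          rwa [e] at h3 }

end fr

theorem card_co {A : Subgroup G} : Nat.card (co R A) = Nat.card ↥(A ⊓ zl (S : Subgroup G) P) :=
  Nat.card_congr (Equiv.ofBijective (fun m : co R A => (⟨R.el m, m.2, R.mem m⟩ : ↥(A ⊓ zl (S : Subgroup G) P)))
    ⟨fun a b h => Subtype.ext (R.inj (congrArg Subtype.val h)), fun v => by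
      obtain ⟨m, hm⟩ := R.surj v v.2.2
      exact ⟨⟨m, by rw [mem_co, hm]; exact v.2.1⟩, Subtype.ext hm⟩⟩)

/-- `|V_P : V_P ∩ A|` in the module -/
theorem index_co {A : Subgroup G} : (co R A).index = A.relIndex (zl (S : Subgroup G) P) := by
  have h1 := (co R A).card_mul_index
  have h2 := NOne.Flat.card_mul_relIndex' (inf_le_right : A ⊓ zl (S : Subgroup G) P ≤ zl (S : Subgroup G) P)
  rw [inf_relIndex_right] at h2
  rw [R.card_M, ← h2, card_co] at h1
  exact Nat.eq_of_mul_eq_mul_left Nat.card_pos h1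

end Cfsg.Agent.Omega.NO1.FrRep

end

-- merged: Cfsg.Agent.Mrg.Omega.NO1.HE.Norm
section

/-!
# (11) of text #17521: `φ b x = N(b) x`

* `hua` : an additive `f` with `f 1 = 1`, `f (s⁻¹) = f s * s⁻¹` satisfies `f (s²) = s`;
* `Q.lin`, `Q.sq` : `φ` is `k`-linear in `x` and quadratic in `b`;
* `normStmt : NormStmt`.
-/

set_option autoImplicit false

namespace Cfsg.Agent.Omega.NO1.HE

universe u

section Hua

variable {k : Type*} [Field k]

theorem hua (h2 : ∀ t : k, t + t = 0) (f : k → k) (hadd : ∀ s t, f (s + t) = f s + f t) (h1 : f 1 = 1)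
    (h : ∀ s, s ≠ 0 → f s⁻¹ = f s * s⁻¹) (s : k) : f (s * s) = s := by
  have h0 : f 0 = 0 := by
    have := hadd 0 0
    rw [add_zero, h2] at this
    exact this
  by_cases hs : s = 0
  · rw [hs, mul_zero, h0]
  by_cases hs1 : s = 1
  · rw [hs1, mul_one, h1]
  have hs2 : 1 + s ≠ 0 := by
    intro h3
    apply hs1
    calc s = 1 + (1 + s) := by rw [← add_assoc, h2, zero_add]
      _ = 1 := by rw [h3, add_zero]
  have hk : s * (1 + s) ≠ 0 := mul_ne_zero hs hs2
  have e1 : (s * (1 + s))⁻¹ = s⁻¹ + (1 + s)⁻¹ := by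
    have h3 : s⁻¹ + (1 + s)⁻¹ = (1 + (s + s)) * (s * (1 + s))⁻¹ := by
      field_simp
      ring
    rw [h3, h2, add_zero, one_mul]
  have h4 := h _ hk
  rw [e1, hadd, h s hs, h _ hs2, hadd 1 s, h1] at h4
  have h5 : f (s * (1 + s)) = f s + f (s * s) := by
    rw [mul_add, mul_one, hadd]
  rw [h5] at h4
  have h6 : f s + f (s * s) = (f s * s⁻¹ + (1 + f s) * (1 + s)⁻¹) * (s * (1 + s)) := by
    rw [h4, ← e1, mul_assoc, inv_mul_cancel₀ hk, mul_one]
  have h7 : (f s * s⁻¹ + (1 + f s) * (1 + s)⁻¹) * (s * (1 + s)) = f s + s + (f s * s + f s * s) := by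
    field_simp
    ring
  rw [h7, h2, add_zero] at h6
  exact add_left_cancel h6

end Hua

variable {B X M D : Type u} [AddCommGroup B] [AddCommGroup X] [AddCommGroup M] [AddCommGroup D]

namespace Fld

variable {S : Sys B X M D} {k : Type u} [Field k] [Module k B] (F : Fld S k)
include F

theorem two (t : k) : t + t = 0 := by
  obtain ⟨x, rfl⟩ := F.eX.surjective t
  rw [← map_add, S.twoX, map_zero]

/-- `φ b` in coordinates -/
def ph (b : B) (t : k) : k := F.eD (S.φ b (F.eX.symm t))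

theorem ph_eX (b : B) (x : X) : F.ph b (F.eX x) = F.eD (S.φ b x) := by
  rw [ph, AddEquiv.symm_apply_apply]

theorem ph_add (b : B) (s t : k) : F.ph b (s + t) = F.ph b s + F.ph b t := by
  rw [ph, map_add, map_add, map_add]
  rfl

theorem ph_zero (b : B) : F.ph b 0 = 0 := by
  rw [ph, map_zero, map_zero, map_zero]

theorem f_smul' (r : k) (b c : B) : F.f b (r • c) = r * F.f b c := by
  rw [F.f_symm, F.f_smul, F.f_symm]

theorem ph_add_left (a b : B) (t : k) : F.ph (a + b) t = F.ph a t + F.ph b t + t * F.f b a := by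
  rw [ph, S.φ_add, map_add, map_add, F.hl, F.hτ, AddEquiv.apply_symm_apply, F.f_smul']
  rfl

theorem ph_inj {b : B} (hb : b ≠ 0) : Function.Injective (F.ph b) := fun _ _ h =>
  F.eX.symm.injective (S.φ_inj b hb (F.eD.injective h))

theorem ph_surj {b : B} (hb : b ≠ 0) : Function.Surjective (F.ph b) := by
  intro t
  obtain ⟨x, hx⟩ := S.φ_surj b hb (F.eD.symm t)
  exact ⟨F.eX x, by rw [ph_eX, hx, AddEquiv.apply_symm_apply]⟩

theorem ph_ne {b : B} (hb : b ≠ 0) {t : k} (ht : t ≠ 0) : F.ph b t ≠ 0 := fun h =>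
  ht (F.ph_inj hb (h.trans (F.ph_zero b).symm))

theorem f_surj {b : B} (hb : b ≠ 0) (y : k) : ∃ m, F.f b m = y := by
  obtain ⟨m, hm⟩ := S.l_surj b hb (F.eD.symm y)
  exact ⟨F.eM m, by rw [← F.hl, hm, AddEquiv.apply_symm_apply]⟩

/-- (R) for `b`, `r b` -/
theorem op {b : B} (hb : b ≠ 0) {r : k} (hr : r ≠ 0) (hr1 : r ≠ 1) : ∃ c, c ≠ 0 ∧
    (∀ s t, F.ph b s = F.ph (r • b) t → F.ph c (s + t) = F.ph b s ∧ (s + t) • c = (s + r * t) • b) ∧
    (∀ m s t, F.ph b s = F.f b m → F.ph (r • b) t = r * F.f b m → F.ph c (s + t) = F.f c m) := by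
  have hrb : r • b ≠ 0 := smul_ne_zero hr hb
  have hne : b ≠ r • b := by
    intro h
    have h1 : (r - 1) • b = 0 := by rw [sub_smul, one_smul, ← h, sub_self]
    rcases smul_eq_zero.1 h1 with h2 | h2
    · exact hr1 (sub_eq_zero.1 h2)
    · exact hb h2
  obtain ⟨c, hc, h1, h2⟩ := S.op b (r • b) hb hrb hne
  refine ⟨c, hc, ?_, ?_⟩
  · intro s t hst
    obtain ⟨z, hz1, hz2, hz3⟩ := h1 (F.eX.symm s) (F.eX.symm t) (F.eD.injective hst)
    have h3 : S.l (r • b) (S.τ b (F.eX.symm s)) = 0 := by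
      apply F.eD.injective
      rw [F.hl, F.hτ, F.f_smul', F.f_smul, F.f_self, mul_zero, mul_zero, map_zero]
    rw [h3] at hz3
    have h4 : z + F.eX.symm s + F.eX.symm t = 0 := S.φ_inj _ hrb (hz3.trans (map_zero _).symm)
    have h5 : F.eX z = s + t := by
      have h6 := congrArg F.eX h4
      rw [map_add, map_add, AddEquiv.apply_symm_apply, AddEquiv.apply_symm_apply, map_zero] at h6
      calc F.eX z = F.eX z + s + t + (s + t) := by
            have h7 : F.eX z + s + t + (s + t) = F.eX z + (s + s) + (t + t) := by ring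
            rw [h7, F.two, F.two, add_zero, add_zero]
        _ = s + t := by rw [h6, zero_add]
    constructor
    · rw [← h5, ph_eX, hz1]
      rfl
    · have h6 := congrArg F.eM hz2
      rw [map_add, F.hτ, F.hτ, F.hτ, AddEquiv.apply_symm_apply, AddEquiv.apply_symm_apply, h5, smul_smul,
        ← add_smul, mul_comm t r] at h6
      exact h6
  · intro m s t hs ht
    have h3 := h2 (F.eM.symm m) (F.eX.symm s) (F.eX.symm t) (by
      apply F.eD.injective
      rw [F.hl, AddEquiv.apply_symm_apply]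
      exact hs) (by
      apply F.eD.injective
      rw [F.hl, AddEquiv.apply_symm_apply, F.f_smul]
      exact ht)
    have h4 := congrArg F.eD h3
    rw [F.hl, AddEquiv.apply_symm_apply, ← map_add] at h4
    exact h4

/-- the scalar `μ` -/
theorem exists_mu {b : B} (hb : b ≠ 0) {r : k} (hr : r ≠ 0) (hr1 : r ≠ 1) : ∃ μ γ : k, μ ≠ 0 ∧
    (∀ s, F.ph (r • b) (μ * s) = F.ph b s) ∧ (∀ s, F.ph b (μ * s) = μ * F.ph b s) ∧
    γ * (1 + μ) = 1 + r * μ ∧ (∀ s, F.ph (γ • b) ((1 + μ) * s) = F.ph b s) := by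
  obtain ⟨c, hc, h1, h2⟩ := F.op hb hr hr1
  have hrb : r • b ≠ 0 := smul_ne_zero hr hb
  -- the function `t (s)`
  choose t ht using fun s => F.ph_surj hrb (F.ph b s)
  have h3 : ∀ s, s ≠ 0 → s + t s ≠ 0 := by
    intro s hs h0
    have h4 := (h1 s (t s) (ht s).symm).2
    have h5 : t s = s := by
      calc t s = s + (s + t s) := by rw [← add_assoc, F.two, zero_add]
        _ = s := by rw [h0, add_zero]
    rw [h0, zero_smul, h5] at h4
    rcases smul_eq_zero.1 h4.symm with h6 | h6
    · have h7 : s * (1 + r) = 0 := by rw [← h6]; ring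
      rcases mul_eq_zero.1 h7 with h8 | h8
      · exact hs h8
      · apply hr1
        calc r = 1 + (1 + r) := by rw [← add_assoc, F.two, zero_add]
          _ = 1 := by rw [h8, add_zero]
    · exact hb h6
  have hne1 : (1 : k) + t 1 ≠ 0 := h3 1 one_ne_zero
  set γ : k := (1 + t 1)⁻¹ * (1 + r * t 1) with hγ
  have hcγ : c = γ • b := by
    have h4 := (h1 1 (t 1) (ht 1).symm).2
    rw [hγ, mul_smul, ← h4, smul_smul, inv_mul_cancel₀ hne1, one_smul]
  have hsc : ∀ s, (s + t s) * γ = s + r * t s := by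
    intro s
    have h4 := (h1 s (t s) (ht s).symm).2
    rw [hcγ, smul_smul, ← sub_eq_zero, ← sub_smul] at h4
    rcases smul_eq_zero.1 h4 with h5 | h5
    · exact sub_eq_zero.1 h5
    · exact absurd h5 hb
  have key : ∀ s, t s * (γ + r) = s * (1 + γ) := by
    intro s
    have h4 := hsc s
    calc t s * (γ + r) = (s + t s) * γ + r * t s + s * γ - (s * γ + s * γ) := by ring
      _ = (s + r * t s) + r * t s + s * γ := by rw [F.two, sub_zero, h4]
      _ = s * (1 + γ) + (r * t s + r * t s) := by ring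
      _ = s * (1 + γ) := by rw [F.two, add_zero]
  have hγr : γ + r ≠ 0 := by
    intro h0
    have h4 := key 1
    rw [h0, mul_zero, one_mul] at h4
    apply hr1
    have h5 : γ = r := by
      calc γ = γ + r + r := by rw [add_assoc, F.two, add_zero]
        _ = r := by rw [h0, zero_add]
    rw [h5] at h4
    calc r = 1 + (1 + r) := by rw [← add_assoc, F.two, zero_add]
      _ = 1 := by rw [← h4, add_zero]
  set μ : k := (1 + γ) * (γ + r)⁻¹ with hμ
  have hμγ : μ * (γ + r) = 1 + γ := by rw [hμ, mul_assoc, inv_mul_cancel₀ hγr, mul_one]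
  have htμ : ∀ s, t s = μ * s := by
    intro s
    have h4 : t s = t s * (γ + r) * (γ + r)⁻¹ := by rw [mul_assoc, mul_inv_cancel₀ hγr, mul_one]
    rw [h4, key, hμ]
    ring
  have hA : ∀ s, F.ph (r • b) (μ * s) = F.ph b s := fun s => by rw [← htμ]; exact ht s
  have hB : ∀ s, F.ph (γ • b) ((1 + μ) * s) = F.ph b s := by
    intro s
    have h4 := (h1 s (t s) (ht s).symm).1
    rw [hcγ, htμ] at h4
    have e : (1 + μ) * s = s + μ * s := by ring
    rw [e]
    exact h4
  have hμ0 : μ ≠ 0 := by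
    intro h0
    have h4 := hA 1
    rw [h0, zero_mul, ph_zero] at h4
    exact F.ph_ne hb one_ne_zero h4.symm
  refine ⟨μ, γ, hμ0, hA, ?_, ?_, hB⟩
  · -- linearity
    have h4 : ∀ y s₁ s₂ s₃, F.ph b s₁ = γ * y → F.ph b s₂ = y → F.ph b s₃ = r * y →
        (1 + μ) * s₁ = s₂ + μ * s₃ := by
      intro y s₁ s₂ s₃ e1 e2 e3
      obtain ⟨m, hm⟩ := F.f_surj hb y
      have h5 := h2 m s₂ (μ * s₃) (by rw [e2, hm]) (by rw [hA, e3, hm])
      rw [hcγ, F.f_smul, hm, ← e1, ← hB] at h5
      have hγb : γ • b ≠ 0 := hcγ ▸ hc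
      exact (F.ph_inj hγb h5).symm
    intro s
    -- `y = ph b s / (γ + r)`
    obtain ⟨s₂, e2⟩ := F.ph_surj hb (F.ph b s * (γ + r)⁻¹)
    obtain ⟨s₁, e1⟩ := F.ph_surj hb (γ * (F.ph b s * (γ + r)⁻¹))
    obtain ⟨s₃, e3⟩ := F.ph_surj hb (r * (F.ph b s * (γ + r)⁻¹))
    have h5 := h4 _ s₁ s₂ s₃ e1 e2 e3
    have h6 : s₁ + s₃ = s := by
      apply F.ph_inj hb
      rw [F.ph_add, e1, e3]
      calc γ * (F.ph b s * (γ + r)⁻¹) + r * (F.ph b s * (γ + r)⁻¹) = F.ph b s * ((γ + r) * (γ + r)⁻¹) := by ring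
        _ = F.ph b s := by rw [mul_inv_cancel₀ hγr, mul_one]
    have h7 : s₁ + s₂ = μ * s := by
      calc s₁ + s₂ = (1 + μ) * s₁ + μ * s₁ + s₂ - (μ * s₁ + μ * s₁) := by ring
        _ = s₂ + μ * s₃ + μ * s₁ + s₂ := by rw [F.two, sub_zero, h5]
        _ = μ * (s₁ + s₃) + (s₂ + s₂) := by ring
        _ = μ * s := by rw [F.two, add_zero, h6]
    rw [← h7, F.ph_add, e1, e2]
    calc γ * (F.ph b s * (γ + r)⁻¹) + F.ph b s * (γ + r)⁻¹ = ((1 + γ) * (γ + r)⁻¹) * F.ph b s := by ring
      _ = μ * F.ph b s := by rw [hμ]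
  · have h4 := hsc 1
    rw [htμ, mul_one] at h4
    rw [mul_comm]
    exact h4

/-- the map `r ↦ φ (r b) / φ b` -/
def rho (b : B) (r : k) : k := F.ph (r • b) 1 * (F.ph b 1)⁻¹

theorem rho_add (b : B) (r s : k) : F.rho b (r + s) = F.rho b r + F.rho b s := by
  rw [rho, rho, rho, add_smul, ph_add_left, F.f_smul, F.f_smul', F.f_self, mul_zero, mul_zero, mul_zero,
    add_zero, add_mul]

theorem rho_one {b : B} (hb : b ≠ 0) : F.rho b 1 = 1 := by
  rw [rho, one_smul, mul_inv_cancel₀ (F.ph_ne hb one_ne_zero)]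

theorem ph_zero_left (t : k) : F.ph 0 t = 0 := by
  have h1 := F.ph_add_left 0 0 t
  rw [add_zero, F.f_self, mul_zero, add_zero, F.two] at h1
  exact h1

theorem rho_zero (b : B) : F.rho b 0 = 0 := by
  rw [rho, zero_smul, ph_zero_left, zero_mul]

theorem rho_mu {b : B} (hb : b ≠ 0) {r μ : k} (hμ : μ ≠ 0) (h1 : ∀ s, F.ph (r • b) (μ * s) = F.ph b s)
    (h2 : ∀ s, F.ph b (μ * s) = μ * F.ph b s) : F.rho b r = μ⁻¹ := by
  have h3 : F.ph (r • b) 1 = F.ph b μ⁻¹ := by
    rw [← h1, mul_inv_cancel₀ hμ]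
  have h4 : μ * F.ph b μ⁻¹ = F.ph b 1 := by rw [← h2, mul_inv_cancel₀ hμ]
  have h5 := F.ph_ne hb one_ne_zero
  rw [rho, h3]
  calc F.ph b μ⁻¹ * (F.ph b 1)⁻¹ = μ⁻¹ * (μ * F.ph b μ⁻¹) * (F.ph b 1)⁻¹ := by
        rw [← mul_assoc μ⁻¹, inv_mul_cancel₀ hμ, one_mul]
    _ = μ⁻¹ := by rw [h4, mul_assoc, mul_inv_cancel₀ h5, mul_one]

theorem rho_ne {b : B} (hb : b ≠ 0) {r : k} (hr : r ≠ 0) : F.rho b r ≠ 0 := by
  rw [rho]
  exact mul_ne_zero (F.ph_ne (smul_ne_zero hr hb) one_ne_zero) (inv_ne_zero (F.ph_ne hb one_ne_zero))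

theorem rho_inj {b : B} (hb : b ≠ 0) : Function.Injective (F.rho b) := by
  intro r s hrs
  by_contra hne
  have h1 : r + s ≠ 0 := by
    intro h0
    apply hne
    calc r = r + (s + s) := by rw [F.two, add_zero]
      _ = (r + s) + s := by ring
      _ = s := by rw [h0, zero_add]
  apply F.rho_ne hb h1
  rw [rho_add, hrs, F.two]

theorem rho_surj [Finite k] {b : B} (hb : b ≠ 0) : Function.Surjective (F.rho b) :=
  Finite.surjective_of_injective (F.rho_inj hb)

theorem lin_rho {b : B} (hb : b ≠ 0) (r s : k) : F.ph b (F.rho b r * s) = F.rho b r * F.ph b s := by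
  by_cases hr : r = 0
  · rw [hr, rho_zero, zero_mul, ph_zero, zero_mul]
  by_cases hr1 : r = 1
  · rw [hr1, F.rho_one hb, one_mul, one_mul]
  obtain ⟨μ, γ, hμ, h1, h2, -, -⟩ := F.exists_mu hb hr hr1
  rw [F.rho_mu hb hμ h1 h2]
  have h3 : F.ph b s = μ * F.ph b (μ⁻¹ * s) := by
    rw [← h2, ← mul_assoc, mul_inv_cancel₀ hμ, one_mul]
  rw [h3, ← mul_assoc, inv_mul_cancel₀ hμ, one_mul]

/-- `q b = φ b 1` -/
def q (b : B) : k := F.ph b 1

/-- `φ b` is `k`-linear. -/
theorem lin [Finite k] (b : B) (t : k) : F.ph b t = t * F.q b := by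
  by_cases hb : b = 0
  · rw [hb, q, ph_zero_left, ph_zero_left, mul_zero]
  obtain ⟨r, rfl⟩ := F.rho_surj hb t
  have h1 := F.lin_rho hb r 1
  rwa [mul_one] at h1

theorem rho_sq [Finite k] {b : B} (hb : b ≠ 0) (r : k) : F.rho b r = r * r := by
  choose g hg using F.rho_surj hb
  have hg' : ∀ r, g (F.rho b r) = r := fun r => F.rho_inj hb (hg _)
  have hadd : ∀ s t, g (s + t) = g s + g t := fun s t => by
    apply F.rho_inj hb
    rw [hg, rho_add, hg, hg]
  have h1 : g 1 = 1 := by
    apply F.rho_inj hb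
    rw [hg, F.rho_one hb]
  have h0 : g 0 = 0 := by
    apply F.rho_inj hb
    rw [hg, F.rho_zero]
  -- the relation
  have hrel : ∀ p, p ≠ 0 → p ≠ 1 → g (p * (1 + p)⁻¹) = (p + g p) * (1 + p)⁻¹ := by
    intro p hp hp1
    have hr : g p ≠ 0 := by
      intro h2
      apply hp
      rw [← hg p, h2, rho_zero]
    have hr1 : g p ≠ 1 := by
      intro h2
      apply hp1
      rw [← hg p, h2, F.rho_one hb]
    have hp2 : 1 + p ≠ 0 := by
      intro h2
      apply hp1
      calc p = 1 + (1 + p) := by rw [← add_assoc, F.two, zero_add]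
        _ = 1 := by rw [h2, add_zero]
    obtain ⟨μ, γ, hμ, e1, e2, e3, e4⟩ := F.exists_mu hb hr hr1
    have e5 := F.rho_mu hb hμ e1 e2
    rw [hg] at e5
    -- `μ = p⁻¹`
    have e6 : μ = p⁻¹ := by rw [e5, inv_inv]
    have e7 : 1 + μ ≠ 0 := by
      intro h2
      have h3 := e4 1
      rw [h2, zero_mul, ph_zero] at h3
      exact F.ph_ne hb one_ne_zero h3.symm
    have e8 : F.rho b γ * (1 + μ) = 1 := by
      have h3 := e4 1
      have h4 : F.ph (γ • b) ((1 + μ) * 1) = (1 + μ) * F.ph (γ • b) 1 := by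
        rw [F.lin (γ • b), mul_one, q]
      rw [h4] at h3
      rw [rho, mul_comm, ← mul_assoc, h3, mul_inv_cancel₀ (F.ph_ne hb one_ne_zero)]
    have e9 : F.rho b γ = p * (1 + p)⁻¹ := by
      have h3 : 1 + μ = (1 + p) * p⁻¹ := by
        rw [e6, add_mul, mul_inv_cancel₀ hp, one_mul, add_comm]
      rw [h3] at e8
      calc F.rho b γ = F.rho b γ * ((1 + p) * p⁻¹) * (p * (1 + p)⁻¹) := by
            field_simp
        _ = p * (1 + p)⁻¹ := by rw [e8, one_mul]
    rw [← e9, hg']
    have h3 : 1 + μ = (1 + p) * p⁻¹ := by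
      rw [e6, add_mul, mul_inv_cancel₀ hp, one_mul, add_comm]
    have h4 : 1 + g p * μ = (p + g p) * p⁻¹ := by
      rw [e6, add_mul, mul_inv_cancel₀ hp]
    rw [h3, h4] at e3
    calc γ = γ * ((1 + p) * p⁻¹) * (p * (1 + p)⁻¹) := by field_simp
      _ = (p + g p) * p⁻¹ * (p * (1 + p)⁻¹) := by rw [e3]
      _ = (p + g p) * (1 + p)⁻¹ := by field_simp
  have hinv : ∀ s, s ≠ 0 → g s⁻¹ = g s * s⁻¹ := by
    intro s hs
    by_cases hs1 : s = 1
    · rw [hs1, inv_one, mul_one]
    have hp : 1 + s ≠ 0 := by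
      intro h2
      apply hs1
      calc s = 1 + (1 + s) := by rw [← add_assoc, F.two, zero_add]
        _ = 1 := by rw [h2, add_zero]
    have hp1 : 1 + s ≠ 1 := by
      intro h2
      exact hs (by simpa using h2)
    have h3 := hrel (1 + s) hp hp1
    have e1 : 1 + (1 + s) = s := by rw [← add_assoc, F.two, zero_add]
    have e2 : (1 + s) * s⁻¹ = 1 + s⁻¹ := by
      rw [add_mul, one_mul, mul_inv_cancel₀ hs, add_comm]
    rw [e1, e2, hadd, hadd 1 s, h1] at h3
    have e3 : (1 + s + (1 + g s)) * s⁻¹ = 1 + g s * s⁻¹ := by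
      have e4 : (1 + s + (1 + g s)) = s + g s + (1 + 1) := by ring
      rw [e4, F.two, add_zero, add_mul, mul_inv_cancel₀ hs]
    rw [e3] at h3
    exact add_left_cancel h3
  have h3 := hua F.two g hadd h1 hinv r
  rw [← hg (r * r), h3]

/-- `q` is quadratic. -/
theorem q_smul [Finite k] (r : k) (b : B) : F.q (r • b) = r * r * F.q b := by
  by_cases hb : b = 0
  · rw [hb, smul_zero, q, ph_zero_left, mul_zero]
  · have h1 := F.rho_sq hb r
    have h2 := F.ph_ne hb one_ne_zero
    rw [← h1, rho, q, q, mul_assoc, inv_mul_cancel₀ h2, mul_one]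

theorem q_add (a b : B) : F.q (a + b) = F.q a + F.q b + F.f b a := by
  rw [q, ph_add_left, one_mul]
  rfl

theorem q_ne {b : B} (hb : b ≠ 0) : F.q b ≠ 0 := F.ph_ne hb one_ne_zero

/-- `f` is the polar form of `q`. -/
theorem f_eq (a b : B) : F.f b a = F.q (a + b) + F.q a + F.q b := by
  rw [q_add]
  have h1 : F.q a + F.q b + F.f b a + F.q a + F.q b = F.f b a + (F.q a + F.q a) + (F.q b + F.q b) := by ring
  rw [h1, F.two, F.two, add_zero, add_zero]

theorem neg_eq (t : k) : -t = t := neg_eq_of_add_eq_zero_left (F.two t)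

end Fld

open QuadraticAlgebra in
/-- **(11)** -/
theorem normStmt : NormStmt.{u} := by
  rintro B X M D _ _ _ _ _ S k _ _ _ ⟨F⟩
  obtain ⟨b₁, hb₁⟩ := S.ntB
  set α := F.q b₁ with hα
  have hα0 : α ≠ 0 := F.q_ne hb₁
  obtain ⟨b₂, hb₂⟩ := F.f_surj hb₁ α
  set β := F.q b₂ * α⁻¹ with hβ
  have hβα : F.q b₂ = α * β := by rw [hβ, mul_comm, mul_assoc, inv_mul_cancel₀ hα0, mul_one]
  -- the quadratic form
  have hq : ∀ x y : k, F.q (x • b₁ + y • b₂) = α * (x * x + x * y + β * (y * y)) := by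
    intro x y
    rw [F.q_add, F.q_smul, F.q_smul, F.f_smul, F.f_smul', F.f_symm, hb₂, hβα, ← hα]
    ring
  have hfact : Fact (∀ r : k, r ^ 2 ≠ β + 1 * r) := by
    refine ⟨fun r hr => ?_⟩
    have h1 : r • b₁ + (1 : k) • b₂ ≠ 0 := by
      intro h0
      have h2 := congrArg (F.f b₁) h0
      have h3 : F.f b₁ 0 = 0 := by
        have := F.f_smul' 0 b₁ 0
        rwa [smul_zero, zero_mul] at this
      rw [F.f_symm, F.f_add, F.f_smul, F.f_smul, F.f_self, mul_zero, zero_add, one_mul, F.f_symm, hb₂, h3] at h2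
      exact hα0 h2
    apply F.q_ne h1
    rw [hq]
    have h2 : r * r = β + r := by rw [← pow_two, hr, one_mul]
    rw [h2]
    have h3 : β + r + r * 1 + β * (1 * 1) = (β + β) + (r + r) := by ring
    rw [h3, F.two, F.two, add_zero, mul_zero]
  let K₀ := QuadraticAlgebra k β 1
  -- the norm
  have hN : ∀ z : K₀, F.q (z.re • b₁ + z.im • b₂) = α * norm z := by
    intro z
    rw [hq, norm_def, sub_eq_add_neg, F.neg_eq, one_mul, mul_assoc β]
  have two₀ : ∀ z : K₀, z + z = 0 := by
    intro z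
    ext
    · rw [re_add, F.two]; rfl
    · rw [im_add, F.two]; rfl
  -- the isomorphism `B = K₀`
  let e₀ : K₀ →+ B :=
    { toFun := fun z => z.re • b₁ + z.im • b₂
      map_zero' := by rw [re_zero, im_zero, zero_smul, zero_smul, add_zero]
      map_add' := fun z w => by
        rw [re_add, im_add, add_smul, add_smul]
        abel }
  have he₀ : ∀ z, e₀ z = z.re • b₁ + z.im • b₂ := fun _ => rfl
  have hinj : Function.Injective e₀ := by
    rw [injective_iff_map_eq_zero]
    intro z hz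
    by_contra hne
    have h1 : F.q (e₀ z) = α * norm z := hN z
    rw [hz] at h1
    have h2 : F.q 0 = 0 := F.ph_zero_left 1
    rw [h2] at h1
    have h3 : norm z = 0 := by
      rcases mul_eq_zero.1 h1.symm with h4 | h4
      · exact absurd h4 hα0
      · exact h4
    exact hne (norm_eq_zero_iff_eq_zero.1 h3)
  have hsurj : Function.Surjective e₀ := by
    intro b
    set y := F.f b₁ b * α⁻¹ with hy
    have h1 : F.f b₁ (b + y • b₂) = 0 := by
      rw [F.f_symm, F.f_add, F.f_smul, F.f_symm b, F.f_symm b₂, hb₂, hy, mul_assoc, inv_mul_cancel₀ hα0, mul_one,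
        F.two]
    obtain ⟨x, hx⟩ := F.f_ker b₁ _ hb₁ h1
    refine ⟨⟨x, y⟩, ?_⟩
    rw [he₀]
    change x • b₁ + y • b₂ = b
    rw [← hx, add_assoc, ← add_smul, F.two, zero_smul, add_zero]
  let eB₀ : B ≃+ K₀ := (AddEquiv.ofBijective e₀ ⟨hinj, hsurj⟩).symm
  have heB : ∀ b, e₀ (eB₀ b) = b := fun b => (AddEquiv.ofBijective e₀ ⟨hinj, hsurj⟩).apply_symm_apply b
  have hqB : ∀ b, F.q b = α * norm (eB₀ b) := by
    intro b
    conv_lhs => rw [← heB b, he₀]
    exact hN _
  have hsmul : ∀ (r : k) b, eB₀ (r • b) = eB₀ b * algebraMap k K₀ r := by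
    intro r b
    apply hinj
    rw [heB]
    conv_lhs => rw [← heB b]
    rw [he₀, he₀, re_mul, im_mul, algebraMap_re, algebraMap_im, smul_add, smul_smul, smul_smul]
    ring_nf
  have hfB : ∀ b m, algebraMap k K₀ (α⁻¹ * F.f b m) =
      eB₀ b * star (eB₀ m) + star (eB₀ b) * eB₀ m := by
    intro b m
    rw [F.f_eq, hqB, hqB m, hqB b, map_add]
    have h1 : α⁻¹ * (α * norm (eB₀ m + eB₀ b) + α * norm (eB₀ m) + α * norm (eB₀ b)) =
        norm (eB₀ m + eB₀ b) + norm (eB₀ m) + norm (eB₀ b) := by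
      field_simp
    rw [h1, map_add, map_add, algebraMap_norm_eq_mul_star, algebraMap_norm_eq_mul_star,
      algebraMap_norm_eq_mul_star, star_add]
    calc (eB₀ m + eB₀ b) * (star (eB₀ m) + star (eB₀ b)) + eB₀ m * star (eB₀ m) + eB₀ b * star (eB₀ b)
        = eB₀ b * star (eB₀ m) + star (eB₀ b) * eB₀ m +
          (eB₀ m * star (eB₀ m) + eB₀ m * star (eB₀ m)) + (eB₀ b * star (eB₀ b) + eB₀ b * star (eB₀ b)) := by
          ring
      _ = _ := by rw [two₀, two₀, add_zero, add_zero]
  have hfin : Finite K₀ := Finite.of_equiv _ (equivProd β (1 : k)).symm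
  -- the field in `Type`
  let K := Shrink.{0} K₀
  let e : K₀ ≃+* K := (Shrink.ringEquiv.{0, u} K₀).symm
  have hfinK : Finite K := Finite.of_equiv _ e.toEquiv
  have hchar : CharP K 2 := by
    refine CharTwo.of_one_ne_zero_of_two_eq_zero one_ne_zero ?_
    rw [← one_add_one_eq_two, ← map_one e, ← map_add, two₀, map_zero]
  let σ₀ : K₀ ≃+* K₀ := starRingAut
  have hσ₀ : ∀ z, σ₀ z = star z := fun _ => rfl
  let σ : K ≃+* K := (e.symm.trans σ₀).trans e
  have hσ : ∀ z, σ (e z) = e (star z) := by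
    intro z
    change e (σ₀ (e.symm (e z))) = _
    rw [RingEquiv.symm_apply_apply, hσ₀]
  have hstar : ∀ r : k, star (algebraMap k K₀ r) = algebraMap k K₀ r := by
    intro r
    ext
    · rw [re_star, algebraMap_im, mul_zero, add_zero]
    · rw [im_star, algebraMap_im, neg_zero]
  have hfix : ∀ z : K₀, star z = z → z = algebraMap k K₀ z.re := by
    intro z hz
    have h1 := congrArg QuadraticAlgebra.re hz
    rw [re_star, one_mul] at h1
    have h2 : z.im = 0 := by simpa using h1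
    ext
    · rfl
    · rw [h2]; rfl
  have hinjK : Function.Injective fun t : k => e (algebraMap k K₀ t) :=
    e.injective.comp (algebraMap_injective (R := k) (a := β) (b := 1))
  refine ⟨K, inferInstance, hfinK, hchar, σ, ?_, ?_, ?_, ⟨?_⟩⟩
  · intro h1
    have h2 := hσ (ω : K₀)
    rw [h1] at h2
    have h3 : (ω : K₀) = star (ω : K₀) := e.injective h2
    have h4 := congrArg QuadraticAlgebra.re h3
    rw [re_star, omega_re, omega_im, one_mul, zero_add] at h4
    exact zero_ne_one h4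
  · intro x
    obtain ⟨z, rfl⟩ := e.surjective x
    rw [hσ, hσ, star_star]
  · rw [← Nat.card_congr e.toEquiv, Nat.card_congr (equivProd β (1 : k)), Nat.card_prod, pow_two]
  · exact
    { eB := eB₀.trans e.toAddEquiv
      eM := (F.eM.trans eB₀).trans e.toAddEquiv
      eX := (e.toAddEquiv.toAddMonoidHom.comp (algebraMap k K₀).toAddMonoidHom).comp F.eX.toAddMonoidHom
      eD := ((e.toAddEquiv.toAddMonoidHom.comp (algebraMap k K₀).toAddMonoidHom).comp
        (AddMonoidHom.mulLeft α⁻¹)).comp F.eD.toAddMonoidHom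
      eX_inj := hinjK.comp F.eX.injective
      eD_inj := by
        refine (hinjK.comp ?_).comp F.eD.injective
        exact mul_right_injective₀ (inv_ne_zero hα0)
      eX_fix := fun x => by
        change σ (e (algebraMap k K₀ (F.eX x))) = e (algebraMap k K₀ (F.eX x))
        rw [hσ, hstar]
      eD_fix := fun d => by
        change σ (e (algebraMap k K₀ (α⁻¹ * F.eD d))) = e (algebraMap k K₀ (α⁻¹ * F.eD d))
        rw [hσ, hstar]
      eX_surj := fun t ht => by
        obtain ⟨z, rfl⟩ := e.surjective t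
        rw [hσ] at ht
        refine ⟨F.eX.symm z.re, ?_⟩
        change e (algebraMap k K₀ (F.eX (F.eX.symm z.re))) = e z
        rw [AddEquiv.apply_symm_apply, ← hfix z (e.injective ht)]
      eD_surj := fun t ht => by
        obtain ⟨z, rfl⟩ := e.surjective t
        rw [hσ] at ht
        refine ⟨F.eD.symm (α * z.re), ?_⟩
        change e (algebraMap k K₀ (α⁻¹ * F.eD (F.eD.symm (α * z.re)))) = e z
        rw [AddEquiv.apply_symm_apply, ← mul_assoc, inv_mul_cancel₀ hα0, one_mul, ← hfix z (e.injective ht)]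
      hτ := fun b x => by
        change e (eB₀ (F.eM (S.τ b x))) = e (eB₀ b) * e (algebraMap k K₀ (F.eX x))
        rw [F.hτ, hsmul, map_mul]
      hl := fun b m => by
        change e (algebraMap k K₀ (α⁻¹ * F.eD (S.l b m))) =
          e (eB₀ b) * σ (e (eB₀ (F.eM m))) + σ (e (eB₀ b)) * e (eB₀ (F.eM m))
        rw [F.hl, hfB, map_add, map_mul, map_mul, hσ, hσ]
      hφ := fun b x => by
        change e (algebraMap k K₀ (α⁻¹ * F.eD (S.φ b x))) =
          e (eB₀ b) * σ (e (eB₀ b)) * e (algebraMap k K₀ (F.eX x))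
        rw [← F.ph_eX, F.lin, hqB, hσ, ← map_mul e, ← map_mul e, ← algebraMap_norm_eq_mul_star, ← map_mul]
        congr 2
        field_simp }

end Cfsg.Agent.Omega.NO1.HE

end

-- merged: Cfsg.Agent.Mrg.Omega.NO1.HE.End
section

/-!
# THE END of (BT): (+) for one frame ⟹ `MinusQ` (N1, text #17521, helper438)

`Fra T Mx E F B` : a frame `B ≤ T` of `V` (TEXT B4) with (+): if a Sylow 2-subgroup `T'` of `Y` fixes a nonzero
vector of `E`, then `T' ≤ Mx`.  `Rep.ty` : then `Ty` (type `MinusQ`) if `|V / E| ≥ 4`.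
-/

set_option autoImplicit false
set_option linter.unusedSectionVars false

namespace Cfsg.Agent.Omega.NO1.HE

open Subgroup
open Cfsg Cfsg.Agent.ZN Cfsg.Agent.Omega.MinPar Cfsg.Agent.Omega.Frame
open scoped Pointwise

universe u

section pts

variable {Y : Type u} [Group Y] [Finite Y]

theorem normalizer_eq_of {T : Sylow 2 Y} {Mx : Subgroup Y} (core : ∀ N : Subgroup Y, N.Normal → IsPGroup 2 N → N = ⊥)
    (TM : (T : Subgroup Y) ≤ Mx) (Mne : Mx ≠ ⊤) (max : ∀ K : Subgroup Y, (T : Subgroup Y) ≤ K → K ≠ ⊤ → K ≤ Mx)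
    (hT : (T : Subgroup Y) ≠ ⊥) {x : Y} (hx : MulAut.conj x • Mx = Mx) : x ∈ Mx := by
  have : Fact (Nat.Prime 2) := ⟨Nat.prime_two⟩
  have hNT : normalizer ((T : Subgroup Y) : Set Y) ≤ Mx := by
    refine max _ le_normalizer fun h => hT (core _ (normalizer_eq_top_iff.1 h) T.isPGroup')
  have hN : normalizer (Mx : Set Y) ≤ Mx := by
    refine max _ (TM.trans le_normalizer) fun h => Mne ?_
    have hn : Mx.Normal := normalizer_eq_top_iff.1 h
    have h1 := Sylow.normalizer_sup_eq_top (T.subtype TM)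
    have h2 : ((T.subtype TM : Sylow 2 Mx) : Subgroup Mx).map Mx.subtype = (T : Subgroup Y) := by
      rw [Sylow.coe_subtype, Subgroup.map_subgroupOf_eq_of_le TM]
    rw [h2] at h1
    rw [← top_le_iff, ← h1]
    exact sup_le hNT le_rfl
  apply hN
  rw [Subgroup.mem_normalizer_iff]
  intro y
  constructor
  · intro hy
    rw [← hx, mem_conj]
    rwa [show x⁻¹ * (x * y * x⁻¹) * x = y by group]
  · intro hy
    rw [← hx, mem_conj, show x⁻¹ * (x * y * x⁻¹) * x = y by group] at hy
    exact hy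

theorem pts_of {T : Sylow 2 Y} {Mx : Subgroup Y} (core : ∀ N : Subgroup Y, N.Normal → IsPGroup 2 N → N = ⊥)
    (TM : (T : Subgroup Y) ≤ Mx) (Mne : Mx ≠ ⊤) (max : ∀ K : Subgroup Y, (T : Subgroup Y) ≤ K → K ≠ ⊤ → K ≤ Mx)
    (hT : (T : Subgroup Y) ≠ ⊥) : Pts Y (Y ⧸ Mx) := by
  have : Fact (Nat.Prime 2) := ⟨Nat.prime_two⟩
  have hfix : ∀ x y : Y, y • (x : Y ⧸ Mx) = (x : Y ⧸ Mx) ↔ x⁻¹ * y * x ∈ Mx := by
    intro x y
    rw [MulAction.Quotient.smul_coe, smul_eq_mul, eq_comm, QuotientGroup.eq, mul_assoc]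
  -- `T` fixes only `Mx`
  have key : ∀ x : Y, At T (x : Y ⧸ Mx) → (x : Y ⧸ Mx) = ((1 : Y) : Y ⧸ Mx) := by
    intro x hx
    have h1 : (T : Subgroup Y) ≤ MulAut.conj x • Mx := fun t ht => by
      rw [mem_conj]; exact (hfix x t).1 (hx t ht)
    have hc : Nat.card (MulAut.conj x • Mx : Subgroup Y) = Nat.card Mx :=
      Nat.card_congr (Subgroup.equivSMul (MulAut.conj x) Mx).symm.toEquiv
    have h2 : (MulAut.conj x • Mx : Subgroup Y) ≠ ⊤ := by
      intro h
      apply Mne
      apply Subgroup.eq_top_of_card_eq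
      rw [← hc, h, Subgroup.card_top]
    have h3 := max _ h1 h2
    have h4 : MulAut.conj x • Mx = Mx := Subgroup.eq_of_le_of_card_ge h3 hc.ge
    rw [eq_comm, QuotientGroup.eq, inv_one, one_mul]
    exact normalizer_eq_of core TM Mne max hT h4
  have at1 : At T ((1 : Y) : Y ⧸ Mx) := fun t ht => by
    rw [hfix, inv_one, one_mul, mul_one]
    exact TM ht
  refine ⟨?_, ?_, ?_, ?_, ?_⟩
  · intro p q
    exact MulAction.exists_smul_eq Y p q
  · intro T' p q hp hq
    obtain ⟨g, rfl⟩ := MulAction.exists_smul_eq Y T T'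
    obtain ⟨x, rfl⟩ := QuotientGroup.mk_surjective p
    obtain ⟨y, rfl⟩ := QuotientGroup.mk_surjective q
    have e : ∀ z : Y, At (g • T) (z : Y ⧸ Mx) → (z : Y ⧸ Mx) = g • ((1 : Y) : Y ⧸ Mx) := by
      intro z hz
      have h1 := hz.smul g⁻¹
      rw [inv_smul_smul] at h1
      have h2 := key (g⁻¹ * z) h1
      rw [← h2]
      change (z : Y ⧸ Mx) = ((g * (g⁻¹ * z) : Y) : Y ⧸ Mx)
      rw [mul_inv_cancel_left]
    exact (e x hp).trans (e y hq).symm
  · intro T'
    obtain ⟨g, rfl⟩ := MulAction.exists_smul_eq Y T T'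
    exact ⟨_, at1.smul g⟩
  · intro p
    obtain ⟨y, hy⟩ : ∃ y, y ∉ Mx := by
      by_contra hcon
      push Not at hcon
      exact Mne ((Subgroup.eq_top_iff' _).2 hcon)
    obtain ⟨x, rfl⟩ := QuotientGroup.mk_surjective p
    refine ⟨((x * y : Y) : Y ⧸ Mx), fun h => hy ?_⟩
    rw [eq_comm, QuotientGroup.eq, inv_mul_cancel_left] at h
    exact h
  · intro R hR hfix'
    by_contra hne
    have hRK : R ≤ Mx.normalCore := by
      intro r hr
      intro g
      have h1 := hfix' r hr ((g⁻¹ : Y) : Y ⧸ Mx)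
      rw [hfix, inv_inv] at h1
      exact h1
    set K := Mx.normalCore with hK
    obtain ⟨Q, hQ⟩ := (hR.comap_of_injective _ K.subtype_injective : IsPGroup 2 (R.subgroupOf K)).exists_le_sylow
    have hF := Sylow.normalizer_sup_eq_top Q
    set Q' := (Q : Subgroup K).map K.subtype with hQ'
    have hRQ : R ≤ Q' := fun r hr => ⟨⟨r, hRK hr⟩, hQ (Subgroup.mem_subgroupOf.2 hr), rfl⟩
    have hQp : IsPGroup 2 Q' := Q.isPGroup'.map _
    have hQne : Q' ≠ ⊥ := fun h => hne (le_bot_iff.1 (h ▸ hRQ))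
    obtain ⟨T', hT'⟩ := hQp.exists_le_sylow
    obtain ⟨g, rfl⟩ := MulAction.exists_smul_eq Y T T'
    -- `Q' = T' ∩ K`
    have hTK : ((g • T : Sylow 2 Y) : Subgroup Y) ⊓ K ≤ Q' := by
      have h1 : IsPGroup 2 ((((g • T : Sylow 2 Y) : Subgroup Y) ⊓ K).subgroupOf K) :=
        ((g • T).isPGroup'.to_le inf_le_left).comap_of_injective _ K.subtype_injective
      have h2 : (Q : Subgroup K) ≤ (((g • T : Sylow 2 Y) : Subgroup Y) ⊓ K).subgroupOf K := by
        intro x hx
        rw [Subgroup.mem_subgroupOf]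
        exact ⟨hT' ⟨x, hx, rfl⟩, x.2⟩
      have h3 := Q.is_maximal' h1 h2
      rintro y ⟨hy1, hy2⟩
      refine ⟨⟨y, hy2⟩, ?_, rfl⟩
      rw [SetLike.mem_coe, ← h3, Subgroup.mem_subgroupOf]
      exact ⟨hy1, hy2⟩
    have hnorm : ((g • T : Sylow 2 Y) : Subgroup Y) ≤ normalizer (Q' : Set Y) := by
      intro t ht
      have key' : ∀ s ∈ ((g • T : Sylow 2 Y) : Subgroup Y), ∀ y ∈ Q', s * y * s⁻¹ ∈ Q' := by
        intro s hs y hy
        refine hTK ⟨Subgroup.mul_mem _ (Subgroup.mul_mem _ hs (hT' hy)) (Subgroup.inv_mem _ hs), ?_⟩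
        have hyK : y ∈ K := by
          obtain ⟨x, -, rfl⟩ := hy
          exact x.2
        exact (Subgroup.normalCore_normal Mx).conj_mem y hyK s
      rw [Subgroup.mem_normalizer_iff]
      intro y
      refine ⟨key' t ht y, fun h => ?_⟩
      have := key' t⁻¹ (inv_mem ht) _ h
      rwa [show t⁻¹ * (t * y * t⁻¹) * t⁻¹⁻¹ = y by group] at this
    have hNne : normalizer (Q' : Set Y) ≠ ⊤ := fun h => hQne (core _ (normalizer_eq_top_iff.1 h) hQp)
    have hconj : ∀ H : Subgroup Y, ((g • T : Sylow 2 Y) : Subgroup Y) ≤ H → H ≠ ⊤ → H ≤ MulAut.conj g • Mx := by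
      intro H hH hH1
      have h1 : (T : Subgroup Y) ≤ MulAut.conj g⁻¹ • H := by
        intro t ht
        rw [mem_conj, inv_inv]
        apply hH
        rw [Sylow.coe_subgroup_smul, mem_conj]
        rwa [show g⁻¹ * (g * t * g⁻¹) * g = t by group]
      have h2 : (MulAut.conj g⁻¹ • H : Subgroup Y) ≠ ⊤ := by
        intro h
        apply hH1
        apply Subgroup.eq_top_of_card_eq
        rw [Nat.card_congr (Subgroup.equivSMul (MulAut.conj g⁻¹) H).toEquiv, h, Subgroup.card_top]
      have h3 := max _ h1 h2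
      intro y hy
      rw [mem_conj]
      apply h3
      rw [mem_conj, inv_inv]
      rwa [show g * (g⁻¹ * y * g) * g⁻¹ = y by group]
    have h1 := hconj _ hnorm hNne
    have h2 : K ≤ MulAut.conj g • Mx := by
      intro y hy
      rw [mem_conj]
      have h3 := (Subgroup.normalCore_normal Mx).conj_mem y hy g⁻¹
      rw [inv_inv] at h3
      exact Subgroup.normalCore_le Mx h3
    have h3 : (MulAut.conj g • Mx : Subgroup Y) = ⊤ := by
      rw [← top_le_iff, ← hF]
      exact sup_le h1 h2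
    apply Mne
    apply Subgroup.eq_top_of_card_eq
    rw [Nat.card_congr (Subgroup.equivSMul (MulAut.conj g) Mx).toEquiv, h3, Subgroup.card_top]

end pts

/-- A frame `B ≤ T` (TEXT B4) with (+). -/
structure Fra {Y V : Type u} [Group Y] [AddCommGroup V] [DistribMulAction Y V] (T : Sylow 2 Y)
    (Mx : Subgroup Y) (E F : AddSubgroup V) (B : Subgroup Y) : Prop where
  BT : B ≤ T
  comm : ∀ b ∈ B, ∀ c ∈ B, b * c = c * b
  sq : ∀ b ∈ B, b * b = 1
  FE : F ≤ E
  VB : ∀ b ∈ B, ∀ v : V, b • v + v ∈ E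
  EB : ∀ b ∈ B, ∀ e ∈ E, b • e + e ∈ F
  FB : ∀ b ∈ B, ∀ f ∈ F, b • f = f
  CB : ∀ v : V, (∀ b ∈ B, b • v = v) → v ∈ F
  inj : ∀ w, w ∉ E → ∀ b ∈ B, b • w + w ∈ F → b = 1
  surj : ∀ w, w ∉ E → ∀ e ∈ E, ∃ b ∈ B, b • w + w + e ∈ F
  ne : ∃ v, v ∉ E
  ne' : ∃ e ∈ E, e ∉ F
  plus : ∀ T' : Sylow 2 Y, (∃ v ∈ E, v ≠ 0 ∧ ∀ t ∈ T', t • v = v) → (T' : Subgroup Y) ≤ Mx

variable {G : Type u} [Group G] {S₀ P : Subgroup G} {Y V : Type u} [Group Y] [Finite Y] [AddCommGroup V]
  [Finite V] [DistribMulAction Y V] {T : Sylow 2 Y} {Mx : Subgroup Y}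

/-- **THE END of (BT)**: (+) for one frame implies type `MinusQ`. -/
theorem minusQ (R : Rep S₀ P (zl S₀ P) Y V T Mx) {E F : AddSubgroup V} {B : Subgroup Y}
    (h : Fra T Mx E F B) (h4 : 4 ≤ E.index) : Ty S₀ P := by
  have hT : (T : Subgroup Y) ≠ ⊥ := by
    intro h1
    obtain ⟨e, he, hf⟩ := h.ne'
    refine hf (h.CB e fun b hb => ?_)
    have h3 : b ∈ (T : Subgroup Y) := h.BT hb
    rw [h1, Subgroup.mem_bot] at h3
    rw [h3, one_smul]
  have Pt := pts_of R.core R.TM R.Mne R.max hT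
  have at1 : ∀ T' : Sylow 2 Y, (T' : Subgroup Y) ≤ Mx → At T' ((1 : Y) : Y ⧸ Mx) := fun T' hT' t ht => by
    rw [MulAction.Quotient.smul_coe, smul_eq_mul, mul_one, eq_comm, QuotientGroup.eq, inv_one, one_mul]
    exact hT' ht
  have hfr : Fr E.index T ((1 : Y) : Y ⧸ Mx) E F B :=
    { at' := at1 T R.TM
      ind := rfl
      BT := h.BT
      comm := h.comm
      sq := h.sq
      FE := h.FE
      VB := h.VB
      EB := h.EB
      FB := h.FB
      CB := h.CB
      inj := h.inj
      surj := h.surj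
      ne := h.ne
      ne' := h.ne'
      plus := fun T' q hq hv => Pt.one T' q _ hq (at1 T' (h.plus T' hv)) }
  obtain ⟨Ge⟩ := exists_geo Pt R.two R.faith hfr
  obtain ⟨q, hq⟩ := Pt.ne ((1 : Y) : Y ⧸ Mx)
  refine (Ge.act hq.symm).ty Comm.commStmt normStmt ?_ R
  rw [Ge.card_F]
  exact h4

end Cfsg.Agent.Omega.NO1.HE

end

-- merged: Cfsg.Agent.Mrg.Omega.NO1.FrPlusQ
section

/-!
# (+) for a frame with `|V_P : V_P ∩ E_F| ≥ 4` gives `MinusQ` (text #17521, helper438)
-/

set_option autoImplicit false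
set_option linter.unusedSectionVars false

namespace Cfsg.Agent.Omega.NO1.FrRep

open Subgroup Cfsg Cfsg.Agent.ZN Cfsg.Agent.Omega.MinPar Cfsg.Agent.Omega.Frame
open scoped Pointwise

universe u

variable {G : Type u} [Group G] [Finite G] {S : Sylow 2 G} {P M F : Subgroup G}

/-- 438's frame. -/
theorem exists_fra {Y V : Type u} [Group Y] [Finite Y] [AddCommGroup V] [DistribMulAction Y V] {T : Sylow 2 Y}
    {Mx : Subgroup Y} (R : Rep (S : Subgroup G) P (zl (S : Subgroup G) P) Y V T Mx) (h : Fr S P M F)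
    (hp : PlusAt (S : Subgroup G) P (NOne.Flat.EE (zl (S : Subgroup G) M) F)) :
    ∃ B : Subgroup Y, HE.Fra T Mx (co R (NOne.Flat.EE (zl (S : Subgroup G) M) F)) (co R F) B := by
  obtain ⟨B, hB⟩ := exists_fr' R h hp
  refine ⟨B, hB.BT, hB.comm, hB.sq, hB.FE, hB.VB, hB.EB, hB.FB, hB.CB, hB.inj, hB.surj, hB.ne, hB.ne', ?_⟩
  intro T' hv t ht
  obtain ⟨q, hq⟩ := (top1 R h).pts.ex T'
  obtain rfl := hB.plus T' q hq hv
  have h1 := hq t ht
  change ((t * 1 : Y) : Y ⧸ Mx) = ((1 : Y) : Y ⧸ Mx) at h1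
  rw [mul_one, eq_comm, QuotientGroup.eq, inv_one, one_mul] at h1
  exact h1

/-- **(+), `|V_P : V_P ∩ E_F| ≥ 4`** -/
theorem ty_of_plus (h : Fr S P M F) (hp : PlusAt (S : Subgroup G) P (NOne.Flat.EE (zl (S : Subgroup G) M) F))
    (h4 : 4 ≤ (NOne.Flat.EE (zl (S : Subgroup G) M) F).relIndex (zl (S : Subgroup G) P)) :
    Ty (S : Subgroup G) P := by
  obtain ⟨Y, V, _, _, _, _, _, T, Mx, ⟨R⟩⟩ := h.cfg.exists_rep
  obtain ⟨B, hB⟩ := exists_fra R h hp
  refine HE.minusQ R hB ?_
  rw [index_co]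
  exact h4

end Cfsg.Agent.Omega.NO1.FrRep

end

-- merged: Cfsg.Agent.Omega.NearFF.SymPlus
section

/-!
# OMEGA, (BT), `|V/E| = 2`: a symmetric form and `|R_z| ≥ 4` give (+)

Text: helper276, bb #14522 (replaces (P0)-(P5) of THEOREM BT4, helper318, bb #14336).

`V` a finite `F_2`-space with a nondegenerate alternating form invariant under `Y`, `Y` faithful;
`T` a Sylow 2-subgroup with `C_V(T) = {0, z}`, `M` the unique maximal subgroup over `T`,
`Om = z^Y` spans `V`, `R x` the group of the elements fixing `x` and acting on `x^⊥ / x`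
trivially, `|R z| ≥ 4`, `C_V(R z) ∩ Om = {z}` (DO), no transvections (NT), no four-group
`⟨t_y t_{x+y}, t_x t_{x+y}⟩` (NF).  Result `Data.plus` = (+):
every `g` with `b z (g z) = 0` lies in `M`.
-/

namespace Cfsg.Agent.Omega.NearFF.SymPlus

open scoped Pointwise

section Basic

variable {V : Type*} [AddCommGroup V] [Module (ZMod 2) V]

theorem z2 (c : ZMod 2) : c = 0 ∨ c = 1 := by revert c; decide

theorem add_self' (v : V) : v + v = 0 := ZModModule.add_self v

theorem one_one : (1 : ZMod 2) + 1 = 0 := by decide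

theorem add_cancel (u v : V) : u + (u + v) = v := by
  rw [← add_assoc, add_self', zero_add]

theorem eq_of_add (u v : V) (h : u + v = 0) : u = v := by
  have := congrArg (· + v) h
  simpa [add_assoc, add_self'] using this

/-- an alternating nondegenerate form over `F_2`, values only -/
structure Frm (V : Type*) [AddCommGroup V] [Module (ZMod 2) V] where
  b : V → V → ZMod 2
  add_left : ∀ u v w, b (u + v) w = b u w + b v w
  symm : ∀ u v, b u v = b v u
  alt : ∀ v, b v v = 0
  nondeg : ∀ v, (∀ w, b v w = 0) → v = 0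

variable (F : Frm V)

namespace Frm

theorem add_right (u v w : V) : F.b u (v + w) = F.b u v + F.b u w := by
  rw [F.symm, F.add_left, F.symm v, F.symm w]

theorem zero_left (w : V) : F.b 0 w = 0 := by
  have := F.add_left 0 0 w
  simpa using this

theorem zero_right (w : V) : F.b w 0 = 0 := by rw [F.symm, F.zero_left]

theorem smul_left (c : ZMod 2) (v w : V) : F.b (c • v) w = c * F.b v w := by
  rcases z2 c with rfl | rfl
  · simp [F.zero_left]
  · simp

theorem smul_right (c : ZMod 2) (v w : V) : F.b v (c • w) = c * F.b v w := by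
  rw [F.symm, F.smul_left, F.symm]

/-- `v ↦ v + b(x,v) w + (b(w,v) + k b(x,v)) x` -/
def sig (x w : V) (k : ZMod 2) (v : V) : V :=
  v + F.b x v • w + (F.b w v + k * F.b x v) • x

theorem sig_comp {x w w' : V} (k k' : ZMod 2) (h : F.b x w = 0) (h' : F.b x w' = 0) (v : V) :
    F.sig x w k (F.sig x w' k' v) = F.sig x (w + w') (k + k' + F.b w w') v := by
  have hw : F.b w x = 0 := by rw [F.symm, h]
  unfold sig
  simp only [F.add_left, F.add_right, F.smul_right, h', hw, F.alt]
  match_scalars <;> ring_nf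

theorem sig_shift (x w : V) (k : ZMod 2) (v : V) :
    F.sig x (w + x) k v = F.sig x w k v := by
  unfold sig
  rw [F.add_left]
  rcases z2 (F.b x v) with h | h <;> rcases z2 (F.b w v) with h' | h' <;>
    rcases z2 k with rfl | rfl <;> simp [h, h', one_one] <;> abel_nf <;>
    simp [two_smul, add_self']

theorem sig_swap (x w : V) (v : V) : F.sig x w 0 v = F.sig w x 0 v := by
  unfold sig
  simp only [zero_mul, add_zero]
  abel

theorem exists_far {x : V} (hx : x ≠ 0) : ∃ v, F.b x v = 1 := by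
  by_contra h
  push Not at h
  exact hx (F.nondeg x fun w => (z2 _).resolve_right (h w))

end Frm
end Basic

section Act

variable {Y V : Type*} [Group Y] [AddCommGroup V] [Module (ZMod 2) V] [DistribMulAction Y V]

theorem smul_zmod (g : Y) (c : ZMod 2) (x : V) : g • (c • x) = c • (g • x) := by
  rcases z2 c with rfl | rfl <;> simp

/-- an invariant form, faithful action -/
structure IFrm (Y V : Type*) [Group Y] [AddCommGroup V] [Module (ZMod 2) V]
    [DistribMulAction Y V] extends Frm V where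
  inv : ∀ (g : Y) (v w : V), b (g • v) (g • w) = b v w
  faith : ∀ g : Y, (∀ v : V, g • v = v) → g = 1

namespace IFrm

variable (F : IFrm Y V)

theorem inv' (g : Y) (v w : V) : F.b (g⁻¹ • v) w = F.b v (g • w) := by
  rw [← F.inv g (g⁻¹ • v) w, smul_inv_smul]

/-- the group `R_x` of the elements fixing `x` and acting on `x^⊥` modulo `x` trivially -/
def R (x : V) : Subgroup Y where
  carrier := {r | r • x = x ∧ ∀ u, F.b x u = 0 → r • u = u ∨ r • u = u + x}
  one_mem' := ⟨one_smul _ _, fun u _ => Or.inl (one_smul _ _)⟩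
  mul_mem' := by
    rintro r s ⟨hr, hr'⟩ ⟨hs, hs'⟩
    refine ⟨by rw [mul_smul, hs, hr], fun u hu => ?_⟩
    rcases hs' u hu with h | h <;> rcases hr' u hu with h' | h' <;>
      simp [mul_smul, h, h', hr, add_assoc, add_self']
  inv_mem' := by
    rintro r ⟨hr, hr'⟩
    refine ⟨by rw [inv_smul_eq_iff, hr], fun u hu => ?_⟩
    have h1 : F.b x (r⁻¹ • u) = 0 := by
      rw [F.symm, F.inv', hr, F.symm, hu]
    rcases hr' _ h1 with h | h
    · left; rw [smul_inv_smul] at h; exact h.symm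
    · right
      rw [smul_inv_smul] at h
      rw [h, add_assoc, add_self', add_zero, ← h]

theorem mem_R {x : V} {r : Y} :
    r ∈ F.R x ↔ r • x = x ∧ ∀ u, F.b x u = 0 → r • u = u ∨ r • u = u + x := Iff.rfl

/-- `g` acts as `sig x w k` -/
def Acts (g : Y) (x w : V) (k : ZMod 2) : Prop := ∀ v, g • v = F.sig x w k v

theorem acts_mul {r r' : Y} {x w w' : V} {k k' : ZMod 2} (h : F.b x w = 0) (h' : F.b x w' = 0)
    (hr : F.Acts r x w k) (hr' : F.Acts r' x w' k') :
    F.Acts (r * r') x (w + w') (k + k' + F.b w w') := by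
  intro v
  rw [mul_smul, hr' v, hr, F.sig_comp k k' h h']

theorem acts_conj {r : Y} {x w : V} {k : ZMod 2} (g : Y) (hr : F.Acts r x w k) :
    F.Acts (g * r * g⁻¹) (g • x) (g • w) k := by
  intro v
  rw [mul_smul, mul_smul, hr]
  unfold Frm.sig
  rw [smul_add, smul_add, smul_zmod, smul_zmod, smul_inv_smul]
  rw [← F.inv g x, ← F.inv g w, smul_inv_smul]

theorem acts_shift {r : Y} {x w : V} {k : ZMod 2} :
    F.Acts r x (w + x) k ↔ F.Acts r x w k := by
  unfold Acts
  simp only [F.sig_shift]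

theorem acts_swap {r : Y} {x w : V} : F.Acts r x w 0 ↔ F.Acts r w x 0 := by
  unfold Acts
  exact forall_congr' fun v => by rw [F.sig_swap]

theorem R_of_acts {r : Y} {x w : V} {k : ZMod 2} (h : F.b x w = 0) (hr : F.Acts r x w k) :
    r ∈ F.R x := by
  rw [mem_R]
  constructor
  · rw [hr]
    simp [Frm.sig, F.alt, F.symm w x, h]
  · intro u hu
    rw [hr]
    rcases z2 (F.b w u) with h' | h' <;> simp [Frm.sig, hu, h']

theorem acts_of_R {r : Y} {x : V} (hx : x ≠ 0) (hr : r ∈ F.R x) :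
    ∃ w k, F.b x w = 0 ∧ F.Acts r x w k := by
  obtain ⟨hrx, hru⟩ := hr
  obtain ⟨v0, hv0⟩ := F.exists_far hx
  have hw : F.b x (r • v0 + v0) = 0 := by
    rw [F.add_right, hv0]
    nth_rw 1 [← hrx]
    rw [F.inv, hv0]; exact one_one
  -- on x^perp
  have hperp : ∀ u, F.b x u = 0 → r • u = u + F.b (r • v0 + v0) u • x := by
    intro u hu
    have h1 : F.b (r • v0) (r • u) = F.b v0 u := F.inv _ _ _
    have h2 : F.b (r • v0) x = 1 := by
      nth_rw 1 [← hrx]
      rw [F.inv, F.symm, hv0]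
    rw [F.add_left]
    rcases hru u hu with h | h
    · rw [h] at h1
      rw [h, h1]
      simp [← two_mul, show (2 : ZMod 2) = 0 from rfl]
    · rw [h, F.add_right, h2] at h1
      rw [h, ← h1]
      rcases z2 (F.b (r • v0) u) with h3 | h3 <;> simp [h3, one_one]
  refine ⟨r • v0 + v0, F.b (r • v0 + v0) v0, hw, fun v => ?_⟩
  unfold Frm.sig
  rcases z2 (F.b x v) with h | h
  · rw [hperp v h, h]; simp
  · have h1 : F.b x (v + v0) = 0 := by rw [F.add_right, h, hv0]; exact one_one
    have h2 := hperp _ h1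
    have h3 : r • v = r • (v + v0) + r • v0 := by
      rw [smul_add, add_assoc, add_self', add_zero]
    rw [h3, h2, h, F.add_right]
    simp only [one_smul, mul_one]
    abel_nf

theorem R_conj {x : V} {r : Y} (g : Y) (hr : r ∈ F.R x) : g * r * g⁻¹ ∈ F.R (g • x) := by
  obtain ⟨h1, h2⟩ := hr
  refine ⟨by rw [mul_smul, mul_smul, inv_smul_smul, h1], fun u hu => ?_⟩
  have hu' : F.b x (g⁻¹ • u) = 0 := by rw [F.symm, F.inv', F.symm, hu]
  rcases h2 _ hu' with h | h
  · left; rw [mul_smul, mul_smul, h, smul_inv_smul]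
  · right; rw [mul_smul, mul_smul, h, smul_add, smul_inv_smul]

theorem R_smul {x : V} {r : Y} (hx : x ≠ 0) (hr : r ∈ F.R x) : r * r = 1 := by
  obtain ⟨w, k, h, hr⟩ := F.acts_of_R hx hr
  apply F.faith
  intro v
  rw [F.acts_mul h h hr hr]
  simp [Frm.sig, add_self', F.zero_left, F.alt]

theorem R_two {x : V} (hx : x ≠ 0) : IsPGroup 2 (F.R x) := by
  intro g
  refine ⟨1, ?_⟩
  ext
  simpa [pow_two] using F.R_smul hx g.2

/-- freeness outside the hyperplane -/
theorem R_free {x u : V} (hx : x ≠ 0) (hu : F.b x u = 1) {r : Y} (hr : r ∈ F.R x)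
    (h : r • u = u) : r = 1 := by
  obtain ⟨w, k, hw, hr⟩ := F.acts_of_R hx hr
  rw [hr] at h
  have h1 : w + (F.b w u + k) • x = 0 := by
    unfold Frm.sig at h
    rw [hu, one_smul, mul_one, add_assoc] at h
    simpa using h
  apply F.faith
  have hwx := eq_of_add _ _ h1
  intro v
  rw [hr]
  unfold Frm.sig
  rcases z2 (F.b w u + k) with h2 | h2
  · rw [h2] at hwx
    have hw0 : w = 0 := by simpa using hwx
    subst hw0
    rw [F.zero_left, zero_add] at h2
    simp [F.zero_left, h2]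
  · rw [h2, one_smul] at hwx
    subst hwx
    rw [hu] at h2
    have : k = 0 := by simpa using h2
    subst this
    simp [add_assoc, ← add_smul, ← two_mul, show (2 : ZMod 2) = 0 from rfl]

end IFrm

/-- the line `{x, y, x + y}` -/
def line (x y : V) : Set V := {x, y, x + y}

omit [Module (ZMod 2) V] in
theorem mem_line {x y v : V} : v ∈ line x y ↔ v = x ∨ v = y ∨ v = x + y := Iff.rfl

omit [Module (ZMod 2) V] in
theorem smul_line (g : Y) (x y : V) : g • line x y = line (g • x) (g • y) := by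
  unfold line
  rw [Set.smul_set_insert, Set.smul_set_insert, Set.smul_set_singleton, smul_add]

omit [Module (ZMod 2) V] in
theorem line_comm (x y : V) : line x y = line y x := by
  ext v; simp only [mem_line, add_comm x y]; tauto

theorem line_add (x y : V) : line x y = line x (x + y) := by
  ext v; simp only [mem_line, add_cancel]; tauto

/-- the hypotheses: `f` is a symplectic form -/
structure Data (Y V : Type*) [Group Y] [AddCommGroup V] [Module (ZMod 2) V]
    [DistribMulAction Y V] extends IFrm Y V where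
  z : V
  z_ne : z ≠ 0
  span : AddSubgroup.closure (MulAction.orbit Y z) = (⊤ : AddSubgroup V)
  T : Subgroup Y
  M : Subgroup Y
  T_two : IsPGroup 2 T
  T_max : ∀ Q : Subgroup Y, IsPGroup 2 Q → T ≤ Q → Q = T
  T_fix : ∀ t ∈ T, t • z = z
  T_only : ∀ v : V, (∀ t ∈ T, t • v = v) → v = 0 ∨ v = z
  M_only : ∀ H : Subgroup Y, T ≤ H → H ≠ ⊤ → H ≤ M
  card4 : 4 ≤ Nat.card (toIFrm.R z)
  DO : ∀ y ∈ MulAction.orbit Y z, (∀ r ∈ toIFrm.R z, r • y = y) → y = z
  NT : ∀ (g : Y) (x : V), x ≠ 0 → ¬ ∀ v, g • v = v + b v x • x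
  NF : ∀ (g h : Y) (x y : V), x ≠ 0 → y ≠ 0 → x ≠ y → b x y = 0 →
    (∀ v, g • v = v + b v y • y + b v (x + y) • (x + y)) →
    ¬ ∀ v, h • v = v + b v x • x + b v (x + y) • (x + y)

/-- parity -/
theorem exists_fix {α : Type*} [MulAction Y α] (X : Set α) (hX : X.Finite) (P Q : Subgroup Y)
    (hP : IsPGroup 2 P) (hQ : IsPGroup 2 Q) (hPX : ∀ g ∈ P, ∀ x ∈ X, g • x ∈ X)
    (hQX : ∀ g ∈ Q, ∀ x ∈ X, g • x ∈ X) (x0 : α) (hx0 : x0 ∈ X) (h0 : ∀ g ∈ P, g • x0 = x0)
    (hu : ∀ x ∈ X, (∀ g ∈ P, g • x = x) → x = x0) : ∃ x ∈ X, ∀ g ∈ Q, g • x = x := by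
  classical
  let SP : SubMulAction P α := ⟨X, fun g {x} hx => hPX g g.2 x hx⟩
  let SQ : SubMulAction Q α := ⟨X, fun g {x} hx => hQX g g.2 x hx⟩
  have : Finite SP := hX
  have : Finite SQ := hX
  have h1 : Nat.card SP ≡ Nat.card (MulAction.fixedPoints P SP) [MOD 2] :=
    hP.card_modEq_card_fixedPoints SP
  have h2 : Nat.card (MulAction.fixedPoints P SP) = 1 := by
    rw [Nat.card_eq_one_iff_unique]
    refine ⟨⟨fun a b => ?_⟩, ⟨⟨⟨x0, hx0⟩, fun g => Subtype.ext (h0 g g.2)⟩⟩⟩
    have key : ∀ a : MulAction.fixedPoints P SP, (a : SP).1 = x0 := fun a =>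
      hu _ a.1.2 fun g hg => congrArg Subtype.val (a.2 ⟨g, hg⟩)
    exact Subtype.ext (Subtype.ext ((key a).trans (key b).symm))
  have h3 : ¬ 2 ∣ Nat.card SQ := by
    have : Nat.card SQ = Nat.card SP := rfl
    rw [this]
    rw [h2] at h1
    intro hd
    have := (Nat.modEq_zero_iff_dvd.mpr hd).symm.trans h1
    exact absurd this (by decide)
  obtain ⟨x, hx⟩ := hQ.nonempty_fixed_point_of_prime_not_dvd_card SQ h3
  exact ⟨x.1, x.2, fun g hg => congrArg Subtype.val (hx ⟨g, hg⟩)⟩

namespace Data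

variable (D : Data Y V)

abbrev Om : Set V := MulAction.orbit Y D.z

theorem z_mem : D.z ∈ D.Om := MulAction.mem_orbit_self _

theorem smul_mem (g : Y) {x : V} (hx : x ∈ D.Om) : g • x ∈ D.Om := by
  obtain ⟨h, rfl⟩ := hx
  exact ⟨g * h, mul_smul _ _ _⟩

theorem ne_zero {x : V} (hx : x ∈ D.Om) : x ≠ 0 := by
  obtain ⟨g, rfl⟩ := hx
  intro h
  exact D.z_ne ((smul_eq_zero_iff_eq g).mp h)

theorem far {x : V} (hx : x ≠ 0) : ∃ v ∈ D.Om, D.b x v = 1 := by
  by_contra h
  push Not at h
  apply hx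
  apply D.nondeg
  intro w
  have hw : w ∈ AddSubgroup.closure (MulAction.orbit Y D.z) := by rw [D.span]; trivial
  induction hw using AddSubgroup.closure_induction with
  | mem v hv => exact (z2 _).resolve_right (h v hv)
  | zero => exact D.zero_right _
  | add u v _ _ hu hv => rw [D.add_right, hu, hv, add_zero]
  | neg v _ hv =>
    have : -v = v := ZModModule.neg_eq_self v
    rw [this, hv]

theorem do' {x y : V} (hx : x ∈ D.Om) (hy : y ∈ D.Om) (h : ∀ r ∈ D.R x, r • y = y) : y = x := by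
  obtain ⟨g, rfl⟩ := hx
  have := D.DO (g⁻¹ • y) (D.smul_mem _ hy) (fun r hr => by
    have h1 := h _ (D.R_conj g hr)
    rw [mul_smul, mul_smul, smul_eq_iff_eq_inv_smul] at h1
    exact h1)
  rw [← this]
  simp

theorem exists_move {x y : V} (hx : x ∈ D.Om) (hy : y ∈ D.Om) (hxy : x ≠ y) (hb : D.b x y = 0) :
    ∃ r ∈ D.R x, r • y = y + x := by
  by_contra h
  push Not at h
  exact hxy (D.do' hx hy fun r hr => (hr.2 y hb).resolve_right (h r hr)).symm

theorem add_mem {x y : V} (hx : x ∈ D.Om) (hy : y ∈ D.Om) (hxy : x ≠ y) (hb : D.b x y = 0) :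
    x + y ∈ D.Om := by
  obtain ⟨r, _, h⟩ := D.exists_move hx hy hxy hb
  rw [add_comm, ← h]
  exact D.smul_mem _ hy

theorem tt (x y v : V) :
    D.sig x y 1 v = v + D.b v y • y + D.b v (x + y) • (x + y) := by
  unfold Frm.sig
  rw [D.add_right, D.symm v x, D.symm v y]
  rcases z2 (D.b x v) with h | h <;> rcases z2 (D.b y v) with h' | h' <;>
    simp [h, h', one_one]
  · rw [add_comm x y, ← add_assoc, add_assoc v, add_self', add_zero]
  · abel
  
theorem good {x y : V} (hx : x ∈ D.Om) (hy : y ∈ D.Om) (hxy : x ≠ y) (hb : D.b x y = 0)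
    {r : Y} {k : ZMod 2} (hr : D.Acts r x y k) : k = 0 := by
  refine (z2 k).resolve_right fun hk => ?_
  subst hk
  have hb' : D.b y x = 0 := by rw [D.symm, hb]
  obtain ⟨r1, hr1, h1⟩ := D.exists_move hy hx hxy.symm hb'
  obtain ⟨u, k1, hu, ha⟩ := D.acts_of_R (D.ne_zero hy) hr1
  have hux : D.b u x = 1 := by
    refine (z2 _).resolve_left fun h0 => ?_
    rw [ha, Frm.sig, hb', h0] at h1
    exact D.ne_zero hy (by simpa using h1)
  have hxu : D.b x u = 1 := by rw [D.symm, hux]
  have hry : r • y = y := by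
    rw [hr]; simp [Frm.sig, hb, D.alt]
  have hru : r • u = u + (y + x) := by
    rw [hr, Frm.sig, hxu, hu]; simp [add_assoc]
  have ha2 := D.acts_conj r ha
  rw [hry, hru] at ha2
  have hb2 : D.b y (u + (y + x)) = 0 := by
    rw [D.add_right, D.add_right, hu, D.alt, hb']; simp
  have ha3 := D.acts_mul hu hb2 ha ha2
  rw [add_cancel] at ha3
  have hk3 : k1 + k1 + D.b u (u + (y + x)) = 1 := by
    rw [D.add_right, D.add_right, D.alt, D.symm u y, hu, hux]
    simp [← two_mul, show (2 : ZMod 2) = 0 from rfl]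
  rw [hk3, add_comm, D.acts_shift] at ha3
  refine D.NF r (r1 * (r * r1 * r⁻¹)) x y (D.ne_zero hx) (D.ne_zero hy) hxy hb
    (fun v => ?_) (fun v => ?_)
  · rw [hr, D.tt]
  · rw [ha3, D.tt, add_comm y x]

theorem card_R {x : V} (hx : x ∈ D.Om) : Nat.card (D.R x) = Nat.card (D.R D.z) := by
  obtain ⟨g, rfl⟩ := hx
  symm
  refine Nat.card_congr ⟨fun r => ⟨g * r * g⁻¹, D.R_conj g r.2⟩,
    fun r => ⟨g⁻¹ * r * g, ?_⟩, fun r => ?_, fun r => ?_⟩
  · have := D.R_conj g⁻¹ r.2
    simpa using this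
  · ext; simp [mul_assoc]
  · ext; simp [mul_assoc]

theorem stab_le : MulAction.stabilizer Y D.z ≤ D.M := by
  apply D.M_only
  · intro t ht
    exact D.T_fix t ht
  · intro h
    obtain ⟨v, ⟨g, rfl⟩, hv⟩ := D.far D.z_ne
    have : g ∈ MulAction.stabilizer Y D.z := by rw [h]; trivial
    rw [MulAction.mem_stabilizer_iff] at this
    rw [show (fun m : Y => m • D.z) g = g • D.z from rfl, this, D.alt] at hv
    exact zero_ne_one hv

theorem R_stab {x y : V} (hb : D.b x y = 0) {r : Y} (hr : r ∈ D.R x) :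
    r • line x y = line x y := by
  rw [smul_line, hr.1]
  rcases hr.2 y hb with h | h
  · rw [h]
  · rw [h, add_comm y x, ← line_add]

theorem trans_line {x y p : V} (hx : x ∈ D.Om) (hy : y ∈ D.Om) (hxy : x ≠ y) (hb : D.b x y = 0)
    (hp : p ∈ line x y) : ∃ n ∈ MulAction.stabilizer Y (line x y), n • x = p := by
  have hs : x + y ∈ D.Om := D.add_mem hx hy hxy hb
  rcases hp with rfl | rfl | rfl
  · exact ⟨1, one_mem _, one_smul _ _⟩
  · obtain ⟨r, hr, h⟩ := D.exists_move hs hx
      (fun h => D.ne_zero hy (by simpa using h)) (by rw [D.add_left, D.alt, D.symm, hb, add_zero])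
    refine ⟨r, ?_, by rw [h, add_cancel]⟩
    rw [MulAction.mem_stabilizer_iff]
    have h2 := D.R_stab (x := x + p) (y := x) (by rw [D.add_left, D.alt, D.symm, hb, add_zero]) hr
    rwa [line_comm, ← line_add] at h2
  · obtain ⟨r, hr, h⟩ := D.exists_move hy hx hxy.symm (by rw [D.symm, hb])
    refine ⟨r, ?_, h⟩
    rw [MulAction.mem_stabilizer_iff, line_comm]
    exact D.R_stab (by rw [D.symm, hb]) hr

/-- the end of the argument: a `T`-invariant line conjugate to `{z, g z, z + g z}` -/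
theorem fin {g h : Y} {u : V} (hu : u ∈ D.Om) (hzu : D.z ≠ u) (hb : D.b D.z u = 0)
    (hT : ∀ t ∈ D.T, t • line D.z u = line D.z u)
    (hl : line D.z u = h • line D.z (g • D.z)) : g ∈ D.M := by
  set N := MulAction.stabilizer Y (line D.z u) with hN
  have hNM : N ≤ D.M := by
    apply D.M_only
    · intro t ht
      exact hT t ht
    · intro hN'
      obtain ⟨v, ⟨k, rfl⟩, hv⟩ := D.far D.z_ne
      have hk : k ∈ N := by rw [hN']; trivial
      rw [hN, MulAction.mem_stabilizer_iff] at hk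
      have hz : k • D.z ∈ line D.z u := by
        rw [← hk]
        exact Set.smul_mem_smul_set (Or.inl rfl)
      have h0 : D.b D.z (k • D.z) = 0 := by
        rcases hz with h | h | h
        · rw [h, D.alt]
        · rw [h, hb]
        · rw [h, D.add_right, D.alt, hb, add_zero]
      rw [show (fun m : Y => m • D.z) k = k • D.z from rfl, h0] at hv
      exact zero_ne_one hv
  have key : ∀ k : Y, k • D.z ∈ line D.z u → k ∈ D.M := by
    intro k hk
    obtain ⟨n, hn, hnz⟩ := D.trans_line D.z_mem hu hzu hb hk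
    have h1 : k⁻¹ * n ∈ D.M := D.stab_le (by
      rw [MulAction.mem_stabilizer_iff, mul_smul, hnz, inv_smul_smul])
    have h2 := D.M.mul_mem (hNM hn) (D.M.inv_mem h1)
    simpa using h2
  have hh : h ∈ D.M := key h (by
    rw [hl]; exact Set.smul_mem_smul_set (Or.inl rfl))
  have hg : h * g ∈ D.M := key _ (by
    rw [hl, mul_smul]; exact Set.smul_mem_smul_set (Or.inr (Or.inl rfl)))
  have := D.M.mul_mem (D.M.inv_mem hh) hg
  simpa using this

theorem line_mem' {p q x : V} (hp : p ∈ D.Om) (hq : q ∈ D.Om) (hpq : p ≠ q)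
    (hb : D.b p q = 0) (hx : x ∈ line p q) :
    ∃ u ∈ D.Om, x ≠ u ∧ D.b x u = 0 ∧ line p q = line x u := by
  rcases mem_line.mp hx with rfl | rfl | rfl
  · exact ⟨_, hq, hpq, hb, rfl⟩
  · exact ⟨_, hp, hpq.symm, by rw [D.symm, hb], line_comm _ _⟩
  · refine ⟨p, hp, ?_, ?_, ?_⟩
    · intro h5
      exact D.ne_zero hq (by simpa using h5)
    · rw [D.add_left, D.alt, D.symm, hb, add_zero]
    · rw [line_add, line_comm]

theorem line_mem {w : V} (hw : w ∈ D.Om) (hzw : D.z ≠ w) (hb : D.b D.z w = 0) {h : Y}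
    (hz : D.z ∈ h • line D.z w) :
    ∃ u ∈ D.Om, D.z ≠ u ∧ D.b D.z u = 0 ∧ h • line D.z w = line D.z u := by
  rw [smul_line] at hz ⊢
  exact D.line_mem' (D.smul_mem h D.z_mem) (D.smul_mem h hw)
    (fun h' => hzw (smul_left_cancel _ h')) (by rw [D.inv, hb]) hz

/-- (PAR): outside the exceptional case -/
theorem par [Finite V] {g : Y} (hzw : D.z ≠ g • D.z) (hb : D.b D.z (g • D.z) = 0)
    (hne : ¬ (Nat.card (D.R D.z) = 4 ∧ ∃ r, D.Acts r D.z (g • D.z) 0)) : g ∈ D.M := by
  set w := g • D.z with hwdef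
  have hw : w ∈ D.Om := D.smul_mem g D.z_mem
  have hb' : D.b w D.z = 0 := by rw [D.symm, hb]
  let X : Set (Set V) := {l | (∃ h : Y, l = h • line D.z w) ∧ D.z ∈ l}
  let C : Subgroup Y := D.R w ⊓ MulAction.stabilizer Y D.z
  obtain ⟨r0, hr0, hr0z⟩ := D.exists_move hw D.z_mem hzw.symm hb'
  have hCT : ∀ H : Subgroup Y, (∀ t ∈ H, t • D.z = D.z) → ∀ t ∈ H, ∀ l ∈ X, t • l ∈ X := by
    rintro H hH t ht l ⟨⟨h, rfl⟩, hz⟩
    refine ⟨⟨t * h, by rw [mul_smul]⟩, ?_⟩
    rw [← hH t ht]
    exact Set.smul_mem_smul_set (by rw [hH t ht]; exact hz)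
  obtain ⟨l, ⟨⟨h, rfl⟩, hz⟩, hfix⟩ := exists_fix X (Set.toFinite _) C D.T
    ((D.R_two (D.ne_zero hw)).to_le inf_le_left) D.T_two (hCT C fun t ht => ht.2)
    (hCT D.T D.T_fix) (line D.z w) ⟨⟨1, by rw [one_smul]⟩, Or.inl rfl⟩
    (fun r hr => by
      rw [line_comm]
      exact D.R_stab hb' hr.1)
    (by
      rintro l ⟨⟨h, rfl⟩, hz⟩ hfix
      obtain ⟨u, hu, hzu, hbu, hl⟩ := D.line_mem hw hzw hb hz
      rw [hl] at hfix ⊢
      rcases z2 (D.b w u) with hwu | hwu
      · by_cases huw : u = w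
        · rw [huw]
        -- `C` fixes `u`
        have hCu : ∀ r ∈ C, r • u = u := by
          intro r hr
          refine (hr.1.2 u hwu).resolve_right fun h => ?_
          have h1 : u + w ∈ line D.z u := by
            rw [← hfix r hr, ← h]
            exact Set.smul_mem_smul_set (Or.inr (Or.inl rfl))
          rcases mem_line.mp h1 with h1 | h1 | h1
          · have h2 : r • D.z = D.z := hr.2
            rw [← h1, smul_add, h, hr.1.1, add_assoc, add_self', add_zero] at h2
            exact D.ne_zero hw (by simpa using h2.symm)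
          · exact D.ne_zero hw (by simpa using h1)
          · rw [add_comm u w] at h1
            exact hzw (add_right_cancel h1).symm
        obtain ⟨r1, hr1, hr1u⟩ := D.exists_move hw hu (Ne.symm huw) hwu
        have hr1z : r1 • D.z = D.z + w := by
          refine (hr1.2 _ hb').resolve_left fun h => ?_
          have := hCu r1 ⟨hr1, h⟩
          rw [hr1u] at this
          exact D.ne_zero hw (by simpa using this)
        have hzu' : D.z + u ∈ D.Om := D.add_mem D.z_mem hu hzu hbu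
        have h3 : D.z + u = w := by
          apply D.do' hw hzu'
          intro r hr
          rcases hr.2 D.z hb' with h | h
          · rw [smul_add, h, hCu r ⟨hr, h⟩]
          · have h4 : r1⁻¹ * r ∈ C := by
              refine ⟨(D.R w).mul_mem ((D.R w).inv_mem hr1) hr, ?_⟩
              show (r1⁻¹ * r) • D.z = D.z
              rw [mul_smul, inv_smul_eq_iff, h, hr1z]
            have h5 := hCu _ h4
            rw [mul_smul, inv_smul_eq_iff, hr1u] at h5
            rw [smul_add, h, h5]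
            rw [add_assoc, add_comm u w, add_cancel]
        rw [← h3, ← line_add]
      · exfalso
        have hzwu : D.b w (D.z + u) = 1 := by rw [D.add_right, hb', hwu, zero_add]
        have h2 : ∀ r ∈ C, r • u = u ∨ r • u = u + D.z := by
          intro r hr
          have h1 : r • u ∈ line D.z u := by
            rw [← hfix r hr]
            exact Set.smul_mem_smul_set (Or.inr (Or.inl rfl))
          rcases h1 with h1 | h1 | h1
          · exfalso
            have h2 : r • D.z = D.z := hr.2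
            exact hzu (smul_left_cancel r (h2.trans h1.symm))
          · exact Or.inl h1
          · right; rw [h1, add_comm]
        -- `|C| ≤ 2`
        have hinj : ∀ r ∈ D.R w, ∀ s ∈ D.R w, r • u = s • u → r = s := by
          intro r hr s hs h
          have h1 := D.R_free (D.ne_zero hw) hwu ((D.R w).mul_mem ((D.R w).inv_mem hs) hr)
            (by rw [mul_smul, h, inv_smul_smul])
          exact (inv_mul_eq_one.mp h1).symm
        have hfour : ∀ r ∈ D.R w, r • u ∈ ({u, u + D.z, r0 • u, r0 • (u + D.z)} : Set V) := by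
          intro r hr
          rcases hr.2 D.z hb' with h | h
          · rcases h2 r ⟨hr, h⟩ with h' | h' <;> simp [h']
          · have h4 : r0⁻¹ * r ∈ C := by
              refine ⟨(D.R w).mul_mem ((D.R w).inv_mem hr0) hr, ?_⟩
              show (r0⁻¹ * r) • D.z = D.z
              rw [mul_smul, inv_smul_eq_iff, h, hr0z]
            rcases h2 _ h4 with h5 | h5 <;> rw [mul_smul, inv_smul_eq_iff] at h5 <;> simp [h5]
        have hcard : Nat.card (D.R w) ≤ 4 := by
          classical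
          have hle : Nat.card (D.R w) ≤
              Nat.card (({u, u + D.z, r0 • u, r0 • (u + D.z)} : Finset V) : Set V) := by
            refine Nat.card_le_card_of_injective
              (fun r => ⟨(r : Y) • u, by simpa using hfour r r.2⟩) ?_
            intro r s h
            exact Subtype.ext (hinj _ r.2 _ s.2 (congrArg Subtype.val h))
          refine hle.trans ?_
          rw [Nat.card_coe_set_eq, Set.ncard_coe_finset]
          exact Finset.card_le_four
        have hc4 : Nat.card (D.R D.z) = 4 := by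
          have := D.card4
          rw [D.card_R hw] at hcard
          omega
        -- some element of `C` moves `u`
        have hex : ∃ r ∈ C, r • u = u + D.z := by
          by_contra hno
          push Not at hno
          have hC1 : ∀ r ∈ C, r = 1 := fun r hr =>
            hinj r hr.1 1 (one_mem _) (by
              rw [one_smul]; exact (h2 r hr).resolve_right (hno r hr))
          have h6 : ∀ r ∈ D.R w, r = 1 ∨ r = r0 := by
            intro r hr
            rcases hr.2 D.z hb' with h | h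
            · exact Or.inl (hC1 r ⟨hr, h⟩)
            · right
              have h4 : r0⁻¹ * r ∈ C := by
                refine ⟨(D.R w).mul_mem ((D.R w).inv_mem hr0) hr, ?_⟩
                show (r0⁻¹ * r) • D.z = D.z
                rw [mul_smul, inv_smul_eq_iff, h, hr0z]
              exact (inv_mul_eq_one.mp (hC1 _ h4)).symm
          have h7 : Nat.card (D.R w) ≤ 2 := by
            classical
            have hle : Nat.card (D.R w) ≤ Nat.card (({1, r0} : Finset Y) : Set Y) := by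
              refine Nat.card_le_card_of_injective
                (fun r => ⟨(r : Y), by simpa using h6 r r.2⟩) ?_
              intro r s h
              exact Subtype.ext (Subtype.mk.inj h)
            refine hle.trans ?_
            rw [Nat.card_coe_set_eq, Set.ncard_coe_finset]
            exact Finset.card_le_two
          have := D.card4
          rw [← D.card_R hw] at this
          omega
        obtain ⟨r, hr, hru⟩ := hex
        obtain ⟨w', k, hw', ha⟩ := D.acts_of_R (D.ne_zero hw) hr.1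
        have h8 : D.Acts r w D.z k := by
          have h9 := ha u
          rw [hru, Frm.sig, hwu, one_smul, mul_one, add_assoc] at h9
          have h10 : D.z = w' + (D.b w' u + k) • w := add_left_cancel h9
          rcases z2 (D.b w' u + k) with h11 | h11
          · rw [h11, zero_smul, add_zero] at h10
            rw [h10]; exact ha
          · rw [h11, one_smul] at h10
            rw [h10, D.acts_shift]; exact ha
        have hk : k = 0 := D.good hw D.z_mem hzw.symm hb' h8
        subst hk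
        exact hne ⟨hc4, r, (D.acts_swap).mp h8⟩)
  obtain ⟨u, hu, hzu, hbu, hl⟩ := D.line_mem hw hzw hb hz
  rw [hl] at hfix
  exact D.fin hu hzu hbu hfix hl.symm

theorem acts_unique {s : Y} {x w w' : V} {k k' : ZMod 2} (hx : x ≠ 0)
    (h : D.Acts s x w k) (h' : D.Acts s x w' k') : (w' = w ∨ w' = w + x) ∧ k = k' := by
  obtain ⟨v, _, hv⟩ := D.far hx
  have h1 := (h v).symm.trans (h' v)
  unfold Frm.sig at h1
  rw [hv, one_smul, one_smul, mul_one, mul_one, add_assoc, add_assoc] at h1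
  have h2 := add_left_cancel h1
  have h3 : w' = w ∨ w' = w + x := by
    rcases z2 (D.b w v + k) with h4 | h4 <;> rcases z2 (D.b w' v + k') with h5 | h5 <;>
      rw [h4, h5] at h2 <;> simp only [zero_smul, one_smul, add_zero] at h2
    · exact Or.inl h2.symm
    · right; rw [h2, add_assoc, add_self', add_zero]
    · exact Or.inr h2.symm
    · left; exact (add_right_cancel h2).symm
  refine ⟨h3, ?_⟩
  rcases h3 with rfl | rfl
  · have h4 := add_left_cancel h2
    rcases z2 (D.b w' v) with h5 | h5 <;> rcases z2 k with rfl | rfl <;>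
      rcases z2 k' with rfl | rfl <;> simp [h5, one_one] at h4 ⊢ <;>
      first | exact (hx h4).elim | exact (hx h4.symm).elim
  · rw [add_assoc, D.add_left, hv] at h2
    have h4 := add_left_cancel h2
    rcases z2 (D.b w v) with h5 | h5 <;> rcases z2 k with rfl | rfl <;>
      rcases z2 k' with rfl | rfl <;> simp [h5, add_self'] at h4 ⊢ <;>
      first | exact (hx h4).elim | exact (hx h4.symm).elim

/-- `x, y` span a line `l` with `s_l ∈ Y` -/
def Good (x y : V) : Prop :=
  x ∈ D.Om ∧ y ∈ D.Om ∧ x ≠ y ∧ D.b x y = 0 ∧ ∃ r, D.Acts r x y 0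

variable {D} in
theorem Good.sy {x y : V} (h : D.Good x y) : D.Good y x := by
  obtain ⟨h1, h2, h3, h4, r, h5⟩ := h
  exact ⟨h2, h1, h3.symm, by rw [D.symm, h4], r, D.acts_swap.mp h5⟩

variable {D} in
theorem Good.sm {x y : V} (h : D.Good x y) (g : Y) : D.Good (g • x) (g • y) := by
  obtain ⟨h1, h2, h3, h4, r, h5⟩ := h
  exact ⟨D.smul_mem g h1, D.smul_mem g h2, fun h => h3 (smul_left_cancel _ h),
    by rw [D.inv, h4], _, D.acts_conj g h5⟩

theorem four {x a : V} (h4 : Nat.card (D.R D.z) = 4) (ha : D.Good x a) {ra : Y}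
    (hra : D.Acts ra x a 0) :
    ∃ c rc, D.Good x c ∧ D.b a c = 1 ∧ D.Acts rc x c 0 ∧
      D.Acts (ra * rc) x (a + c) 1 ∧
      (∀ r ∈ D.R x, r = 1 ∨ r = ra ∨ r = rc ∨ r = ra * rc) ∧
      (∀ y, D.Good x y → y = a ∨ y = a + x ∨ y = c ∨ y = c + x) := by
  obtain ⟨hx, ha', hxa, hbxa, _⟩ := ha
  have hx0 := D.ne_zero hx
  have hbax : D.b a x = 0 := by rw [D.symm, hbxa]
  obtain ⟨r, hr, hra1⟩ := D.exists_move hx ha' hxa hbxa
  obtain ⟨w, k, hw, hrw⟩ := D.acts_of_R hx0 hr
  have hwa : D.b w a = 1 := by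
    refine (z2 _).resolve_left fun h0 => ?_
    rw [hrw, Frm.sig, hbxa, h0] at hra1
    exact hx0 (by simpa using hra1)
  have haw : D.b a w = 1 := by rw [D.symm, hwa]
  obtain ⟨c, rc, hxc, hac, hrc⟩ : ∃ c rc, D.b x c = 0 ∧ D.b a c = 1 ∧ D.Acts rc x c 0 := by
    rcases z2 k with rfl | rfl
    · exact ⟨w, r, hw, haw, hrw⟩
    · refine ⟨a + w, ra * r, by rw [D.add_right, hbxa, hw, add_zero],
        by rw [D.add_right, D.alt, haw, zero_add], ?_⟩
      have := D.acts_mul hbxa hw hra hrw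
      rw [haw] at this
      simpa [one_one] using this
  have hca : D.b c a = 1 := by rw [D.symm, hac]
  have hc0 : c ≠ 0 := fun h => by rw [h, D.zero_right] at hac; exact zero_ne_one hac
  have hcx : x ≠ c := fun h => by rw [← h, hbax] at hac; exact zero_ne_one hac
  have hc : c ∈ D.Om := by
    obtain ⟨v, hv, hxv⟩ := D.far hx0
    have h1 := hrc v
    rw [Frm.sig, hxv, one_smul, mul_one, add_zero] at h1
    rcases z2 (D.b c v) with h2 | h2
    · rw [h2, zero_smul, add_zero] at h1
      have h3 : v + c ∈ D.Om := by rw [← h1]; exact D.smul_mem _ hv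
      have h4 := D.add_mem hv h3 (fun h => hc0 (by simpa using h))
        (by rw [D.add_right, D.alt, D.symm, h2, add_zero])
      rwa [add_cancel] at h4
    · rw [h2, one_smul, add_assoc] at h1
      have h3 : v + (c + x) ∈ D.Om := by rw [← h1]; exact D.smul_mem _ hv
      have h4 := D.add_mem hv h3 (fun h => hcx (by
          have : c + x = 0 := by simpa using h
          exact (eq_of_add _ _ this).symm))
        (by rw [D.add_right, D.add_right, D.alt, D.symm, h2, D.symm v, hxv, zero_add, one_one])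
      rw [add_cancel] at h4
      have h5 := D.add_mem hx h4 (fun h => hc0 (by simpa using h))
        (by rw [D.add_right, hxc, D.alt, add_zero])
      rwa [add_comm c x, add_cancel] at h5
  have hgc : D.Good x c := ⟨hx, hc, hcx, hxc, rc, hrc⟩
  have hac1 : D.Acts (ra * rc) x (a + c) 1 := by
    have := D.acts_mul hbxa hxc hra hrc
    rw [hac] at this
    simpa using this
  have hall : ∀ r ∈ D.R x, r = 1 ∨ r = ra ∨ r = rc ∨ r = ra * rc := by
    classical
    have e1 : ra • a = a := by rw [hra]; simp [Frm.sig, hbxa, D.alt]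
    have e2 : ra • c = c + x := by rw [hra]; simp [Frm.sig, hxc, hac]
    have e3 : rc • a = a + x := by rw [hrc]; simp [Frm.sig, hbxa, hca]
    have e4 : rc • c = c := by rw [hrc]; simp [Frm.sig, hxc, D.alt]
    have e5 : ra • x = x := (D.R_of_acts hbxa hra).1
    have e6 : (ra * rc) • a = a + x := by rw [mul_smul, e3, smul_add, e1, e5]
    have e7 : (ra * rc) • c = c + x := by rw [mul_smul, e4, e2]
    have nx : ∀ v : V, v ≠ v + x := fun v h => hx0 (by simpa using h)
    have n1 : (1 : Y) ≠ ra := fun h => nx c (by rw [← e2, ← h, one_smul])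
    have n2 : (1 : Y) ≠ rc := fun h => nx a (by rw [← e3, ← h, one_smul])
    have n3 : (1 : Y) ≠ ra * rc := fun h => nx a (by rw [← e6, ← h, one_smul])
    have n4 : ra ≠ rc := fun h => nx a (by rw [← e3, ← h, e1])
    have n5 : ra ≠ ra * rc := fun h => nx a (by rw [← e6, ← h, e1])
    have n6 : rc ≠ ra * rc := fun h => nx c (by rw [← e7, ← h, e4])
    have hS : ((({1, ra, rc, ra * rc} : Finset Y) : Set Y)) = (D.R x : Set Y) := by
      have hfin : (D.R x : Set Y).Finite := by
        have : Finite (D.R x) := Nat.finite_of_card_ne_zero (by rw [D.card_R hx, h4]; decide)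
        exact this
      refine Set.eq_of_subset_of_ncard_le ?_ ?_ hfin
      · intro s hs
        simp only [Finset.coe_insert, Finset.coe_singleton, Set.mem_insert_iff,
          Set.mem_singleton_iff] at hs
        have m1 := D.R_of_acts hbxa hra
        have m2 := D.R_of_acts hxc hrc
        rcases hs with rfl | rfl | rfl | rfl
        · exact one_mem _
        · exact m1
        · exact m2
        · exact mul_mem m1 m2
      · rw [Set.ncard_coe_finset]
        have h5 : (D.R x : Set Y).ncard = 4 := by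
          rw [← Nat.card_coe_set_eq]
          exact (D.card_R hx).trans h4
        rw [h5]
        rw [Finset.card_insert_of_notMem (by simp [n1, n2, n3]),
          Finset.card_insert_of_notMem (by simp [n4, n5]),
          Finset.card_insert_of_notMem (by simp only [Finset.mem_singleton]; exact n6),
          Finset.card_singleton]
    intro r hr
    have : r ∈ (D.R x : Set Y) := hr
    rw [← hS] at this
    simpa using this
  refine ⟨c, rc, hgc, hac, hrc, hac1, hall, ?_⟩
  rintro y ⟨_, hy, hxy, hbxy, s, hs⟩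
  rcases hall s (D.R_of_acts hbxy hs) with rfl | rfl | rfl | rfl
  · have h1 : D.Acts (1 : Y) x 0 0 := fun v => by simp [Frm.sig, D.zero_left]
    rcases (D.acts_unique hx0 h1 hs).1 with h2 | h2
    · exact (D.ne_zero hy h2).elim
    · exact (hxy (by rw [h2, zero_add])).elim
  · rcases (D.acts_unique hx0 hra hs).1 with h2 | h2
    · exact Or.inl h2
    · exact Or.inr (Or.inl h2)
  · rcases (D.acts_unique hx0 hrc hs).1 with h2 | h2
    · exact Or.inr (Or.inr (Or.inl h2))
    · exact Or.inr (Or.inr (Or.inr h2))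
  · exact (one_ne_zero (D.acts_unique hx0 hac1 hs).2).elim

/-- the second good line on `a`, normalised by `c` -/
theorem second {x a c : V} (h4 : Nat.card (D.R D.z) = 4) (ha : D.Good x a)
    (hac : D.b a c = 1) :
    ∃ m, D.Good a m ∧ D.b x m = 1 ∧ D.b m c = 0 ∧
      ∀ y, D.Good a y → y = x ∨ y = x + a ∨ y = m ∨ y = m + a := by
  obtain ⟨_, _, _, _, r, hr⟩ := ha.sy
  obtain ⟨m, rm, hm, hxm, hrm, _, _, huniq⟩ := D.four h4 ha.sy hr
  rcases z2 (D.b m c) with h | h
  · exact ⟨m, hm, hxm, h, huniq⟩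
  · have hxa : D.b x a = 0 := ha.2.2.2.1
    refine ⟨m + a, ⟨hm.1, ?_, ?_, ?_, rm, ?_⟩, ?_, ?_, ?_⟩
    · have := D.add_mem hm.1 hm.2.1 hm.2.2.1 hm.2.2.2.1
      rwa [add_comm] at this
    · intro h'
      exact D.ne_zero hm.2.1 (by simpa using h')
    · rw [D.add_right, hm.2.2.2.1, D.alt, add_zero]
    · rw [D.acts_shift]; exact hrm
    · rw [D.add_right, hxm, hxa, add_zero]
    · rw [D.add_left, h, hac, one_one]
    · intro y hy
      rcases huniq y hy with h' | h' | h' | h'
      · exact Or.inl h'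
      · exact Or.inr (Or.inl h')
      · right; right; right; rw [h', add_assoc, add_self', add_zero]
      · exact Or.inr (Or.inr (Or.inl h'))

theorem R_le_T : D.R D.z ≤ D.T := by
  have h1 : D.T ≤ Subgroup.normalizer (D.R D.z : Set Y) := by
    intro t ht
    rw [Subgroup.mem_normalizer_iff]
    intro r
    constructor
    · intro hr
      have := D.R_conj t hr
      rwa [D.T_fix t ht] at this
    · intro hr
      have := D.R_conj t⁻¹ hr
      rw [D.T_fix _ (D.T.inv_mem ht)] at this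
      simpa [mul_assoc] using this
  have h2 : IsPGroup 2 (D.T ⊔ D.R D.z : Subgroup Y) :=
    IsPGroup.to_sup_of_normal_right' D.T_two (D.R_two D.z_ne) h1
  have h3 := D.T_max _ h2 le_sup_left
  rw [← h3]
  exact le_sup_right

/-- the exceptional case -/
theorem exc [Finite V] {g : Y} (hzw : D.z ≠ g • D.z) (hb : D.b D.z (g • D.z) = 0)
    (h4 : Nat.card (D.R D.z) = 4) (hex : ∃ r, D.Acts r D.z (g • D.z) 0) : g ∈ D.M := by
  obtain ⟨ra, hra⟩ := hex
  obtain ⟨a, ha⟩ : ∃ a, a = g • D.z := ⟨_, rfl⟩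
  obtain ⟨z, hz⟩ : ∃ z, z = D.z := ⟨_, rfl⟩
  have hgza : D.Good z a := by
    rw [hz, ha]
    exact ⟨D.z_mem, D.smul_mem g D.z_mem, hzw, hb, ra, hra⟩
  rw [← ha] at hra hb hzw
  have hTz : ∀ t ∈ D.T, t • z = z := by rw [hz]; exact D.T_fix
  obtain ⟨c, rc, hgzc, hac, hrc, hrac, hall, huniq⟩ := D.four h4 hgza (by rw [hz]; exact hra)
  by_cases hT : ∀ t ∈ D.T, t • a = a ∨ t • a = a + z
  · refine D.fin (h := 1) hgza.2.1 hzw hb (fun t ht => ?_) (by rw [one_smul, ha])
    rw [← hz, smul_line, hTz t ht]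
    rcases hT t ht with h | h
    · rw [h]
    · rw [h, add_comm a z, ← line_add]
  exfalso
  push Not at hT
  have hz0 : z ≠ 0 := by rw [hz]; exact D.z_ne
  have hzOm : z ∈ D.Om := hgza.1
  have haOm : a ∈ D.Om := hgza.2.1
  have hcOm : c ∈ D.Om := hgzc.2.1
  have hza : D.b z a = 0 := hgza.2.2.2.1
  have haz : D.b a z = 0 := by rw [D.symm, hza]
  have hzc : D.b z c = 0 := hgzc.2.2.2.1
  have hcz : D.b c z = 0 := by rw [D.symm, hzc]
  have hca : D.b c a = 1 := by rw [D.symm, hac]
  rw [← hz] at hra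
  have hraR : ra ∈ D.R z := D.R_of_acts hza hra
  have hrcR : rc ∈ D.R z := D.R_of_acts hzc hrc
  have hRT : ∀ r ∈ D.R z, r ∈ D.T := fun r hr => by rw [hz] at hr; exact D.R_le_T hr
  have e1 : ra • a = a := by rw [hra]; simp [Frm.sig, hza, D.alt]
  have e2 : ra • c = c + z := by rw [hra]; simp [Frm.sig, hzc, hac]
  have e3 : rc • a = a + z := by rw [hrc]; simp [Frm.sig, hza, hca]
  have e4 : rc • c = c := by rw [hrc]; simp [Frm.sig, hzc, D.alt]
  have e5 : ra • z = z := hraR.1
  have e6 : rc • z = z := hrcR.1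
  -- good neighbours of `z`
  have hnb : ∀ t ∈ D.T, ∀ y, D.Good z y → D.Good z (t • y) := fun t ht y hy => by
    have := hy.sm t
    rwa [hTz t ht] at this
  -- the element `t`
  obtain ⟨t, htT, hta⟩ : ∃ t ∈ D.T, t • a = c := by
    obtain ⟨t, ht, h1, h2⟩ := hT
    rcases huniq _ (hnb t ht a hgza) with h | h | h | h
    · exact (h1 h).elim
    · exact (h2 h).elim
    · exact ⟨t, ht, h⟩
    · refine ⟨ra * t, D.T.mul_mem (hRT _ hraR) ht, ?_⟩
      rw [mul_smul, h, smul_add, e2, e5, add_assoc, add_self', add_zero]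
  obtain ⟨m, hgam, hzm, hmc, hum⟩ := D.second h4 hgza hac
  obtain ⟨m', hgcm, hzm', hma', hum'⟩ := D.second h4 hgzc hca
  have ham : D.b a m = 0 := hgam.2.2.2.1
  have hma : D.b m a = 0 := by rw [D.symm, ham]
  have hmz : D.b m z = 1 := by rw [D.symm, hzm]
  have hmz' : D.b m' z = 1 := by rw [D.symm, hzm']
  have hcm : D.b c m = 0 := by rw [D.symm, hmc]
  have hcm' : D.b c m' = 0 := hgcm.2.2.2.1
  have hmc' : D.b m' c = 0 := by rw [D.symm, hcm']
  have ham' : D.b a m' = 0 := by rw [D.symm, hma']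
  have hmOm : m ∈ D.Om := hgam.2.1
  have hmOm' : m' ∈ D.Om := hgcm.2.1
  -- elements of `T` fixing `a` and `c` fix `m` and `m'`
  have hfixm : ∀ s ∈ D.T, s • a = a → s • c = c → s • m = m := by
    intro s hs h1 h2
    have h3 : D.Good a (s • m) := by
      have := hgam.sm s
      rwa [h1] at this
    have h5 : D.b z (s • m) = 1 := by
      rw [← hTz s hs, D.inv, hzm]
    have h6 : D.b (s • m) c = 0 := by
      rw [← h2, D.inv, hmc]
    rcases hum _ h3 with h | h | h | h
    · rw [h, D.alt] at h5; exact (zero_ne_one h5).elim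
    · rw [h, D.add_right, D.alt, hza, add_zero] at h5; exact (zero_ne_one h5).elim
    · exact h
    · rw [h, D.add_left, hmc, hac, zero_add] at h6; exact (one_ne_zero h6).elim
  have hfixm' : ∀ s ∈ D.T, s • a = a → s • c = c → s • m' = m' := by
    intro s hs h1 h2
    have h3 : D.Good c (s • m') := by
      have := hgcm.sm s
      rwa [h2] at this
    have h5 : D.b z (s • m') = 1 := by
      rw [← hTz s hs, D.inv, hzm']
    have h6 : D.b (s • m') a = 0 := by
      rw [← h1, D.inv, hma']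
    rcases hum' _ h3 with h | h | h | h
    · rw [h, D.alt] at h5; exact (zero_ne_one h5).elim
    · rw [h, D.add_right, D.alt, hzc, add_zero] at h5; exact (zero_ne_one h5).elim
    · exact h
    · rw [h, D.add_left, hma', hca, zero_add] at h6; exact (one_ne_zero h6).elim
  -- the images of `a`, `c` under `T`
  have hTa : ∀ s ∈ D.T, s • a = a ∨ s • a = a + z ∨ s • a = c ∨ s • a = c + z :=
    fun s hs => huniq _ (hnb s hs a hgza)
  have hTc : ∀ s ∈ D.T, s • c = a ∨ s • c = a + z ∨ s • c = c ∨ s • c = c + z :=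
    fun s hs => huniq _ (hnb s hs c hgzc)
  have hbs : ∀ s : Y, D.b (s • a) (s • c) = 1 := fun s => by rw [D.inv, hac]
  have hT1 : ∀ s ∈ D.T, (s • a = a ∨ s • a = a + z) → (s • c = c ∨ s • c = c + z) := by
    intro s hs h
    have h1 := hbs s
    rcases hTc s hs with h2 | h2 | h2 | h2
    · exfalso
      rcases h with h | h <;> rw [h, h2] at h1 <;>
        simp [D.add_left, D.alt, hza] at h1
    · exfalso
      rcases h with h | h <;> rw [h, h2] at h1 <;>
        simp [D.add_left, D.add_right, D.alt, hza, haz] at h1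
    · exact Or.inl h2
    · exact Or.inr h2
  have hT2 : ∀ s ∈ D.T, (s • a = c ∨ s • a = c + z) → (s • c = a ∨ s • c = a + z) := by
    intro s hs h
    have h1 := hbs s
    rcases hTc s hs with h2 | h2 | h2 | h2
    · exact Or.inl h2
    · exact Or.inr h2
    · exfalso
      rcases h with h | h <;> rw [h, h2] at h1 <;>
        simp [D.add_left, D.alt, hzc] at h1
    · exfalso
      rcases h with h | h <;> rw [h, h2] at h1 <;>
        simp [D.add_left, D.add_right, D.alt, hzc, hcz] at h1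
  -- `F`
  let F : V → Prop := fun v => D.b z v = 0 ∧ D.b a v = 0 ∧ D.b c v = 0 ∧
    ∀ s ∈ D.T, s • a = a → s • c = c → s • v = v
  have hdual : ∀ u v : V, D.b z v = 0 → D.b a v = 0 → D.b c v = 0 →
      (u = a ∨ u = a + z ∨ u = c ∨ u = c + z) → D.b u v = 0 := by
    intro u v h1 h2 h3 h
    rcases h with rfl | rfl | rfl | rfl <;> simp [D.add_left, h1, h2, h3]
  have f1 : ∀ s ∈ D.T, ∀ v, F v → F (s • v) := by
    rintro s hs v ⟨h1, h2, h3, h5⟩
    have hs' := D.T.inv_mem hs
    refine ⟨?_, ?_, ?_, ?_⟩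
    · rw [← hTz s hs, D.inv, h1]
    · rw [← D.inv', hdual _ v h1 h2 h3 (hTa _ hs')]
    · rw [← D.inv', hdual _ v h1 h2 h3 (hTc _ hs')]
    · intro s' hs'' h6 h7
      have h8 : ∀ u, (u = a ∨ u = a + z ∨ u = c ∨ u = c + z) → s' • u = u := by
        have h9 := hTz s' hs''
        intro u hu
        rcases hu with rfl | rfl | rfl | rfl
        · exact h6
        · rw [smul_add, h6, h9]
        · exact h7
        · rw [smul_add, h7, h9]
      have h9 : (s⁻¹ * s' * s) • v = v := by
        apply h5 _ (D.T.mul_mem (D.T.mul_mem hs' hs'') hs)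
        · rw [mul_smul, mul_smul, h8 _ (hTa s hs), inv_smul_smul]
        · rw [mul_smul, mul_smul, h8 _ (hTc s hs), inv_smul_smul]
      rw [mul_smul, mul_smul, inv_smul_eq_iff] at h9
      exact h9
  have hRfix : ∀ r ∈ D.R z, ∀ v, F v → r • v = v := by
    rintro r hr v ⟨h1, h2, h3, _⟩
    have g1 : ra • v = v := by rw [hra]; simp [Frm.sig, h1, h2]
    have g2 : rc • v = v := by rw [hrc]; simp [Frm.sig, h1, h3]
    rcases hall r hr with rfl | rfl | rfl | rfl
    · exact one_smul _ _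
    · exact g1
    · exact g2
    · rw [mul_smul, g2, g1]
  have f2 : ∀ s ∈ D.T, (s • a = a ∨ s • a = a + z) → ∀ v, F v → s • v = v := by
    intro s hs h v hv
    obtain ⟨ρ, hρ, h1, h2⟩ : ∃ ρ ∈ D.R z, (ρ * s) • a = a ∧ (ρ * s) • c = c := by
      have k1 : rc • (a + z) = a := by rw [smul_add, e3, e6, add_assoc, add_self', add_zero]
      have k2 : ra • (c + z) = c := by rw [smul_add, e2, e5, add_assoc, add_self', add_zero]
      have k3 : rc • (c + z) = c + z := by rw [smul_add, e4, e6]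
      rcases h with h | h <;> rcases hT1 s hs (by simp [h]) with h' | h'
      · exact ⟨1, one_mem _, by rw [one_mul, h], by rw [one_mul, h']⟩
      · exact ⟨ra, hraR, by rw [mul_smul, h, e1], by rw [mul_smul, h', k2]⟩
      · exact ⟨rc, hrcR, by rw [mul_smul, h, k1], by rw [mul_smul, h', e4]⟩
      · exact ⟨ra * rc, mul_mem hraR hrcR, by rw [mul_smul, mul_smul, h, k1, e1],
          by rw [mul_smul, mul_smul, h', k3, k2]⟩
    have h3 := hv.2.2.2 (ρ * s) (D.T.mul_mem (hRT _ hρ) hs) h1 h2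
    rw [mul_smul] at h3
    have h5 := hRfix ρ⁻¹ (inv_mem hρ) v hv
    rw [← h3, inv_smul_smul, h3] at h5
    exact h5
  have htc : t • c = a ∨ t • c = a + z := hT2 t htT (Or.inl hta)
  have htinv : ∀ u, (u = c ∨ u = c + z) → (t⁻¹ • u = a ∨ t⁻¹ • u = a + z) := by
    intro u hu
    rcases hu with rfl | rfl
    · left; rw [← hta, inv_smul_smul]
    · right
      rw [smul_add, hTz _ (D.T.inv_mem htT)]
      congr 1
      rw [← hta, inv_smul_smul]
  have f3' : ∀ v, F v → t • v = v → v = 0 ∨ v = z := by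
    intro v hv h
    rw [hz]
    apply D.T_only
    intro s hs
    rcases hTa s hs with h1 | h1 | h1 | h1
    · exact f2 s hs (Or.inl h1) v hv
    · exact f2 s hs (Or.inr h1) v hv
    all_goals
      have h2 := f2 (t⁻¹ * s) (D.T.mul_mem (D.T.inv_mem htT) hs) (by
        rw [mul_smul]; exact htinv _ (by simp [h1])) v hv
      rw [mul_smul, inv_smul_eq_iff] at h2
      rw [h2, h]
  have f3 : ∀ v, F v → v = 0 ∨ v = z ∨ t • v = v + z := by
    intro v hv
    have h1 : v + t • v = 0 ∨ v + t • v = z := by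
      rw [hz]
      apply D.T_only
      intro s hs
      rw [smul_add]
      have hv' := f1 t htT v hv
      rcases hTa s hs with h1 | h1 | h1 | h1
      · rw [f2 s hs (Or.inl h1) v hv, f2 s hs (Or.inl h1) _ hv']
      · rw [f2 s hs (Or.inr h1) v hv, f2 s hs (Or.inr h1) _ hv']
      all_goals
        have h2 := f2 (t⁻¹ * s) (D.T.mul_mem (D.T.inv_mem htT) hs) (by
          rw [mul_smul]; exact htinv _ (by simp [h1])) v hv
        have h3 := f2 (s * t) (D.T.mul_mem hs htT) (by
          rw [mul_smul, hta]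
          exact hT2 s hs (by simp [h1])) v hv
        rw [mul_smul, inv_smul_eq_iff] at h2
        rw [mul_smul] at h3
        rw [h2, h3, add_comm]
    rcases h1 with h1 | h1
    · rcases f3' v hv (eq_of_add _ _ h1).symm with h | h
      · exact Or.inl h
      · exact Or.inr (Or.inl h)
    · right; right
      rw [← h1, add_cancel]
  -- the vector `d = m + m'`
  have hd : F (m + m') := by
    refine ⟨by rw [D.add_right, hzm, hzm', one_one], by rw [D.add_right, ham, ham', add_zero],
      by rw [D.add_right, hcm, hcm', add_zero], fun s hs h1 h2 => ?_⟩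
    rw [smul_add, hfixm s hs h1 h2, hfixm' s hs h1 h2]
  have htm : t • m = m' ∨ t • m = m' + c := by
    have h1 : D.Good c (t • m) := by
      have := hgam.sm t
      rwa [hta] at this
    have h2 : D.b z (t • m) = 1 := by rw [← hTz t htT, D.inv, hzm]
    rcases hum' _ h1 with h | h | h | h
    · rw [h, D.alt] at h2; exact (zero_ne_one h2).elim
    · rw [h, D.add_right, D.alt, hzc, add_zero] at h2; exact (zero_ne_one h2).elim
    · exact Or.inl h
    · exact Or.inr h
  by_cases hD2 : ∃ e, e ≠ 0 ∧ D.b z e = 0 ∧ D.b a e = 0 ∧ D.b c e = 0 ∧ D.b m e = 0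
  · -- case (4b)
    obtain ⟨e, he0, he, hme⟩ : ∃ e, e ≠ 0 ∧ F e ∧ D.b m e = 0 := by
      obtain ⟨e0, he0, g1, g2, g3, g4⟩ := hD2
      let C0 : Subgroup Y := D.T ⊓ (MulAction.stabilizer Y a ⊓ MulAction.stabilizer Y c)
      let A : AddSubgroup V :=
        { carrier := {v | D.b z v = 0 ∧ D.b a v = 0 ∧ D.b c v = 0 ∧ D.b m v = 0}
          zero_mem' := ⟨D.zero_right _, D.zero_right _, D.zero_right _, D.zero_right _⟩
          add_mem' := by
            rintro u v ⟨u1, u2, u3, u4⟩ ⟨v1, v2, v3, v4⟩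
            exact ⟨by rw [D.add_right, u1, v1, add_zero], by rw [D.add_right, u2, v2, add_zero],
              by rw [D.add_right, u3, v3, add_zero], by rw [D.add_right, u4, v4, add_zero]⟩
          neg_mem' := by
            intro v hv
            rw [ZModModule.neg_eq_self v]
            exact hv }
      have hC0 : ∀ s ∈ C0, s ∈ D.T ∧ s • a = a ∧ s • c = c := fun s hs => ⟨hs.1, hs.2.1, hs.2.2⟩
      let S : SubMulAction C0 V :=
        { carrier := {v | D.b z v = 0 ∧ D.b a v = 0 ∧ D.b c v = 0 ∧ D.b m v = 0}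
          smul_mem' := by
            rintro ⟨s, hs⟩ v ⟨v1, v2, v3, v4⟩
            obtain ⟨k1, k2, k3⟩ := hC0 s hs
            change D.b z (s • v) = 0 ∧ D.b a (s • v) = 0 ∧ D.b c (s • v) = 0 ∧
              D.b m (s • v) = 0
            refine ⟨?_, ?_, ?_, ?_⟩
            · rw [← hTz s k1, D.inv, v1]
            · rw [← k2, D.inv, v2]
            · rw [← k3, D.inv, v3]
            · rw [← hfixm s k1 k2 k3, D.inv, v4] }
      have hS : Nat.card S = Nat.card A := rfl
      have h2 : 2 ∣ Nat.card S := by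
        rw [hS]
        have h3 : addOrderOf (⟨e0, g1, g2, g3, g4⟩ : A) = 2 := by
          rw [addOrderOf_eq_prime_iff]
          refine ⟨?_, fun h => he0 (congrArg Subtype.val h)⟩
          rw [two_nsmul]
          exact Subtype.ext (add_self' e0)
        rw [← h3]
        exact addOrderOf_dvd_natCard _
      have hfin : Finite S := Subtype.finite
      obtain ⟨⟨e, g5, g6, g7, g8⟩, hef, hne⟩ :=
        (D.T_two.to_le (inf_le_left : C0 ≤ D.T)).exists_fixed_point_of_prime_dvd_card_of_fixed_point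
          S h2 (a := ⟨0, A.zero_mem⟩) (fun s => Subtype.ext (smul_zero _))
      refine ⟨e, fun h => hne (Subtype.ext h.symm), ⟨g5, g6, g7, fun s hs k2 k3 => ?_⟩, g8⟩
      exact congrArg Subtype.val (hef ⟨s, hs, k2, k3⟩)
    have hem : D.b e m = 0 := by rw [D.symm, hme]
    have hez : e ≠ z := fun h => by rw [h, hmz] at hme; exact one_ne_zero hme
    have hte : t • e = e + z := ((f3 e he).resolve_left he0).resolve_left hez
    have hec : D.b e c = 0 := by rw [D.symm, he.2.2.1]
    have hez' : D.b e z = 0 := by rw [D.symm, he.1]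
    have h1 : D.b (t • e) (t • m) = 0 := by rw [D.inv, hem]
    have hem' : D.b e m' = 1 := by
      rw [hte] at h1
      refine (z2 _).resolve_left fun h0 => ?_
      rcases htm with h | h <;> rw [h] at h1 <;>
        simp [D.add_left, D.add_right, h0, hec, hzm', hzc] at h1
    have hed : D.b e (m + m') = 1 := by rw [D.add_right, hem, hem', zero_add]
    rcases f3 _ hd with h | h | h
    · rw [h, D.zero_right] at hed; exact zero_ne_one hed
    · rw [h, hez'] at hed; exact zero_ne_one hed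
    · have hsum : F (m + m' + e) := by
        obtain ⟨a1, a2, a3, a4⟩ := hd
        obtain ⟨b1, b2, b3, b4⟩ := he
        refine ⟨by rw [D.add_right, a1, b1, add_zero], by rw [D.add_right, a2, b2, add_zero],
          by rw [D.add_right, a3, b3, add_zero], fun s hs h1 h2 => ?_⟩
        rw [smul_add, a4 s hs h1 h2, b4 s hs h1 h2]
      have h5 : t • (m + m' + e) = m + m' + e := by
        rw [smul_add, h, hte]
        rw [add_assoc (m + m'), add_comm e z, ← add_assoc z, add_self', zero_add]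
      rcases f3' _ hsum h5 with h6 | h6
      · rw [eq_of_add _ _ h6, D.alt] at hed; exact zero_ne_one hed
      · have h7 : m + m' = z + e := by
          rw [← h6, add_assoc, add_self', add_zero]
        rw [h7, D.add_right, hez', D.alt, add_zero] at hed; exact zero_ne_one hed
  · -- case (4a)
    push Not at hD2
    have hexp : ∀ v, v = D.b m v • z + D.b z v • m + (D.b c v • a + D.b a v • c) := by
      intro v
      apply eq_of_add
      by_contra h0
      refine hD2 _ h0 ?_ ?_ ?_ ?_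
      · simp only [D.add_right, D.smul_right, D.alt, hzm, hza, hzc]
        ring_nf
        simp [show (2 : ZMod 2) = 0 from rfl]
      · simp only [D.add_right, D.smul_right, D.alt, haz, ham, hac]
        ring_nf
        simp [show (2 : ZMod 2) = 0 from rfl]
      · simp only [D.add_right, D.smul_right, D.alt, hcz, hcm, hca]
        ring_nf
        simp [show (2 : ZMod 2) = 0 from rfl]
      · simp only [D.add_right, D.smul_right, D.alt, hmz, hma, hmc]
        ring_nf
        simp [show (2 : ZMod 2) = 0 from rfl]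
    have hdz : m + m' = 0 ∨ m + m' = z := by
      have h1 := hexp (m + m')
      rw [hd.1, hd.2.1, hd.2.2.1] at h1
      rcases z2 (D.b m (m + m')) with h | h <;> rw [h] at h1
      · left; simpa using h1
      · right; simpa using h1
    rcases hdz with h | h
    · have hmm : m' = m := (eq_of_add _ _ h).symm
      rw [hmm] at htm
      obtain ⟨t', ht', htz', hta', htm'⟩ : ∃ t' ∈ D.T, t' • z = z ∧ t' • a = c ∧ t' • m = m := by
        rcases htm with h | h
        · exact ⟨t, htT, hTz t htT, hta, h⟩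
        · refine ⟨rc * t, D.T.mul_mem (hRT _ hrcR) htT, ?_, ?_, ?_⟩
          · rw [mul_smul, hTz t htT, e6]
          · rw [mul_smul, hta, e4]
          · rw [mul_smul, h, hrc]
            simp [Frm.sig, D.add_right, hzm, hzc, hcm, D.alt, add_assoc, add_self']
      have htc' : t' • c = a := by
        rcases hT2 t' ht' (Or.inl hta') with h1 | h1
        · exact h1
        · have h2 : D.b (t' • c) (t' • m) = 0 := by rw [D.inv, hcm]
          rw [h1, htm', D.add_left, ham, hzm, zero_add] at h2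
          exact (one_ne_zero h2).elim
      refine D.NT t' (a + c) (fun h0 => ?_) (fun v => ?_)
      · rw [eq_of_add _ _ h0, D.alt] at hac; exact zero_ne_one hac
      · have h1 : t' • v = D.b m v • z + D.b z v • m + (D.b c v • c + D.b a v • a) := by
          nth_rw 1 [hexp v]
          rw [smul_add, smul_add, smul_add, smul_zmod, smul_zmod, smul_zmod, smul_zmod,
            htz', hta', htm', htc']
        rw [h1]
        nth_rw 5 [hexp v]
        rw [D.symm v, D.add_left]
        rcases z2 (D.b a v) with h2 | h2 <;> rcases z2 (D.b c v) with h3 | h3 <;>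
          rw [h2, h3] <;> simp [add_self']
        · rw [add_assoc _ a, add_cancel]
        · rw [add_assoc _ c, add_comm a c, add_cancel]
        · exact add_comm _ _
    · have hmm : m' = m + z := by rw [← h, add_cancel]
      have hmzOm : m + z ∈ D.Om := by rw [← hmm]; exact hmOm'
      have hzne : D.b z a ≠ 1 := by rw [hza]; exact zero_ne_one
      have hacOm : a + c ∉ D.Om := by
        intro h1
        have h2 := D.good hzOm h1 (fun h3 => by
          rw [h3, D.add_right, D.alt, hac, zero_add] at haz; exact one_ne_zero haz)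
          (by rw [D.add_right, hza, hzc, add_zero]) hrac
        exact one_ne_zero h2
      have hac0 : a + c ≠ 0 := fun h1 => by
        rw [eq_of_add _ _ h1, D.alt] at hac; exact zero_ne_one hac
      have haczOm : a + c + z ∉ D.Om := by
        intro h1
        have h2 := D.add_mem hzOm h1 (fun h3 => hac0 (by simpa using h3))
          (by rw [D.add_right, D.add_right, hza, hzc, D.alt, add_zero, add_zero])
        rw [add_comm (a + c) z, add_cancel] at h2
        exact hacOm h2
      -- everything else lies in `Om`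
      have hmaOm : m + a ∈ D.Om := D.add_mem hmOm haOm hgam.2.2.1.symm hma
      have hmcOm : m + c ∈ D.Om := D.add_mem hmOm hcOm
        (fun h1 => by rw [h1, hac] at ham; exact one_ne_zero ham) hmc
      have hmzaOm : m + z + a ∈ D.Om := by
        have := D.add_mem hmOm' haOm
          (fun h1 => by rw [h1, hca] at hcm'; exact one_ne_zero hcm') hma'
        rwa [hmm] at this
      have hmzcOm : m + z + c ∈ D.Om := by
        have := D.add_mem hmOm' hcOm hgcm.2.2.1.symm hmc'
        rwa [hmm] at this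
      have hm1 : m + z + (a + c) ∈ D.Om := by
        have h1 : rc • (m + a) = m + z + (a + c) := by
          rw [hrc]
          simp only [Frm.sig, D.add_right, hzm, hza, hcm, hca, add_zero, zero_add, one_smul,
            zero_mul]
          abel
        rw [← h1]; exact D.smul_mem _ hmaOm
      have hm2 : m + (a + c) ∈ D.Om := by
        have h1 : rc • (m + z + a) = m + (a + c) := by
          rw [hrc]
          simp only [Frm.sig, D.add_right, hzm, hza, hcm, hca, hcz, D.alt, add_zero, zero_add,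
            one_smul, zero_mul]
          have : m + z + a + c + z = m + (a + c) + (z + z) := by abel
          rw [this, add_self', add_zero]
        rw [← h1]; exact D.smul_mem _ hmzaOm
      have hazOm : a + z ∈ D.Om := by
        rw [add_comm]; exact D.add_mem hzOm haOm hgza.2.2.1 hza
      have hczOm : c + z ∈ D.Om := by
        rw [add_comm]; exact D.add_mem hzOm hcOm hgzc.2.2.1 hzc
      have hout : ∀ v, v ∉ D.Om → v ≠ 0 → v = a + c ∨ v = a + c + z := by
        intro v hv hv0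
        have h1 := hexp v
        rcases z2 (D.b m v) with k1 | k1 <;> rcases z2 (D.b z v) with k2 | k2 <;>
          rcases z2 (D.b c v) with k3 | k3 <;> rcases z2 (D.b a v) with k4 | k4 <;>
          simp only [k1, k2, k3, k4, zero_smul, one_smul, zero_add, add_zero] at h1
        · exact (hv0 h1).elim
        · exact (hv (h1 ▸ hcOm)).elim
        · exact (hv (h1 ▸ haOm)).elim
        · exact Or.inl h1
        · exact (hv (h1 ▸ hmOm)).elim
        · exact (hv (h1 ▸ hmcOm)).elim
        · exact (hv (h1 ▸ hmaOm)).elim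
        · exact (hv (h1 ▸ hm2)).elim
        · exact (hv (h1 ▸ hzOm)).elim
        · rw [add_comm] at h1; exact (hv (h1 ▸ hczOm)).elim
        · rw [add_comm] at h1; exact (hv (h1 ▸ hazOm)).elim
        · right; rw [h1, add_comm]
        · rw [add_comm] at h1; exact (hv (h1 ▸ hmzOm)).elim
        · rw [add_comm z m] at h1; exact (hv (h1 ▸ hmzcOm)).elim
        · rw [add_comm z m] at h1; exact (hv (h1 ▸ hmzaOm)).elim
        · rw [add_comm z m] at h1; exact (hv (h1 ▸ hm1)).elim
      have hgOm : ∀ v, v ∉ D.Om → g • v ∉ D.Om := by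
        intro v hv h1
        apply hv
        have := D.smul_mem g⁻¹ h1
        rwa [inv_smul_smul] at this
      have hg0 : ∀ v : V, v ≠ 0 → g • v ≠ 0 := fun v hv h1 =>
        hv ((smul_eq_zero_iff_eq g).mp h1)
      have hacz0 : a + c + z ≠ 0 := fun h1 => by
        have h2 := eq_of_add _ _ h1
        exact hacOm (h2 ▸ hzOm)
      have h1 := hout _ (hgOm _ hacOm) (hg0 _ hac0)
      have h2 := hout _ (hgOm _ haczOm) (hg0 _ hacz0)
      rw [smul_add g (a + c) z] at h2
      have h3 : g • z = a := by rw [hz, ha]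
      rw [h3] at h2
      have hca0 : ∀ v : V, v + a = v → False := fun v hv => D.ne_zero haOm (by simpa using hv)
      have hazne : a ≠ z := fun h => hgza.2.2.1 h.symm
      rcases h1 with h1 | h1 <;> rw [h1] at h2 <;> rcases h2 with h2 | h2
      · exact hca0 _ h2
      · exact hazne (add_left_cancel h2)
      · rw [add_assoc, add_eq_left] at h2
        exact hazne (eq_of_add _ _ h2).symm
      · exact hca0 _ h2

/-- **helper276 #14522**: the form is symmetric and `|R_z| ≥ 4`, then `(+)`: every `g ∈ Y` with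
`g z` perpendicular to `z` lies in the unique maximal subgroup over `T`. -/
theorem plus [Finite V] {g : Y} (hb : D.b D.z (g • D.z) = 0) : g ∈ D.M := by
  by_cases hzw : D.z = g • D.z
  · exact D.stab_le hzw.symm
  by_cases hne : Nat.card (D.R D.z) = 4 ∧ ∃ r, D.Acts r D.z (g • D.z) 0
  · exact D.exc hzw hb hne.1 hne.2
  · exact D.par hzw hb hne

end Data

end Act

end Cfsg.Agent.Omega.NearFF.SymPlus

end

-- merged: Cfsg.Agent.Mrg.Omega.NearFF.Case1End
section

section


/-!
# (BT), `|V/E| = 2`: there is no minimal pair with `|[E, b]| ≥ 4` for all `b` (project OMEGA, leaf N1)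

Text: helper132, bb OMEGA #17318, Case 1 (5), (6).
-/

set_option autoImplicit false
set_option linter.unusedSectionVars false

namespace Cfsg.Agent.Omega.NearFF

open Subgroup Cfsg.Agent.Omega.Transv

variable {Y : Type*} [Group Y] {V : Type*} [AddCommGroup V] [Module (ZMod 2) V] [DistribMulAction Y V]

theorem dua_injF {g : Y} {φ ψ : Du V} (h : dua g φ = dua g ψ) : φ = ψ := by
  rw [← dua_inv g φ, h, dua_inv]

theorem card_half [Finite V] (E : AddSubgroup V) (ψ : Du V) :
    Nat.card E ≤ 2 * Nat.card {u : V // u ∈ E ∧ ψ u = 0} := by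
  classical
  by_cases h0 : ∃ e ∈ E, ψ e = 1
  · obtain ⟨e, he, he1⟩ := h0
    have h1 : Nat.card (Fin 2 × {u : V // u ∈ E ∧ ψ u = 0}) = 2 * Nat.card {u : V // u ∈ E ∧ ψ u = 0} := by
      rw [Nat.card_prod, Nat.card_fin]
    rw [← h1]
    refine Nat.card_le_card_of_injective (fun u : E => if hu : ψ u = 0 then
      ((0 : Fin 2), (⟨u, u.2, hu⟩ : {u : V // u ∈ E ∧ ψ u = 0})) else
      ((1 : Fin 2), ⟨u + e, add_mem u.2 he, by rw [map_add, he1, eq_one_of_ne hu, one_add_one]⟩)) ?_
    intro u u' h2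
    by_cases hu : ψ u = 0
    · by_cases hu' : ψ u' = 0
      · simp only [hu, hu', dif_pos] at h2
        exact Subtype.ext (congrArg (fun p => (p.2 : V)) h2)
      · simp only [hu, hu', dif_pos, dif_neg, not_false_iff] at h2
        have h3 : (0 : Fin 2) = 1 := congrArg Prod.fst h2
        exact absurd h3 (by decide)
    · by_cases hu' : ψ u' = 0
      · simp only [hu, hu', dif_pos, dif_neg, not_false_iff] at h2
        have h3 : (1 : Fin 2) = 0 := congrArg Prod.fst h2
        exact absurd h3 (by decide)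
      · simp only [hu, hu', dif_neg, not_false_iff] at h2
        have h3 : (u : V) + e = u' + e := congrArg (fun p => (p.2 : V)) h2
        exact Subtype.ext (add_right_cancel h3)
  · push Not at h0
    have h1 : Nat.card E ≤ Nat.card {u : V // u ∈ E ∧ ψ u = 0} :=
      Nat.card_le_card_of_injective (fun u : E => (⟨u, u.2, eq_zero_of_ne (h0 u u.2)⟩ :
        {u : V // u ∈ E ∧ ψ u = 0})) fun u u' h2 =>
        Subtype.ext (congrArg (fun p : {u : V // u ∈ E ∧ ψ u = 0} => (p : V)) h2)
    omega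

namespace MP

variable {φ : Du V} {B L : Subgroup Y} {w : V} (h : MP φ B L w)
include h

/-- `B` is transitive on `φ^L - φ` -/
theorem trans (hE : ∀ l ∈ L, φ (l • w) = 0) {x : Y} (hx : x ∈ L) (hne : dua x φ ≠ φ) {v : V}
    {A : Subgroup Y} (hA : Out φ B L w x v A) {y : Y} (hy : y ∈ L) (hney : dua y φ ≠ φ) :
    ∃ b ∈ B, dua y φ = dua (b * x) φ := by
  obtain ⟨t₁, h1, t₂, h2, h3, h4, h5⟩ := h.split hE hx hne (orb_mem_PW (w := w) hy)
  have hw : Fx B (y⁻¹ • (y • w)) := by
    rw [inv_smul_smul]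
    exact h.fixw
  have hyL : ¬ Fx L (y • w) := fun h0 => h.w_not ((fx_smul hy).1 h0)
  have h6 : ¬ Fx L t₂ := by
    intro h0
    refine hyL (h.fix_of2 hy hney ?_ hw)
    rw [h3]
    exact h4.add (h.fx_B h0)
  obtain ⟨b, hb, h7⟩ := hA.surj t₂ h2 h5 h6 t₁ h1 h4
  refine ⟨b, hb, ?_⟩
  by_contra hc
  refine hyL (h.fix_of3 hy (mul_mem (h.le hb) hx) hc hw ?_)
  have h8 : b • (y • w) = t₂ + (cm b t₂ + t₁) := by
    rw [h3, smul_add, h4 b hb, smul_eq_add_cm b t₂]
    abel
  rw [mul_inv_rev, h.inv_B hb, mul_smul, h8, smul_add]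
  exact h5.add (h.fx_B ((fx_smul (inv_mem hx)).2 h7))

theorem dua_b {b : Y} (hb : b ∈ B) (ψ : Du V) (u : V) : dua b ψ u = ψ u + ψ (cm b u) := by
  rw [dua_apply, h.inv_B hb, smul_eq_add_cm, map_add]

/-- **no minimal pair** with `|[E, b]| ≥ 4` for all `1 ≠ b ∈ B` -/
theorem false_of_big [Finite Y] [Finite V] (hbig : Big φ B) : False := by
  classical
  have hE := h.case2 hbig
  obtain ⟨x, hx, hne⟩ := h.ex
  obtain ⟨v, hv⟩ := exists_one h.ne
  obtain ⟨A, hA⟩ := h.exists_out hE hx hne hv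
  have htr := fun {y : Y} (hy : y ∈ L) (hney : dua y φ ≠ φ) => h.trans hE hx hne hA hy hney
  have h3 := fun {a : Y} (ha : a ∈ B) (hax : dua a (dua x φ) = dua x φ) => h.three hE hx hne ha hax
  -- `b₁, b₂`
  obtain ⟨a, haA, ha1⟩ := hA.ne
  have haB := hA.le haA
  have hk0 : ∀ b ∈ B, (b ∈ KL L φ ↔ cm a (cm b v) = 0) := by
    intro b hb
    rw [cm_comm (h.nb.comm a haB b hb)]
    exact ⟨fun h0 => hA.perp0 a haA b hb h0, fun h0 => hA.perp1 a haA ha1 b hb h0⟩
  have hmul : ∀ b ∈ B, ∀ c ∈ B, cm a (cm (b * c) v) = cm a (cm b v) + cm a (cm c v) := by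
    intro b hb c hc
    rw [cm_mul, cm_add, cm_add, cm_eq_zero.2 (h.nb.ed _ (h.nb.cm_mem hc v) b hb a haB), add_zero]
  obtain ⟨e₁, he₁, g1, -⟩ := hbig a haB ha1 0
  obtain ⟨e₂, he₂, g2, g3⟩ := hbig a haB ha1 (cm a e₁)
  obtain ⟨b₁, hb₁, hd₁⟩ := h.nb.surj _ e₁ hv he₁
  obtain ⟨b₂, hb₂, hd₂⟩ := h.nb.surj _ e₂ hv he₂
  have k1 : cm a (cm b₁ v) = cm a e₁ := h.cm_cm_of_fx haB hd₁
  have k2 : cm a (cm b₂ v) = cm a e₂ := h.cm_cm_of_fx haB hd₂
  have n1 : b₁ ∉ KL L φ := by
    rw [hk0 b₁ hb₁, k1]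
    exact g1
  have n2 : b₂ ∉ KL L φ := by
    rw [hk0 b₂ hb₂, k2]
    exact g2
  have n3 : b₁ * b₂ ∉ KL L φ := by
    rw [hk0 _ (mul_mem hb₁ hb₂), hmul b₁ hb₁ b₂ hb₂, k1, k2]
    exact fun h0 => g3 (eq_of_add h0).symm
  -- (5)
  obtain ⟨d, hd, hd1⟩ : ∃ d, Fx B d ∧ dua x φ d = 1 := by
    by_contra hc
    push Not at hc
    have h0 : ∀ d, Fx B d → dua x φ d = 0 := fun d hd => eq_zero_of_ne (hc d hd)
    have h1 : ∀ b ∈ B, b ∉ KL L φ → dua x φ (cm b v) = 1 := by
      intro b hb hbK
      refine eq_one_of_ne fun h4 => hbK (h3 hb ?_)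
      refine LinearMap.ext fun u => ?_
      rw [h.dua_b hb]
      have h5 : dua x φ (cm b u) = 0 := by
        rcases zmod_cases (φ u) with h6 | h6
        · exact h0 _ (h.nb.ed u h6 b hb)
        · have h7 : φ (u + v) = 0 := by rw [map_add, h6, hv, one_add_one]
          have h8 := h0 _ (h.nb.ed _ h7 b hb)
          rw [cm_add, map_add, h4, add_zero] at h8
          exact h8
      rw [h5, add_zero]
    have h4 := h1 _ (mul_mem hb₁ hb₂) n3
    rw [cm_mul, map_add, map_add, h1 b₁ hb₁ n1, h1 b₂ hb₂ n2,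
      h0 _ (h.nb.ed _ (h.nb.cm_mem hb₂ v) b₁ hb₁), add_zero, one_add_one] at h4
    exact one_ne h4.symm
  have hd' : ∀ y ∈ L, dua y φ ≠ φ → dua y φ d = 1 := by
    intro y hy hney
    obtain ⟨b, hb, h4⟩ := htr hy hney
    rw [h4, dua_mul, dua_apply, hd _ (inv_mem hb), hd1]
  -- (5')
  have hrad : ∀ b ∈ B, (∀ c ∈ B, dua x φ (cm c (cm b v)) = 0) → b ∈ KL L φ := by
    intro b hb hr
    by_contra hbK
    have h4 : dua b (dua x φ) + dua x φ = φ := by
      refine (eq_of_hyper (φ := φ) (ψ := dua b (dua x φ) + dua x φ) fun e he => ?_).resolve_left ?_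
      · obtain ⟨c, hc, h5⟩ := h.nb.surj v e hv he
        rw [LinearMap.add_apply, h.dua_b hb]
        have h6 : dua x φ (cm b e) = 0 := by
          rw [← h.cm_cm_of_fx hb h5, cm_comm (h.nb.comm b hb c hc)]
          exact hr c hc
        rw [h6, add_zero, add_self]
      · intro h0
        refine hbK (h3 hb (LinearMap.ext fun u => ?_))
        have h5 := LinearMap.congr_fun h0 u
        rw [LinearMap.add_apply] at h5
        exact eq_of_add h5
    obtain ⟨c, hc, hcK, hbc⟩ : ∃ c ∈ B, c ∉ KL L φ ∧ b * c ∉ KL L φ := by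
      by_cases h5 : b * b₁ ∈ KL L φ
      · refine ⟨b₂, hb₂, n2, fun h6 => n3 ?_⟩
        have h7 := mul_mem h5 h6
        have h8 : b * b₁ * (b * b₂) = b₁ * b₂ := by
          rw [h.nb.comm b hb b₁ hb₁, mul_assoc b₁ b, ← mul_assoc b b, h.nb.sq b hb, one_mul]
        rwa [h8] at h7
      · exact ⟨b₁, hb₁, n1, h5⟩
    have hg : (c * x)⁻¹ ∈ L := inv_mem (mul_mem (h.le hc) hx)
    have e1 : dua (c * x)⁻¹ φ ≠ φ := by
      intro h0
      apply hne
      have h5 : dua c (dua x φ) = dua c φ := by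
        rw [h.dua_B hc, ← dua_mul]
        conv_lhs => rw [← h0, ← dua_mul, mul_inv_cancel, dua_one]
      exact dua_injF h5
    have e2 : dua ((c * x)⁻¹ * x) φ ≠ φ := by
      intro h0
      apply hcK
      apply h3 hc
      rw [dua_mul] at h0
      have h5 : dua (c * x) (dua (c * x)⁻¹ (dua x φ)) = dua (c * x) φ := by rw [h0]
      rw [← dua_mul, mul_inv_cancel, dua_one, dua_mul] at h5
      exact h5.symm
    have e3 : dua ((c * x)⁻¹ * (b * x)) φ ≠ φ := by
      intro h0
      apply hbc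
      apply h3 (mul_mem hb hc)
      rw [dua_mul] at h0
      have h5 : dua (c * x) (dua (c * x)⁻¹ (dua (b * x) φ)) = dua (c * x) φ := by rw [h0]
      rw [← dua_mul, mul_inv_cancel, dua_one, dua_mul c] at h5
      rw [dua_mul b c, ← h5, ← dua_mul, ← mul_assoc, h.nb.sq b hb, one_mul]
    have e4 := hd' _ hg e1
    have e5 := hd' _ (mul_mem hg hx) e2
    have e6 := hd' _ (mul_mem hg (mul_mem (h.le hb) hx)) e3
    rw [dua_mul] at e5 e6
    rw [dua_apply] at e4 e5 e6
    have e7 := LinearMap.congr_fun h4 (((c * x)⁻¹)⁻¹ • d)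
    rw [LinearMap.add_apply, ← dua_mul, e6, e5, e4, one_add_one] at e7
    exact one_ne e7.symm
  -- (6)
  let El : V → Prop := fun u => ∀ y ∈ L, dua y φ u = 0
  have hEl1 : ∀ l ∈ L, ∀ u, El u → El (l • u) := by
    intro l hl u hu y hy
    have h4 := hu (l⁻¹ * y) (mul_mem (inv_mem hl) hy)
    rw [dua_mul, dua_apply, inv_inv] at h4
    exact h4
  have hAf : ∀ a ∈ A, ∀ u, El u → a • u = u := by
    intro a ha u hu
    have haB := hA.le ha
    have hu0 : φ u = 0 := by
      have h4 := hu 1 (one_mem L)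
      rwa [dua_one] at h4
    obtain ⟨b, hb, h4⟩ := h.nb.surj v u hv hu0
    have h5 : b ∈ KL L φ := by
      refine hrad b hb fun c hc => ?_
      have h6 := hu (c * x) (mul_mem (h.le hc) hx)
      rw [dua_mul, h.dua_b hc, hu x hx, zero_add] at h6
      rwa [h.cm_cm_of_fx hc h4]
    rw [← cm_eq_zero, ← h.cm_cm_of_fx haB h4, cm_comm (h.nb.comm a haB b hb)]
    exact hA.perp0 a ha b hb h5
  have hAc : ∀ a ∈ A, ∀ u, El (cm a u) := by
    intro a ha u y hy
    rw [cm_def, map_add, stabF_apply (mem_stabF.2 (hA.KL a ha y hy)), add_self]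
  have hXf : ∀ a ∈ A, ∀ u, El u → (x * a * x⁻¹) • u = u := by
    intro a ha u hu
    rw [mul_smul, mul_smul, hAf a ha _ (hEl1 _ (inv_mem hx) u hu), smul_inv_smul]
  have hXc : ∀ a ∈ A, ∀ u, El (cm (x * a * x⁻¹) u) := by
    intro a ha u
    rw [smul_cm_inv]
    exact hEl1 x hx _ (hAc a ha _)
  have hcom : ∀ a ∈ A, ∀ c ∈ A, a * (x * c * x⁻¹) = x * c * x⁻¹ * a := by
    intro a ha c hc
    refine h.faith.ext fun u => ?_
    rw [mul_smul a, mul_smul (x * c * x⁻¹) a, smul_eq_add_cm (x * c * x⁻¹) u, smul_add,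
      hAf a ha _ (hXc c hc u),
      smul_eq_add_cm a u, smul_add, hXf c hc _ (hAc a ha u), smul_eq_add_cm (x * c * x⁻¹) u]
    abel
  have hti : ∀ a ∈ A, ∀ c ∈ A, a = x * c * x⁻¹ → c = 1 := by
    intro a ha c hc h4
    by_contra hc1
    have h5 : a • d = d := hd a (hA.le ha)
    rw [h4, mul_smul, mul_smul] at h5
    have h6 : c • (x⁻¹ • d) = x⁻¹ • d := by rw [eq_inv_smul_iff, h5]
    have h7 := h.nb.fix (hA.le hc) hc1 h6
    rw [dua_apply, h7] at hd1
    exact one_ne hd1.symm
  have hAcomm : ∀ a ∈ A, ∀ b ∈ A, a * b = b * a := fun a ha b hb =>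
    h.nb.comm a (hA.le ha) b (hA.le hb)
  let K : Subgroup Y :=
    { carrier := {k | ∃ a ∈ A, ∃ c ∈ A, k = a * (x * c * x⁻¹)}
      one_mem' := ⟨1, one_mem A, 1, one_mem A, by group⟩
      mul_mem' := by
        rintro _ _ ⟨a, ha, c, hc, rfl⟩ ⟨a', ha', c', hc', rfl⟩
        refine ⟨a * a', mul_mem ha ha', c * c', mul_mem hc hc', ?_⟩
        calc a * (x * c * x⁻¹) * (a' * (x * c' * x⁻¹))
            = a * (x * c * x⁻¹ * a') * (x * c' * x⁻¹) := by group
          _ = a * (a' * (x * c * x⁻¹)) * (x * c' * x⁻¹) := by rw [hcom a' ha' c hc]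
          _ = a * a' * (x * (c * c') * x⁻¹) := by group
      inv_mem' := by
        rintro _ ⟨a, ha, c, hc, rfl⟩
        refine ⟨a⁻¹, inv_mem ha, c⁻¹, inv_mem hc, ?_⟩
        rw [hcom a ha c hc]
        group }
  have hKc : ∀ a ∈ K, ∀ b ∈ K, a * b = b * a := by
    rintro _ ⟨a, ha, c, hc, rfl⟩ _ ⟨a', ha', c', hc', rfl⟩
    calc a * (x * c * x⁻¹) * (a' * (x * c' * x⁻¹))
        = a * (x * c * x⁻¹ * a') * (x * c' * x⁻¹) := by group
      _ = a * (a' * (x * c * x⁻¹)) * (x * c' * x⁻¹) := by rw [hcom a' ha' c hc]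
      _ = a * a' * (x * (c * c') * x⁻¹) := by group
      _ = a' * a * (x * (c' * c) * x⁻¹) := by rw [hAcomm a ha a' ha', hAcomm c hc c' hc']
      _ = a' * (a * (x * c' * x⁻¹)) * (x * c * x⁻¹) := by group
      _ = a' * (x * c' * x⁻¹ * a) * (x * c * x⁻¹) := by rw [hcom a ha c' hc']
      _ = a' * (x * c' * x⁻¹) * (a * (x * c * x⁻¹)) := by group
  have hK2 : ∀ a ∈ K, a * a = 1 := by
    rintro _ ⟨a, ha, c, hc, rfl⟩
    calc a * (x * c * x⁻¹) * (a * (x * c * x⁻¹))
        = a * (x * c * x⁻¹ * a) * (x * c * x⁻¹) := by group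
      _ = a * (a * (x * c * x⁻¹)) * (x * c * x⁻¹) := by rw [hcom a ha c hc]
      _ = a * a * (x * (c * c) * x⁻¹) := by group
      _ = 1 := by rw [h.nb.sq a (hA.le ha), h.nb.sq c (hA.le hc)]; group
  have hKcard : Nat.card A * Nat.card A = Nat.card K := by
    rw [← Nat.card_prod]
    refine Nat.card_congr (Equiv.ofBijective
      (fun p : A × A => (⟨p.1 * (x * p.2 * x⁻¹), p.1, p.1.2, p.2, p.2.2, rfl⟩ : K)) ⟨?_, ?_⟩)
    · rintro ⟨⟨a, ha⟩, c, hc⟩ ⟨⟨a', ha'⟩, c', hc'⟩ h4
      have h5 : a * (x * c * x⁻¹) = a' * (x * c' * x⁻¹) := congrArg Subtype.val h4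
      have h6 : a'⁻¹ * a = x * (c' * c⁻¹) * x⁻¹ := by
        have h7 : a'⁻¹ * a = a'⁻¹ * (a * (x * c * x⁻¹)) * (x * c * x⁻¹)⁻¹ := by group
        rw [h7, h5]
        group
      have h7 := hti _ (mul_mem (inv_mem ha') ha) _ (mul_mem hc' (inv_mem hc)) h6
      have h8 : c' = c := by rwa [mul_inv_eq_one] at h7
      subst h8
      rw [mul_inv_cancel, mul_one, mul_inv_cancel] at h6
      have h9 : a' = a := inv_mul_eq_one.1 h6
      subst h9
      rfl
    · rintro ⟨_, a, ha, c, hc, rfl⟩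
      exact ⟨(⟨a, ha⟩, ⟨c, hc⟩), rfl⟩
  have hKne : K ≠ ⊥ := by
    intro h0
    have h4 : a ∈ K := ⟨a, haA, 1, one_mem A, by group⟩
    rw [h0, mem_bot] at h4
    exact ha1 h4
  have hoff := h.noff K hKne hKc hK2
  have hElK : Nat.card {u : V // El u} ≤ Nat.card {u : V // Fx K u} := by
    refine Nat.card_le_card_of_injective (fun u : {u : V // El u} => (⟨u, ?_⟩ : {u : V // Fx K u})) ?_
    · rintro _ ⟨a, ha, c, hc, rfl⟩
      rw [mul_smul, hXf c hc _ u.2, hAf a ha _ u.2]
    · intro u u' h4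
      exact Subtype.ext (congrArg (fun p : {u : V // Fx K u} => (p : V)) h4)
  obtain ⟨E, hE', hEc⟩ := h.card_VH hv (inf_le_left : B ⊓ KL L φ ≤ B)
  have hEE : Nat.card {u : V // u ∈ E ∧ dua x φ u = 0} ≤ Nat.card {u : V // El u} := by
    refine Nat.card_le_card_of_injective (fun u : {u : V // u ∈ E ∧ dua x φ u = 0} =>
      (⟨u, ?_⟩ : {u : V // El u})) ?_
    · obtain ⟨u, hu, hux⟩ := u
      obtain ⟨b, hb, h4⟩ := (hE' u).1 hu
      have hu0 : φ u = 0 := by
        have h5 := h.phi_of_fx h4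
        rwa [map_add, h.nb.cm_mem hb.1, zero_add] at h5
      intro y hy
      change dua y φ u = 0
      by_cases hney : dua y φ = φ
      · rw [hney, hu0]
      · obtain ⟨c, hc, h5⟩ := htr hy hney
        rw [h5, dua_mul, h.dua_b hc, hux, zero_add, ← h.cm_cm_of_fx hc h4,
          cm_comm (h.nb.comm c hc b hb.1), cm_def, map_add,
          stabF_apply (mem_stabF.2 (hb.2 x hx)), add_self]
    · intro u u' h4
      exact Subtype.ext (congrArg (fun p : {u : V // El u} => (p : V)) h4)
  have hhalf := card_half E (dua x φ)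
  have hV := h.card_V
  rw [← hA.card] at hV
  -- `4 ≤ |A|`
  have h4A : 4 * Nat.card ((B ⊓ KL L φ : Subgroup Y)) ≤ Nat.card B := by
    let B₁ : Subgroup Y :=
      { carrier := {b | b ∈ B ∧ (cm a (cm b v) = 0 ∨ cm a (cm b v) = cm a e₁)}
        one_mem' := ⟨one_mem B, Or.inl (by rw [cm_one, cm_zero])⟩
        mul_mem' := by
          rintro b c ⟨hb, hb'⟩ ⟨hc, hc'⟩
          refine ⟨mul_mem hb hc, ?_⟩
          rw [hmul b hb c hc]
          rcases hb' with h4 | h4 <;> rcases hc' with h5 | h5 <;> rw [h4, h5]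
          · left; rw [add_zero]
          · right; rw [zero_add]
          · right; rw [add_zero]
          · left; rw [add_self]
        inv_mem' := by
          rintro b ⟨hb, hb'⟩
          rw [h.inv_B hb]
          exact ⟨hb, hb'⟩ }
    have h4 : 2 * Nat.card ((B ⊓ KL L φ : Subgroup Y)) ≤ Nat.card B₁ :=
      card_two_le (fun b hb => ⟨hb.1, Or.inl ((hk0 b hb.1).1 hb.2)⟩) (k := b₁) ⟨hb₁, Or.inr k1⟩
        (fun h5 => n1 h5.2)
    have h5 : 2 * Nat.card B₁ ≤ Nat.card B :=
      card_two_le (fun b hb => hb.1) (k := b₂) hb₂ (fun h6 => by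
        rcases h6.2 with h7 | h7
        · exact g2 (by rw [← k2, h7])
        · exact g3 (by rw [← k2, h7]))
    omega
  have hpos : 0 < Nat.card ((B ⊓ KL L φ : Subgroup Y)) := Nat.card_pos
  have h4A' : 4 ≤ Nat.card A := by
    rw [← hA.card] at h4A
    exact le_of_mul_le_mul_right h4A hpos
  -- final count
  have hf1 : Nat.card A * Nat.card A * Nat.card {u : V // El u} < Nat.card V := by
    rw [hKcard]
    exact lt_of_le_of_lt (Nat.mul_le_mul_left _ hElK) hoff
  have hf2 : Nat.card V ≤ 4 * Nat.card A * Nat.card {u : V // El u} := by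
    rw [hV]
    calc 2 * (Nat.card A * Nat.card ((B ⊓ KL L φ : Subgroup Y)) * Nat.card {d : V // Fx B d})
        = 2 * Nat.card A * Nat.card E := by rw [hEc]; ring
      _ ≤ 2 * Nat.card A * (2 * Nat.card {u : V // u ∈ E ∧ dua x φ u = 0}) := Nat.mul_le_mul_left _ hhalf
      _ ≤ 2 * Nat.card A * (2 * Nat.card {u : V // El u}) :=
          Nat.mul_le_mul_left _ (Nat.mul_le_mul_left _ hEE)
      _ = 4 * Nat.card A * Nat.card {u : V // El u} := by ring
  have hf3 : 4 * Nat.card A * Nat.card {u : V // El u} ≤ Nat.card A * Nat.card A * Nat.card {u : V // El u} :=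
    Nat.mul_le_mul_right _ (Nat.mul_le_mul_right _ h4A')
  omega

end MP

end Cfsg.Agent.Omega.NearFF

end

section


/-!
# (BT), `|V/E| = 2`: existence of minimal pairs (project OMEGA, leaf N1)

Text: helper132 (bb OMEGA #17318), (MIN).

* `Dat.exists_mp` : `Dat → MP`.
-/

set_option autoImplicit false
set_option linter.unusedSectionVars false

namespace Cfsg.Agent.Omega.NearFF

open Subgroup Cfsg.Agent.Omega.Transv

section grp

variable {Γ : Type*} [Group Γ] [Finite Γ]

/-- a 2-group inside a subgroup over a Sylow 2-subgroup `P` is conjugate there into `P` -/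
theorem sylow_conj (P : Sylow 2 Γ) {K : Subgroup Γ} (hK : (P : Subgroup Γ) ≤ K) {R : Subgroup Γ}
    (hR : IsPGroup 2 R) (hRK : R ≤ K) : ∃ k ∈ K, ∀ r ∈ R, k⁻¹ * r * k ∈ P := by
  have : Fact (Nat.Prime 2) := ⟨Nat.prime_two⟩
  let TK : Sylow 2 K := P.subtype hK
  have hRK' : IsPGroup 2 (R.subgroupOf K) := hR.comap_of_injective K.subtype Subtype.coe_injective
  obtain ⟨Q, hQ⟩ := hRK'.exists_le_sylow
  obtain ⟨k, hk⟩ := MulAction.exists_smul_eq K TK Q
  refine ⟨k, k.2, fun r hr => ?_⟩
  have h1 : (⟨r, hRK hr⟩ : K) ∈ (Q : Subgroup K) := hQ (mem_subgroupOf.mpr hr)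
  rw [← hk, Sylow.coe_subgroup_smul, Subgroup.mem_pointwise_smul_iff_inv_smul_mem] at h1
  have h2 : ((k⁻¹ * ⟨r, hRK hr⟩ * k : K)) ∈ (TK : Subgroup K) := by
    have h3 : (MulAut.conj k)⁻¹ • (⟨r, hRK hr⟩ : K) = k⁻¹ * ⟨r, hRK hr⟩ * k := by
      rw [← map_inv, MulAut.smul_def, MulAut.conj_apply, inv_inv]
    rwa [h3] at h1
  exact h2

/-- `P ∩ N` is Sylow in the normal subgroup `N`: Frattini -/
theorem frattini_inf (P : Sylow 2 Γ) (N : Subgroup Γ) [N.Normal] :
    normalizer (((P : Subgroup Γ) ⊓ N : Subgroup Γ) : Set Γ) ⊔ N = ⊤ := by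
  have : Fact (Nat.Prime 2) := ⟨Nat.prime_two⟩
  have hd : ¬ 2 ∣ (P : Subgroup Γ).relIndex N := by
    have h1 := relIndex_mul_relIndex ((P : Subgroup Γ) ⊓ N) N ((P : Subgroup Γ) ⊔ N) inf_le_right le_sup_right
    have h2 := relIndex_mul_relIndex ((P : Subgroup Γ) ⊓ N) P ((P : Subgroup Γ) ⊔ N) inf_le_left le_sup_left
    rw [inf_relIndex_left, ← relIndex_sup_right (H := (P : Subgroup Γ)) (K := N), ← h1,
      inf_relIndex_right, mul_comm] at h2
    have h3 : (N.relIndex ((P : Subgroup Γ) ⊔ N)) ≠ 0 := index_ne_zero_of_finite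
    have h4 := Nat.eq_of_mul_eq_mul_right (Nat.pos_of_ne_zero h3) h2
    rw [← h4]
    intro h5
    exact P.not_dvd_index (h5.trans (relIndex_dvd_index_of_le le_sup_left))
  let Q : Sylow 2 N := (P.2.comap_subtype (K := N)).toSylow hd
  have hQ : (Q : Subgroup N) = (P : Subgroup Γ).subgroupOf N := rfl
  have h1 := Q.normalizer_sup_eq_top
  rw [hQ, subgroupOf_map_subtype] at h1
  exact h1

theorem isPGroup_zpowers_of_sq {y : Γ} (hy : y * y = 1) : IsPGroup 2 (zpowers y) := by
  rintro ⟨w, hw⟩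
  obtain ⟨n, rfl⟩ := mem_zpowers_iff.mp hw
  refine ⟨1, Subtype.ext ?_⟩
  rw [pow_one]
  change (y ^ n) ^ 2 = 1
  rw [← zpow_natCast, ← zpow_mul, mul_comm, zpow_mul, zpow_natCast, pow_two, hy, one_zpow]

end grp

variable {Y : Type*} [Group Y] {V : Type*} [AddCommGroup V] [Module (ZMod 2) V] [DistribMulAction Y V]

theorem dua_conj_eq {φ : Du V} {x b : Y} : dua (x⁻¹ * b * x) φ = φ ↔ dua b (dua x φ) = dua x φ := by
  rw [dua_mul, dua_mul]
  constructor
  · intro h
    have h1 : dua x (dua x⁻¹ (dua b (dua x φ))) = dua x φ := by rw [h]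
    rwa [← dua_mul, mul_inv_cancel, dua_one] at h1
  · intro h
    rw [h, ← dua_mul, inv_mul_cancel, dua_one]

namespace Dat

variable {T : Sylow 2 Y} {M : Subgroup Y} {z : V} {f : V → Du V} {Q : V → Subgroup Y}
  {BB : V → Set (Subgroup Y)} (h : Dat T M z f Q BB)
include h

theorem exists_move : ∃ g : Y, f (g • z) ≠ f z := by
  by_contra hc
  push Not at hc
  apply h.ne
  rw [eq_top_iff]
  intro g _
  apply h.stab_le
  rw [mem_stabF, ← h.f_orbit]
  exact hc g

/-- **(MIN)**: minimal pairs exist. -/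
theorem exists_mp [Finite Y] [Finite V] {B : Subgroup Y} (hB : B ∈ BB z) :
    ∃ (B' : Subgroup Y) (L : Subgroup Y) (w : V), B' ∈ BB z ∧ MP (f z) B' L w := by
  classical
  have : Fact (Nat.Prime 2) := ⟨Nat.prime_two⟩
  -- the minimal pair
  have hex : ∃ n : ℕ, ∃ B₁ ∈ BB z, ∃ g : Y, ∃ C₁ ∈ BB (g • z), f (g • z) ≠ f z ∧
      Nat.card (B₁ ⊔ C₁ : Subgroup Y) = n := by
    obtain ⟨g, hg⟩ := h.exists_move
    exact ⟨_, B, hB, g, _, h.bb_smul g z (MulAction.mem_orbit_self z) B hB, hg, rfl⟩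
  obtain ⟨B₁, hB₁, g, C₁, hC₁, hne, hcard⟩ := Nat.find_spec hex
  have hmin : ∀ B₂ ∈ BB z, ∀ k : Y, ∀ C₂ ∈ BB (k • z), f (k • z) ≠ f z →
      Nat.card (B₁ ⊔ C₁ : Subgroup Y) ≤ Nat.card (B₂ ⊔ C₂ : Subgroup Y) := by
    intro B₂ hB₂ k C₂ hC₂ hk
    rw [hcard]
    exact Nat.find_min' hex ⟨B₂, hB₂, k, C₂, hC₂, hk, rfl⟩
  set L := B₁ ⊔ C₁ with hL
  have hBL : B₁ ≤ L := le_sup_left
  have hN := h.bb B₁ hB₁
  -- generation
  have hgen : ∀ x ∈ L, dua x (f z) ≠ f z → ∀ H : Subgroup Y, B₁ ≤ H → (∀ b ∈ B₁, x * b * x⁻¹ ∈ H) → L ≤ H := by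
    intro x hx hxne H h1 h2
    have h3 : B₁.map (MulAut.conj x).toMonoidHom ∈ BB (x • z) :=
      h.bb_smul x z (MulAction.mem_orbit_self z) B₁ hB₁
    have h4 := hmin B₁ hB₁ x _ h3 (by rwa [h.f_orbit])
    have h5 : B₁ ⊔ B₁.map (MulAut.conj x).toMonoidHom ≤ L := by
      refine sup_le hBL ?_
      rintro _ ⟨b, hb, rfl⟩
      exact mul_mem (mul_mem hx (hBL hb)) (inv_mem hx)
    have h6 : B₁ ⊔ B₁.map (MulAut.conj x).toMonoidHom = L := eq_of_le_of_card_ge h5 h4
    rw [← h6]
    refine sup_le h1 ?_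
    rintro _ ⟨b, hb, rfl⟩
    exact h2 b hb
  have hmv : ∃ x ∈ L, dua x (f z) ≠ f z := by
    by_contra hc
    push Not at hc
    have h1 : C₁ ≤ stabF Y (f ((1 : Y) • z)) := by
      intro c hc'
      rw [one_smul, mem_stabF]
      exact hc c (le_sup_right (a := B₁) hc')
    have h2 := h.bb_fix hC₁ h1
    rw [one_smul] at h2
    exact hne h2.symm
  -- a Sylow 2-subgroup of `L` over `B₁`
  have hB2 : IsPGroup 2 (B₁.subgroupOf L) :=
    (h.B_two hB₁).comap_of_injective L.subtype Subtype.coe_injective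
  obtain ⟨P, hP⟩ := hB2.exists_le_sylow
  have hTL : IsPGroup 2 ((P : Subgroup L).map L.subtype) := P.2.map _
  obtain ⟨k, -, hk⟩ := sylow_conj T (K := ⊤) le_top hTL le_top
  have hPw : ∀ r ∈ (P : Subgroup L), (r : Y) • (k • z) = k • z := by
    intro r hr
    have h1 := h.z_fix _ (hk _ ⟨r, hr, rfl⟩)
    change (k⁻¹ * (r : Y) * k) • z = z at h1
    rwa [mul_smul, mul_smul, inv_smul_eq_iff] at h1
  have hBP : ∀ b (hb : b ∈ B₁), (⟨b, hBL hb⟩ : L) ∈ (P : Subgroup L) := fun b hb => hP (mem_subgroupOf.mpr hb)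
  have hfix : Fx B₁ (k • z) := fun b hb => hPw _ (hBP b hb)
  have hfw : f (k • z) = f z := h.star B₁ hB₁ _ ⟨k, rfl⟩ hfix
  have hstab : ∀ l : Y, l • (k • z) = k • z → dua l (f z) = f z := by
    intro l hl
    have h1 := h.f_smul l (k • z) ⟨k, rfl⟩
    rw [hl, hfw] at h1
    exact h1.symm
  refine ⟨B₁, L, k • z, hB₁, ?_⟩
  exact
    { faith := h.faith
      ne := h.f_ne
      nb := hN
      le := hBL
      ex := hmv
      min := hgen
      fixw := hfix
      stab := fun l _ hl => hstab l hl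
      syl := by
        intro x hx b hb hbx
        have h1 : dua (x⁻¹ * b * x) (f z) = f z := dua_conj_eq.mpr hbx
        have hxb : x⁻¹ * b * x ∈ L := mul_mem (mul_mem (inv_mem hx) (hBL hb)) hx
        let K : Subgroup L := (stabF Y (f z)).subgroupOf L
        have hPK : (P : Subgroup L) ≤ K := by
          intro r hr
          rw [mem_subgroupOf, mem_stabF]
          exact hstab _ (hPw r hr)
        have hR : IsPGroup 2 (zpowers (⟨x⁻¹ * b * x, hxb⟩ : L)) := by
          refine isPGroup_zpowers_of_sq ?_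
          refine Subtype.ext ?_
          change x⁻¹ * b * x * (x⁻¹ * b * x) = 1
          rw [show x⁻¹ * b * x * (x⁻¹ * b * x) = x⁻¹ * (b * b) * x by group, hN.sq b hb]
          group
        obtain ⟨l, hl, hl'⟩ := sylow_conj P hPK hR (zpowers_le.mpr (mem_subgroupOf.mpr h1))
        refine ⟨x * l, mul_mem hx l.2, ?_, ?_⟩
        · rw [dua_mul]
          rw [show dua (l : Y) (f z) = f z from hl]
        · have h2 := hPw _ (hl' _ (mem_zpowers _))
          have h3 : ((l⁻¹ * ⟨x⁻¹ * b * x, hxb⟩ * l : L) : Y) = (x * l)⁻¹ * b * (x * l) := by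
            simp only [Subgroup.coe_mul, Subgroup.coe_inv]
            group
          rw [h3, mul_smul, mul_smul, inv_smul_eq_iff] at h2
          exact h2
      core := by
        intro b hb hbc x hx
        let N : Subgroup L :=
          { carrier := {l | ∀ x ∈ L, dua (l : Y) (dua x (f z)) = dua x (f z)}
            mul_mem' := by
              intro a c ha hc x hx
              rw [Subgroup.coe_mul, dua_mul, hc x hx, ha x hx]
            one_mem' := by
              intro x hx
              rw [Subgroup.coe_one, dua_one]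
            inv_mem' := by
              intro a ha x hx
              have h1 := ha x hx
              conv_lhs => rw [← h1]
              rw [Subgroup.coe_inv, ← dua_mul, inv_mul_cancel, dua_one] }
        have hNn : N.Normal := by
          refine ⟨fun n hn l x hx => ?_⟩
          have h1 := hn ((l : Y)⁻¹ * x) (mul_mem (inv_mem l.2) hx)
          rw [dua_mul] at h1
          rw [Subgroup.coe_mul, Subgroup.coe_mul, Subgroup.coe_inv, dua_mul, dua_mul, h1, ← dua_mul,
            mul_inv_cancel, dua_one]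
        have hfr := frattini_inf P N
        set R : Subgroup L := (P : Subgroup L) ⊓ N with hR
        have hPR : (P : Subgroup L) ≤ normalizer (R : Set L) := by
          intro r hr
          rw [mem_normalizer_iff]
          intro s
          rw [hR, mem_inf, mem_inf]
          constructor
          · rintro ⟨h1, h2⟩
            exact ⟨(P : Subgroup L).mul_mem ((P : Subgroup L).mul_mem hr h1) ((P : Subgroup L).inv_mem hr),
              hNn.conj_mem _ h2 _⟩
          · rintro ⟨h1, h2⟩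
            refine ⟨?_, ?_⟩
            · have h3 := (P : Subgroup L).mul_mem ((P : Subgroup L).mul_mem ((P : Subgroup L).inv_mem hr) h1) hr
              rwa [show r⁻¹ * (r * s * r⁻¹) * r = s by group] at h3
            · have h3 := hNn.conj_mem _ h2 r⁻¹
              rwa [show r⁻¹ * (r * s * r⁻¹) * r⁻¹⁻¹ = s by group] at h3
        -- `N_L(R) = L`
        have hmv' : ∃ x : L, x ∈ normalizer (R : Set L) ∧ dua (x : Y) (f z) ≠ f z := by
          by_contra hc
          push Not at hc
          obtain ⟨x, hx, hxne⟩ := hmv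
          have h1 : (normalizer (R : Set L) ⊔ N : Subgroup L) ≤ (stabF Y (f z)).subgroupOf L := by
            refine sup_le (fun y hy => mem_subgroupOf.mpr (hc y hy)) fun y hy => mem_subgroupOf.mpr ?_
            have h2 := hy 1 (one_mem _)
            rwa [dua_one] at h2
          rw [hfr] at h1
          exact hxne (mem_subgroupOf.mp (h1 (mem_top (⟨x, hx⟩ : L))))
        obtain ⟨x₀, hx₀, hx₀ne⟩ := hmv'
        have hall : L ≤ (normalizer (R : Set L)).map L.subtype := by
          refine hgen x₀ x₀.2 hx₀ne _ (fun b hb => ⟨⟨b, hBL hb⟩, hPR (hBP b hb), rfl⟩) fun b hb => ?_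
          exact ⟨x₀ * ⟨b, hBL hb⟩ * x₀⁻¹, mul_mem (mul_mem hx₀ (hPR (hBP b hb))) (inv_mem hx₀), rfl⟩
        have hxR : (⟨x, hx⟩ : L) ∈ normalizer (R : Set L) := by
          obtain ⟨y, hy, e⟩ := hall hx
          have : y = ⟨x, hx⟩ := Subtype.ext e
          rwa [← this]
        have hbR : (⟨b, hBL hb⟩ : L) ∈ R := ⟨hBP b hb, hbc⟩
        have h1 : (⟨x, hx⟩ : L)⁻¹ * ⟨b, hBL hb⟩ * ⟨x, hx⟩ ∈ R := (mem_normalizer_iff''.mp hxR _).mp hbR
        have h2 := hPw _ h1.1
        simp only [Subgroup.coe_mul, Subgroup.coe_inv] at h2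
        rw [mul_smul, mul_smul, inv_smul_eq_iff] at h2
        exact h2
      noff := h.noff }

end Dat

end Cfsg.Agent.Omega.NearFF

end

end

-- merged: Cfsg.Agent.Mrg.Omega.NearFF.SymPlusSp
section

section


/-!
# (BT), `|V/E| = 2`: `Sp ⟹ (+)` (helper276 #14522, on helper132's structure `Sp`)

* `Sp.data` : the structure `SymPlus.Data`;
* `Sp.plus` : `β z (g • z) = 0 → g ∈ M`.
-/

set_option autoImplicit false

namespace Cfsg.Agent.Omega.NearFF

open Subgroup Cfsg.Agent.Omega.Transv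

variable {Y : Type*} [Group Y] {V : Type*} [AddCommGroup V] [Module (ZMod 2) V] [DistribMulAction Y V]

namespace Sp

variable {T : Sylow 2 Y} {M : Subgroup Y} {z : V} {β : V →ₗ[ZMod 2] Du V} (h : Sp T M z β)
include h

/-- the form -/
def frm : SymPlus.IFrm Y V where
  b v w := β v w
  add_left u v w := by rw [map_add, LinearMap.add_apply]
  symm := h.symm
  alt := h.alt
  nondeg v hv := h.nondeg v (LinearMap.ext fun w => by rw [hv]; rfl)
  inv := h.inv
  faith := h.faith

theorem R_eq (x : V) : h.frm.R x = KK Y x (β x) := by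
  ext r
  rw [SymPlus.IFrm.mem_R, mem_KK]
  constructor
  · rintro ⟨h1, h2⟩
    refine ⟨h1, fun v => ?_, h2⟩
    have h3 := h.inv r x v
    rwa [h1] at h3
  · rintro ⟨h1, _, h2⟩
    exact ⟨h1, h2⟩

theorem lt_ker [Finite V] {g : Y} {x : V} (hx : x ≠ 0) (hg : ∀ v, g • v = v + β v x • x) : False := by
  have hβx : β x ≠ 0 := fun h0 => hx (h.nondeg x h0)
  have hg' : ∀ v, g • v = v + β x v • x := fun v => by rw [hg, h.symm]
  have htv : Tv g x (β x) := ⟨hx, hβx, hg'⟩
  have hsq := htv.mul_self h.faith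
  have hmem : ∀ b ∈ zpowers g, b = 1 ∨ b = g := by
    intro b hb
    obtain ⟨n, rfl⟩ := mem_zpowers_iff.1 hb
    rcases Int.even_or_odd' n with ⟨k, hk | hk⟩
    · left
      rw [hk, zpow_mul, zpow_two, hsq, one_zpow]
    · right
      rw [hk, zpow_add, zpow_mul, zpow_two, hsq, one_zpow, one_mul, zpow_one]
  have h1 := h.noff (zpowers g) (fun h0 => htv.ne_one (zpowers_eq_bot.1 h0))
    (fun a ha b hb => by
      rcases hmem a ha with rfl | rfl <;> rcases hmem b hb with rfl | rfl <;> simp)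
    (fun a ha => by
      rcases hmem a ha with rfl | rfl
      · exact one_mul 1
      · exact hsq)
  have h2 : Nat.card (zpowers g) = 2 := by
    rw [Nat.card_zpowers]
    exact orderOf_eq_prime (by rw [pow_two, hsq]) htv.ne_one
  have h3 : Nat.card {v : V // Fx (zpowers g) v} = Nat.card {u : V // β x u = 0} := by
    refine Nat.card_congr (Equiv.subtypeEquivRight fun v => ?_)
    rw [← htv.fix_iff]
    constructor
    · intro h4
      exact h4 g (mem_zpowers g)
    · intro h4 b hb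
      rcases hmem b hb with rfl | rfl
      · exact one_smul Y v
      · exact h4
  have h4 : Nat.card {u : V // β x u = 0} = Nat.card {u : V // β x u = 1} := by
    obtain ⟨w, hw⟩ := exists_one hβx
    refine Nat.card_congr ⟨fun u => ⟨(u : V) + w, by rw [map_add, u.2, hw, zero_add]⟩,
      fun u => ⟨(u : V) + w, by rw [map_add, u.2, hw, one_add_one]⟩, fun u => ?_, fun u => ?_⟩
    · exact Subtype.ext (add_add_self _ _)
    · exact Subtype.ext (add_add_self _ _)
  rw [h2, h3, h4, card_hyper hβx] at h1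
  exact lt_irrefl _ h1

theorem nf [Finite V] {g k : Y} {x y : V} (hx : x ≠ 0) (hy : y ≠ 0) (hxy : x ≠ y) (hb : β x y = 0)
    (hg : ∀ v, g • v = v + β v y • y + β v (x + y) • (x + y))
    (hk : ∀ v, k • v = v + β v x • x + β v (x + y) • (x + y)) : False := by
  have hs0 : x + y ≠ 0 := fun h0 => hxy (eq_of_add h0)
  have hxs : x ≠ x + y := fun h0 => hy (by simpa using h0.symm)
  have hys : y ≠ x + y := fun h0 => hx (by simpa using h0.symm)
  have hβx : β x ≠ 0 := fun h0 => hx (h.nondeg x h0)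
  have hβy : β y ≠ 0 := fun h0 => hy (h.nondeg y h0)
  have hyx : β y x = 0 := by rw [h.symm, hb]
  have hg' : ∀ v, g • v = v + β y v • y + β (x + y) v • (x + y) := fun v => by
    rw [hg, h.symm v y, h.symm v (x + y)]
  have hk' : ∀ v, k • v = v + β x v • x + β (x + y) v • (x + y) := fun v => by
    rw [hk, h.symm v x, h.symm v (x + y)]
  have a1 : β x x = 0 := h.alt x
  have a2 : β y y = 0 := h.alt y
  have a3 : β (x + y) (x + y) = 0 := h.alt _
  have a4 : β x (x + y) = 0 := by rw [map_add, a1, hb, add_zero]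
  have a5 : β y (x + y) = 0 := by rw [map_add, a2, hyx, add_zero]
  have a6 : β (x + y) x = 0 := by rw [h.symm, a4]
  have a7 : β (x + y) y = 0 := by rw [h.symm, a5]
  have e1 : g * g = 1 := comp_self h.faith hg' a2 a5 a7 a3
  have e2 : k * k = 1 := comp_self h.faith hk' a1 a4 a6 a3
  have e3 : g * k = k * g := comp_comm h.faith hg' hk' hyx a5 a6 a3 hb a4 a7 a3
  have m1 := comp_fix hy hs0 hys hg'
  have m2 := comp_fix hx hs0 hxs hk'
  obtain ⟨v, hv⟩ := exists_one hβy
  obtain ⟨w, hw⟩ := exists_one hβx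
  have n1 : g ≠ 1 := fun h1 => by
    have h2 := (m1 v).mp (by rw [h1, one_smul])
    rw [hv] at h2
    exact one_ne h2.1
  have n2 : k ≠ 1 := fun h1 => by
    have h2 := (m2 w).mp (by rw [h1, one_smul])
    rw [hw] at h2
    exact one_ne h2.1
  have n3 : g ≠ k := fun h1 => by
    have h2 := hg' v
    rw [h1, hk' v, hv, one_smul] at h2
    rcases zmod_cases (β x v) with h3 | h3
    · rw [h3, zero_smul, add_zero] at h2
      have h4 := add_right_cancel h2
      exact hy (by simpa using h4.symm)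
    · rw [h3, one_smul] at h2
      have h4 := add_left_cancel (add_right_cancel h2)
      exact hxy h4
  have h1 := h.noff (NearFF.four e1 e2 e3) (fun h0 => n1 (by
      have : g ∈ NearFF.four e1 e2 e3 := Or.inr (Or.inl rfl)
      rw [h0] at this
      exact mem_bot.1 this)) (by
    rintro a (rfl | rfl | rfl | rfl) b (rfl | rfl | rfl | rfl)
    all_goals first
      | rfl
      | rw [one_mul, mul_one]
      | exact e3
      | exact e3.symm
      | skip
    · rw [← mul_assoc, e1, one_mul, e3, mul_assoc, e1, mul_one]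
    · rw [← mul_assoc, ← e3, mul_assoc, e2, mul_one]
    · rw [mul_assoc, ← e3, ← mul_assoc]
    · rw [mul_assoc, e2, mul_one, ← mul_assoc, ← e3, mul_assoc, e2, mul_one]) (by
    rintro a (rfl | rfl | rfl | rfl)
    · exact one_mul 1
    · exact e1
    · exact e2
    · rw [mul_assoc, ← mul_assoc k, ← e3, mul_assoc g, e2, mul_one, e1])
  have hne : β x ≠ β y := fun h0 => hxy (eq_of_add (h.nondeg _ (by rw [map_add, h0]; exact add_self _)))
  have h2 := card_two hβx hβy hne (fixS V (NearFF.four e1 e2 e3)) (fun u => by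
    rw [mem_fixS]
    constructor
    · intro h1
      have h2 := (m1 u).mp (h1 _ (Or.inr (Or.inl rfl)))
      have h3 := (m2 u).mp (h1 _ (Or.inr (Or.inr (Or.inl rfl))))
      exact ⟨h3.1, h2.1⟩
    · rintro ⟨h1, h2⟩
      have h5 : β (x + y) u = 0 := by rw [map_add, LinearMap.add_apply, h1, h2, add_zero]
      have h3 := (m1 u).mpr ⟨h2, h5⟩
      have h4 := (m2 u).mpr ⟨h1, h5⟩
      rintro n (rfl | rfl | rfl | rfl)
      · exact one_smul _ u
      · exact h3
      · exact h4
      · rw [mul_smul, h4, h3])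
  rw [card_four n1 n2 n3] at h1
  have h3 : Nat.card {v : V // Fx (NearFF.four e1 e2 e3) v} = Nat.card (fixS V (NearFF.four e1 e2 e3)) := rfl
  rw [h3, ← h2] at h1
  exact lt_irrefl _ h1

/-- the structure `SymPlus.Data` -/
def data [Finite V] : SymPlus.Data Y V where
  toIFrm := h.frm
  z := z
  z_ne := h.z_ne
  span := by
    rw [eq_top_iff]
    intro v _
    have h1 : v ∈ Submodule.span (ZMod 2) (Set.range fun g : Y => g • z) := by rw [h.span]; trivial
    induction h1 using Submodule.span_induction with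
    | mem x hx => exact AddSubgroup.subset_closure hx
    | zero => exact zero_mem _
    | add a b _ _ ha hb => exact add_mem (ha trivial) (hb trivial)
    | smul c a _ ha =>
      rcases zmod_cases c with rfl | rfl
      · rw [zero_smul]; exact zero_mem _
      · rw [one_smul]; exact ha trivial
  T := T
  M := M
  T_two := T.isPGroup'
  T_max := fun Q hQ hTQ => T.is_maximal' hQ hTQ
  T_fix := h.z_fix
  T_only := h.fixT
  M_only := fun H hT hH => (h.max H hT).resolve_right hH
  card4 := by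
    rw [h.R_eq]
    exact h.four z (MulAction.mem_orbit_self z)
  DO := fun y hy hr => h.only z (MulAction.mem_orbit_self z) y hy (by
    rw [← h.R_eq]
    exact hr)
  NT := fun g x hx hg => h.lt_ker hx hg
  NF := fun g k x y hx hy hxy hb hg hk => h.nf hx hy hxy hb hg hk

/-- **#14522**: (+) -/
theorem plus [Finite V] {g : Y} (hg : β z (g • z) = 0) : g ∈ M := h.data.plus hg

end Sp

end Cfsg.Agent.Omega.NearFF

end

section


/-!
# (BT), `|V/E| = 2`: the symmetric case on `Dat` (project OMEGA, leaf N1)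

* `Dat.plus_of_symm` : `f` symmetric ⟹ (+);
* `Dat.plus_of_Fz` : `F₀(z) = ⟨z⟩` ⟹ (+);
* `Dat.plus_of_card` : `|R_z| ≥ 3` ⟹ (+);
* `Dat.plus_of_good`, `Dat.plus_of_two` : a good `A ≠ 1`, resp. `|[E, b]| = 2` ⟹ (+);
* `Dat.five_of_plus` : (+) ⟹ `|Ω| = 5`.
-/

set_option autoImplicit false
set_option linter.unusedSectionVars false

namespace Cfsg.Agent.Omega.NearFF

open Subgroup Cfsg.Agent.Omega.Transv

variable {Y : Type*} [Group Y] {V : Type*} [AddCommGroup V] [Module (ZMod 2) V] [DistribMulAction Y V]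

namespace Dat

variable {T : Sylow 2 Y} {M : Subgroup Y} {z : V} {f : V → Du V} {Q : V → Subgroup Y}
  {BB : V → Set (Subgroup Y)} [Finite Y] [Finite V] (h : Dat T M z f Q BB)
include h

/-- `f` symmetric ⟹ (+) -/
theorem plus_of_symm (hs : ∀ x ∈ MulAction.orbit Y z, ∀ y ∈ MulAction.orbit Y z, f x y = f y x) :
    ∀ g : Y, f z (g • z) = 0 → g ∈ M := by
  obtain ⟨β, hβ, hf⟩ := h.exists_sp hs
  intro g hg
  refine hβ.plus ?_
  rw [hf z (MulAction.mem_orbit_self z)]
  exact hg

/-- `F₀(z) = ⟨z⟩` ⟹ (+) -/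
theorem plus_of_Fz (hF : ∀ v : V, (∀ B ∈ BB z, Fx B v) → v = 0 ∨ v = z) :
    ∀ g : Y, f z (g • z) = 0 → g ∈ M :=
  h.plus_of_symm fun _ hx _ hy => h.symm_of hF hx hy

/-- `|R_z| ≥ 3` ⟹ (+) -/
theorem plus_of_card (hR : 3 ≤ Nat.card (KK Y z (f z))) : ∀ g : Y, f z (g • z) = 0 → g ∈ M :=
  h.plus_of_symm fun _ hx _ hy => h.symm_of_card hR hx hy

/-- a good `A ≠ 1` ⟹ (+) -/
theorem plus_of_good {B : Subgroup Y} (hB : B ∈ BB z) {A : Set Y} (hA : Good (f z) B A) {a : Y}
    (ha : a ∈ A) (ha1 : a ≠ 1) : ∀ g : Y, f z (g • z) = 0 → g ∈ M :=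
  h.plus_of_symm fun _ hx _ hy => h.symm_of_good hB hA ha ha1 hx hy

/-- `|[E, b]| = 2` for some `1 ≠ b ∈ B ∈ BB z` ⟹ (+) -/
theorem plus_of_two {B : Subgroup Y} (hB : B ∈ BB z) {b : Y} (hb : b ∈ B) (hb1 : b ≠ 1) {w : V}
    (hw : ∀ e : V, f z e = 0 → cm b e = 0 ∨ cm b e = w) : ∀ g : Y, f z (g • z) = 0 → g ∈ M :=
  h.plus_of_symm fun _ hx _ hy => h.symm_of_two hB hb hb1 hw hx hy

/-- (+) ⟹ `|Ω| = 5` -/
theorem five_of_plus (plus : ∀ g : Y, f z (g • z) = 0 → g ∈ M) : Nat.card (MulAction.orbit Y z) = 5 :=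
  PlusFam.five h plus

end Dat

end Cfsg.Agent.Omega.NearFF

end

section


/-!
# (BT), `|V/E| = 2`: (+) (project OMEGA, leaf N1)

Text: helper132, bb OMEGA #17318.

* `Dat.plusAbs` : (+);
* `btAbs` : `NO1.Two.BTAbs`;
* `Dat.five` : `|Ω| = 5`.
-/

set_option autoImplicit false
set_option linter.unusedSectionVars false

namespace Cfsg.Agent.Omega.NearFF

open Subgroup Cfsg.Agent.Omega.Transv

variable {Y : Type*} [Group Y] {V : Type*} [AddCommGroup V] [Module (ZMod 2) V] [DistribMulAction Y V]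

/-- **(+)** for `|V/E| = 2` -/
theorem Dat.plusAbs [Finite Y] [Finite V] {T : Sylow 2 Y} {M : Subgroup Y} {z : V} {f : V → Du V}
    {Q : V → Subgroup Y} {BB : V → Set (Subgroup Y)} (h : Dat T M z f Q BB) :
    ∀ g : Y, f z (g • z) = 0 → g ∈ M := by
  obtain ⟨B, hB⟩ := h.bb_ne
  obtain ⟨B', L, w, hB', hmp⟩ := h.exists_mp hB
  by_cases hbig : Big (f z) B'
  · exact (hmp.false_of_big hbig).elim
  · unfold Big at hbig
    push Not at hbig
    obtain ⟨b, hb, hb1, w', hw⟩ := hbig
    refine h.plus_of_two hB' hb hb1 (w := w') fun e he => ?_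
    by_cases h0 : cm b e = 0
    · exact Or.inl h0
    · exact Or.inr (hw e he h0)

/-- `|Ω| = 5` -/
theorem Dat.five_pts [Finite Y] [Finite V] {T : Sylow 2 Y} {M : Subgroup Y} {z : V} {f : V → Du V}
    {Q : V → Subgroup Y} {BB : V → Set (Subgroup Y)} (h : Dat T M z f Q BB) :
    Nat.card (MulAction.orbit Y z) = 5 := h.five_of_plus h.plusAbs

/-- **(BT), `|V/E| = 2`, abstract form** -/
theorem btAbs.{u} : NO1.Two.BTAbs.{u} := by
  intro Y V _ _ _ _ _ _ T M z f Q BB h
  exact h.plusAbs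

end Cfsg.Agent.Omega.NearFF

end

end

-- merged: Cfsg.Agent.Mrg.Omega.NO1.FrCut
section

/-!
# N1, (BT): the cut of `BTNot` along the frames of TEXT B4

`btNot_of_fr : FrPlus → FrFour → FrTwo → BTNot`.
-/

set_option autoImplicit false
set_option linter.unusedSectionVars false

namespace Cfsg.Agent.Omega.NO1

open Subgroup Cfsg Cfsg.Agent.ZN Cfsg.Agent.Omega.MinPar Cfsg.Agent.Omega.Frame
open Cfsg.Agent.Omega.Transv Cfsg.Agent.Omega.NearFF TwoG

universe u

/-- `|Z| = 2`, `|V_P : E| = 2` (`BTAbs`, closed). -/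
theorem ty_two {G : Type u} [Group G] [Finite G] {S : Sylow 2 G} {P : Subgroup G} (h : Cfg S P)
    (hoff : NoOff (S : Subgroup G) P) (hZ : Nat.card (zc (S : Subgroup G)) = 2)
    (hA : (EE (S : Subgroup G) P).relIndex (zl (S : Subgroup G) P) = 2) : Ty (S : Subgroup G) P := by
  obtain ⟨z, hz1, hz2, hz3⟩ := exists_z (S := S) hZ
  have hz : Zd S z := ⟨hz1, hz2, hz3⟩
  have hE : (Ex (zl (S : Subgroup G) P) z).relIndex (zl (S : Subgroup G) P) = 2 := by
    rw [← EE_of_Zd hz]
    exact hA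
  obtain ⟨Y, M, _, _, _, _, _, T, Mx, ⟨R⟩⟩ := h.exists_rep
  let _ : Module (ZMod 2) M := AddCommGroup.zmodModule fun m => by rw [two_nsmul]; exact R.two m
  obtain ⟨m, hm⟩ := R.surj z (h.Z_le_V hz.mem)
  obtain ⟨BB, hD⟩ := exists_dat h R hz hm hE hoff
  obtain ⟨w, w1, w2, w3, w4, w5, w6⟩ := PlusFam.five' hD (btAbs Y M T Mx m _ _ BB hD)
  exact Ty.minus2 _ (R.minus2 hz hm w1 w2 w3 w4 w5 w6)

/-- **The cut of `BTNot`.** -/
theorem btNot_of_fr (h1 : FrPlus.{u}) (h4 : FrFour.{u}) (h2 : FrTwo.{u}) : BTNot.{u} := by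
  intro G _ _ S P h hoff
  obtain ⟨M, F, hf⟩ := exists_fr h hoff
  by_cases hp : PlusAt (S : Subgroup G) P (NOne.Flat.EE (zl (S : Subgroup G) M) F)
  · exact h1 G S P M F hf hp
  · rcases relIndex_two_or h hf.not_le with h3 | h3
    · by_cases hZ : Nat.card (zc (S : Subgroup G)) = 2
      · have hE : ¬ zl (S : Subgroup G) P ≤ EE (S : Subgroup G) P := fun h5 => h.one.not_le (h5.trans inf_le_right)
        rcases relIndex_two_or h hE with h5 | h5
        · exact ty_two h hoff hZ h5
        · exact h2 G S P M F hf hp h3 (Or.inr h5)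
      · exact h2 G S P M F hf hp h3 (Or.inl hZ)
    · exact h4 G S P M F hf hp h3

end Cfsg.Agent.Omega.NO1

end

-- merged: Cfsg.Agent.Mrg.Omega.NO1.HE.EndTwo
section

/-!
# THE END of (BT), `|V / E| = 2`: (+) for one frame ⟹ `Minus2` (N1, text #17521, helper207)

* `alt_of` : a regular four-group on the last four of five vectors gives `A₅`;
* `Geo.five` : `Geo 2` gives five vectors with sum 0;
* **`minus2`** : (+) for one frame implies type `Minus2` if `|V / E| = 2`.
-/

set_option autoImplicit false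
set_option linter.unusedSectionVars false

namespace Cfsg.Agent.Omega.NO1.HE

open Subgroup
open Cfsg Cfsg.Agent.ZN Cfsg.Agent.Omega.MinPar Cfsg.Agent.Omega.Frame
open scoped Pointwise

universe u

section alt

open Cfsg.Agent.Omega.NearFF.Plus

variable {Y V : Type u} [Group Y] [Finite Y] [AddCommGroup V] [DistribMulAction Y V]

/-- A regular four-group on the last four vectors gives `A₅`. -/
theorem alt_of {w : Fin 5 → V} (hinj : Function.Injective w) {B : Subgroup Y} (h4 : Nat.card B = 4)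
    (h2 : ∀ b ∈ B, b * b = 1) (hfix : ∀ b ∈ B, b • w 0 = w 0)
    (hfree : ∀ b ∈ B, ∀ i, b • w i = w i → b = 1 ∨ i = 0)
    (hr : Set.range w = MulAction.orbit Y (w 0)) :
    (∀ g : Y, ∃ σ : Equiv.Perm (Fin 5), ∀ i, g • w i = w (σ i)) ∧
    ∀ σ ∈ alternatingGroup (Fin 5), ∃ g : Y, ∀ i, g • w i = w (σ i) := by
  classical
  have hperm : ∀ g : Y, ∃ σ : Equiv.Perm (Fin 5), ∀ i, g • w i = w (σ i) := by
    intro g
    have h1 : ∀ i, ∃ j, g • w i = w j := by
      intro i
      have h0 : w i ∈ MulAction.orbit Y (w 0) := hr ▸ ⟨i, rfl⟩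
      have h3 : g • w i ∈ Set.range w := by
        rw [hr]
        exact MulAction.mem_orbit_of_mem_orbit g h0
      obtain ⟨j, hj⟩ := h3
      exact ⟨j, hj.symm⟩
    choose f hf using h1
    have hfi : Function.Injective f := by
      intro i j hij
      apply hinj
      apply MulAction.injective g
      change g • w i = g • w j
      rw [hf, hf, hij]
    exact ⟨Equiv.ofBijective f (Finite.injective_iff_bijective.1 hfi), hf⟩
  refine ⟨hperm, ?_⟩
  choose p hp using hperm
  have hpm : ∀ g g' : Y, p (g * g') = p g * p g' := by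
    intro g g'
    ext i
    congr 1
    apply hinj
    rw [← hp, mul_smul, hp g', hp g, Equiv.Perm.mul_apply]
  let ψ : Y →* Equiv.Perm (Fin 5) := MonoidHom.mk' p hpm
  have hle : alternatingGroup (Fin 5) ≤ ψ.range := by
    refine alt_le ?_ ?_
    · intro i
      have h1 : w i ∈ MulAction.orbit Y (w 0) := hr ▸ ⟨i, rfl⟩
      obtain ⟨g, hg⟩ := h1
      refine ⟨ψ g, ⟨g, rfl⟩, hinj ?_⟩
      change w (p g 0) = w i
      rw [← hp]
      exact hg
    · have hB : ∀ b ∈ B, b ≠ 1 → Good (p b) := by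
        intro b hb hb1
        refine ⟨?_, ?_, fun i hi h3 => ?_⟩
        · rw [← hpm, h2 b hb]
          ext i
          congr 1
          apply hinj
          rw [← hp, one_smul, Equiv.Perm.one_apply]
        · apply hinj
          rw [← hp, hfix b hb]
        · rcases hfree b hb i (by rw [hp, h3]) with h4 | h4
          · exact hb1 h4
          · exact hi h4
      haveI := Fintype.ofFinite B
      have hcB : Fintype.card B = 4 := by rw [← Nat.card_eq_fintype_card]; exact h4
      let S : Finset (Equiv.Perm (Fin 5)) := (Finset.univ.erase (1 : B)).image fun b : B => p (b : Y)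
      have hS : S.card = 3 := by
        rw [Finset.card_image_of_injOn, Finset.card_erase_of_mem (Finset.mem_univ _), Finset.card_univ, hcB]
        intro b _ b' _ hbb
        have hbb' : p (b : Y) = p (b' : Y) := hbb
        have h3 : (b'⁻¹ * b : B) = 1 := by
          have h4 : ((b' : Y)⁻¹ * (b : Y)) • w 1 = w 1 := by
            rw [mul_smul, hp (b : Y), hbb', ← hp (b' : Y), inv_smul_smul]
          rcases hfree _ (mul_mem (inv_mem b'.2) b.2) 1 h4 with h5 | h5
          · exact Subtype.ext h5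
          · exact absurd h5 (by decide)
        exact (inv_mul_eq_one.1 h3).symm
      have hSG : S ⊆ Finset.univ.filter Good := by
        intro τ hτ
        obtain ⟨b, hb, rfl⟩ := Finset.mem_image.1 hτ
        rw [Finset.mem_filter]
        refine ⟨Finset.mem_univ _, hB b b.2 fun h3 => ?_⟩
        exact (Finset.mem_erase.1 hb).1 (Subtype.ext h3)
      have hSeq : S = Finset.univ.filter Good := Finset.eq_of_subset_of_card_le hSG (by rw [card_good, hS])
      intro τ hτ
      have h3 : τ ∈ S := by rw [hSeq, Finset.mem_filter]; exact ⟨Finset.mem_univ _, hτ⟩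
      obtain ⟨b, -, rfl⟩ := Finset.mem_image.1 h3
      exact ⟨b, rfl⟩
  intro σ hσ
  obtain ⟨g, hg⟩ := hle hσ
  refine ⟨g, fun i => ?_⟩
  rw [hp, ← hg]
  rfl

end alt

namespace Geo

variable {Y : Type u} [Group Y] [Finite Y] {V : Type u} [AddCommGroup V] [Finite V] [DistribMulAction Y V]
  {Ω : Type u} [MulAction Y Ω] (G : Geo 2 Y V Ω)

/-- `F_p = {0, w_p}` -/
theorem exists_w (p : Ω) : ∃ w ∈ G.F p, w ≠ 0 ∧ ∀ x ∈ G.F p, x = 0 ∨ x = w := by
  have h1 : Nat.card (G.F p) = 2 := G.card_F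
  obtain ⟨a, ha, h2⟩ := (Nat.card_eq_two_iff' (0 : G.F p)).1 h1
  refine ⟨a, a.2, fun h => ha (Subtype.ext h), fun x hx => ?_⟩
  by_cases hx0 : x = 0
  · exact Or.inl hx0
  · right
    have h3 := h2 ⟨x, hx⟩ (fun h => hx0 (congrArg Subtype.val h))
    exact congrArg Subtype.val h3

/-- **The five vectors.** -/
theorem five (p : Ω) {m : V} (hm : m ∈ G.F p) (hm0 : m ≠ 0) : ∃ w : Fin 5 → V, Function.Injective w ∧ w 0 = m ∧
    Set.range w = MulAction.orbit Y m ∧ w 0 + w 1 + w 2 + w 3 + w 4 = 0 ∧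
    (∀ g : Y, ∃ σ : Equiv.Perm (Fin 5), ∀ i, g • w i = w (σ i)) ∧
    ∀ σ ∈ alternatingGroup (Fin 5), ∃ g : Y, ∀ i, g • w i = w (σ i) := by
  classical
  choose w hwF hw0 hw using fun p => G.exists_w p
  have hmp : m = w p := (hw p m hm).resolve_left hm0
  subst hmp
  have hsm : ∀ (g : Y) (r : Ω), g • w r = w (g • r) := fun g r =>
    (hw (g • r) _ (G.smul_memF (hwF r))).resolve_left fun h => hw0 r ((smul_eq_zero_iff_eq g).1 h)
  have hwi : Function.Injective w := by
    intro r s hrs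
    by_contra hne
    refine hw0 r (G.disj hne (hwF r) ?_)
    rw [hrs]
    exact G.FE (hwF s)
  obtain ⟨q, hq⟩ := G.P.ne p
  have hB4 : Nat.card (G.B p) = 4 := G.card_B p
  let e : Fin 4 ≃ G.B p := (Finite.equivFinOfCardEq hB4).symm
  let o : Fin 5 → Ω := Fin.cons p fun i => (e i : Y) • q
  have ho0 : o 0 = p := rfl
  have hos : ∀ i : Fin 4, o i.succ = (e i : Y) • q := fun i => rfl
  have hmv : ∀ b ∈ G.B p, b • q ≠ p := by
    intro b hb h
    have h1 : b • p = p := G.fix hb
    exact hq (smul_left_cancel b (h.trans h1.symm))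
  have hfr : ∀ b ∈ G.B p, ∀ i, b • o i = o i → b = 1 ∨ i = 0 := by
    intro b hb i hi
    by_cases h1 : b = 1
    · exact Or.inl h1
    · right
      induction i using Fin.cases with
      | zero => rfl
      | succ i =>
        exfalso
        rw [hos] at hi
        exact hmv _ (e i).2 (G.free hb h1 hi)
  have hoi : Function.Injective o := by
    intro i j hij
    induction i using Fin.cases with
    | zero =>
      induction j using Fin.cases with
      | zero => rfl
      | succ j =>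
        rw [ho0, hos] at hij
        exact absurd hij.symm (hmv _ (e j).2)
    | succ i =>
      induction j using Fin.cases with
      | zero =>
        rw [ho0, hos] at hij
        exact absurd hij (hmv _ (e i).2)
      | succ j =>
        rw [hos, hos] at hij
        have h1 : ((e j : Y)⁻¹ * (e i : Y)) • q = q := by rw [mul_smul, hij, inv_smul_smul]
        have h2 : (e j : Y)⁻¹ * (e i : Y) = 1 := by
          by_contra hne
          exact hq (G.free ((G.B p).mul_mem ((G.B p).inv_mem (e j).2) (e i).2) hne h1)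
        rw [inv_mul_eq_one] at h2
        rw [e.injective (Subtype.ext h2)]
  have hosur : Function.Surjective o := by
    intro r
    by_cases hr : r = p
    · exact ⟨0, hr.symm⟩
    · obtain ⟨b, hb, h1⟩ := G.exists_B hq hr
      refine ⟨(e.symm ⟨b, hb⟩).succ, ?_⟩
      rw [hos, e.apply_symm_apply]
      exact h1
  have hwo : Function.Injective (w ∘ o) := hwi.comp hoi
  have hrange : Set.range (w ∘ o) = MulAction.orbit Y (w p) := by
    ext v
    constructor
    · rintro ⟨i, rfl⟩
      obtain ⟨g, hg⟩ := G.P.tr p (o i)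
      refine ⟨g, ?_⟩
      change g • w p = w (o i)
      rw [hsm, hg]
    · rintro ⟨g, rfl⟩
      obtain ⟨i, hi⟩ := hosur (g • p)
      refine ⟨i, ?_⟩
      change w (o i) = g • w p
      rw [hi, hsm]
  have hall := alt_of hwo hB4 (G.fr p).sq
    (fun b hb => by
      change b • w (o 0) = w (o 0)
      rw [ho0, hsm, G.fix hb])
    (fun b hb i hi => hfr b hb i (hwi (by
      change b • w (o i) = w (o i) at hi
      rw [← hsm]
      exact hi))) hrange
  refine ⟨w ∘ o, hwo, rfl, hrange, ?_, hall.1, hall.2⟩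
  -- the sum
  set s : V := ∑ i, (w ∘ o) i with hs
  have h1 : ∀ g : Y, g • s = s := by
    intro g
    obtain ⟨σ, hσ⟩ := hall.1 g
    rw [hs, Finset.smul_sum]
    simp only [hσ]
    exact Equiv.sum_comp σ (w ∘ o)
  have h2 : s = 0 := by
    refine G.disj hq.symm ((G.fr p).fixF fun t _ => h1 t) ?_
    exact G.FE ((G.fr q).fixF fun t _ => h1 t)
  rw [Fin.sum_univ_five] at hs
  rw [← hs, h2]

end Geo

variable {G : Type u} [Group G] [Finite G] {S : Sylow 2 G} {P : Subgroup G} {Y V : Type u} [Group Y] [Finite Y]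
  [AddCommGroup V] [Finite V] [DistribMulAction Y V] {T : Sylow 2 Y} {Mx : Subgroup Y}

/-- **THE END of (BT), `|V / E| = 2`**: (+) for one frame implies type `Minus2`. -/
theorem minus2 (R : Rep (S : Subgroup G) P (zl (S : Subgroup G) P) Y V T Mx) {E F : AddSubgroup V}
    {B : Subgroup Y} (h : Fra T Mx E F B) (hi : E.index = 2) : Ty (S : Subgroup G) P := by
  have hT : (T : Subgroup Y) ≠ ⊥ := by
    intro h1
    obtain ⟨e, he, hf⟩ := h.ne'
    refine hf (h.CB e fun b hb => ?_)
    have h3 : b ∈ (T : Subgroup Y) := h.BT hb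
    rw [h1, Subgroup.mem_bot] at h3
    rw [h3, one_smul]
  have Pt := pts_of R.core R.TM R.Mne R.max hT
  have at1 : ∀ T' : Sylow 2 Y, (T' : Subgroup Y) ≤ Mx → At T' ((1 : Y) : Y ⧸ Mx) := fun T' hT' t ht => by
    rw [MulAction.Quotient.smul_coe, smul_eq_mul, mul_one, eq_comm, QuotientGroup.eq, inv_one, one_mul]
    exact hT' ht
  have hfr : Fr 2 T ((1 : Y) : Y ⧸ Mx) E F B :=
    { at' := at1 T R.TM
      ind := hi
      BT := h.BT
      comm := h.comm
      sq := h.sq
      FE := h.FE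
      VB := h.VB
      EB := h.EB
      FB := h.FB
      CB := h.CB
      inj := h.inj
      surj := h.surj
      ne := h.ne
      ne' := h.ne'
      plus := fun T' q hq hv => Pt.one T' q _ hq (at1 T' (h.plus T' hv)) }
  obtain ⟨Ge⟩ := exists_geo Pt R.two R.faith hfr
  have hF : F = Ge.F ((1 : Y) : Y ⧸ Mx) := Ge.uF hfr
  obtain ⟨m, hm, hm0, hmu⟩ := Ge.exists_w ((1 : Y) : Y ⧸ Mx)
  -- `Z(S) = ⟨z⟩`
  have key : ∀ x ∈ zc (S : Subgroup G), x = 1 ∨ x = R.el m := by
    intro x hx
    obtain ⟨v, rfl⟩ := R.surj x (MinSimple.VModule.zc_le_zl _ _ hx)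
    have hv : v ∈ F := by
      refine hfr.fixF fun t ht => ?_
      obtain ⟨s, hs, rfl⟩ := (R.mem_T t).1 ht
      apply R.inj
      rw [R.smul]
      rw [(MinSimple.VModule.mem_zc.1 hx).2.1 s hs, mul_inv_cancel_right]
    rw [hF] at hv
    rcases hmu v hv with rfl | rfl
    · left
      exact R.el_zero
    · exact Or.inr rfl
  have hz : TwoG.Zd S (R.el m) := by
    have hS : (S : Subgroup G) ≠ ⊥ := by
      intro h1
      apply hT
      rw [eq_bot_iff]
      intro t ht
      obtain ⟨s, hs, rfl⟩ := (R.mem_T t).1 ht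
      rw [h1, Subgroup.mem_bot] at hs
      have h2 : s = 1 := Subtype.ext hs
      rw [h2, map_one]
      exact Subgroup.one_mem _
    refine ⟨?_, fun h1 => hm0 (R.el_eq_one.1 h1), key⟩
    obtain ⟨x, hx, hx1⟩ : ∃ x ∈ zc (S : Subgroup G), x ≠ 1 := by
      by_contra hcon
      push Not at hcon
      exact MinSimple.Basic.zc_ne_bot S.isPGroup' hS ((eq_bot_iff_forall _).2 hcon)
    rwa [← (key x hx).resolve_left hx1]
  obtain ⟨w, w1, w2, w3, w4, w5, w6⟩ := Ge.five _ hm hm0
  exact Ty.minus2 _ (R.minus2 hz rfl w1 w2 w3 w4 w5 w6)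

end Cfsg.Agent.Omega.NO1.HE

end

-- merged: Cfsg.Agent.Mrg.Omega.NO1.FrPlusMain
section

/-!
# (+) for a frame gives `MinusQ` or `Minus2` : `frPlus : FrPlus`, and the cut of `BTNot` in `FrFour`, `FrTwo`
-/

set_option autoImplicit false
set_option linter.unusedSectionVars false

namespace Cfsg.Agent.Omega.NO1

open Subgroup Cfsg Cfsg.Agent.ZN Cfsg.Agent.Omega.MinPar Cfsg.Agent.Omega.Frame
open FrRep

universe u

/-- **(+) for a frame** (438's `minusQ`, 207's `minus2`). -/
theorem frPlus : FrPlus.{u} := by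
  intro G _ _ S P M F h hp
  rcases relIndex_two_or h.cfg h.not_le with h2 | h4
  · obtain ⟨Y, V, _, _, _, _, _, T, Mx, ⟨R⟩⟩ := h.cfg.exists_rep
    obtain ⟨B, hB⟩ := exists_fra R h hp
    refine HE.minus2 R hB ?_
    rw [index_co]
    exact h2
  · exact ty_of_plus h hp h4

/-- `BTNot` from `FrFour` and `FrTwo`. -/
theorem btNot_of_fr' (h4 : FrFour.{u}) (h2 : FrTwo.{u}) : BTNot.{u} := btNot_of_fr frPlus h4 h2

end Cfsg.Agent.Omega.NO1

end
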