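import Cfsg.Agent.Mrg.Omega.Node.NO1
import Cfsg.Agent.Mrg.Omega.FrameI
import Cfsg.Agent.Mrg.Omega.NOne.Flat.Conj
import Cfsg.Agent.Mrg.Omega.NOne.Flat.Off
import Cfsg.Agent.Mrg.Omega.NOne.LemmaT
import Cfsg.Agent.Mrg.Omega.NO3b.EZeroBase
import Cfsg.Agent.Mrg.Omega.NO1.Types
import Cfsg.Agent.Mrg.Omega.Transv.Basic
import Cfsg.Agent.Mrg.Omega.Half.Blocks
import Mathlib
import Cfsg.Agent.Mrg.Omega.OmThm.NoOv
import Cfsg.Agent.Mrg.Omega.EH3.Clif.Comp
import Cfsg.Agent.Mrg.Omega.Spread.ElatOf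
import Cfsg.Agent.Mrg.Omega.NOne.Flat.OffMod

-- merged: Cfsg.Agent.Mrg.Omega.NO1.JOff
section

section


/-!
# TEXT B4 #15506: LEMMA J (ii'), step (10) BACK TO P

`exists_flat` : there is `M` with `Inv S P M` (so `O₂(C_G(D)) ≤ M` for `D ≤ V = ⟨Z^M⟩`), no offender on `V`
(module form), and, if `V` has bad subgroups at all, a maximal bad subgroup `F` of `V` (`Flat.Hyp V F`) with
`W_F ≤ S`, `W_F ≰ O₂(P)`.
-/

set_option autoImplicit false
set_option linter.unusedSectionVars false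

namespace Cfsg.Agent.Omega.NO1.JMin

open Subgroup Cfsg Cfsg.Agent.ZN Cfsg.Agent.ZN.ChoiceBase Cfsg.Agent.Omega.MinPar Cfsg.Agent.Omega.Frame
open Cfsg.Agent.Omega.NO1 Cfsg.Agent.Omega.NO1.BestOff
open Cfsg.Agent.ZN.ChoiceSit (Syl syl_conj exists_syl o2_le_syl)
open Cfsg.Agent.Omega.FFThm (OffM ElemM)
open Cfsg.Agent.PLocal.ThompsonJ (isElementaryAbelian_iff)
open Cfsg.Agent.Omega.NOne.Flat (Hyp Bad WW)
open Cfsg.Agent.MinSimple.VModule (oddGen)
open scoped Pointwise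

universe u

variable {G : Type u} [Group G] [Finite G]

section off

theorem oddGen_le_of {V A : Subgroup G} (h : ElemM V A) : oddGen A ≤ centralizer (V : Set G) := by
  rw [MinSimple.VModule.oddGen_def, closure_le]
  rintro a ⟨ha, ho⟩
  obtain ⟨k, hk⟩ := ho
  have h1 : a ^ (2 * (k + 1)) = a := by
    have h2 : a ^ (2 * k + 1) = 1 := by rw [← hk]; exact pow_orderOf_eq_one a
    calc a ^ (2 * (k + 1)) = a ^ (2 * k + 1) * a := by rw [← pow_succ]; congr 1
      _ = a := by rw [h2, one_mul]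
  have h3 : a ^ (2 * (k + 1)) ∈ centralizer (V : Set G) := by
    rw [pow_mul]
    exact pow_mem (h.sq a ha) _
  rwa [h1] at h3

/-- An offender contains a 2-subgroup which is an offender. -/
theorem exists_two {V A : Subgroup G} (h : OffM V A) : ∃ B : Subgroup G, B ≤ A ∧ IsPGroup 2 B ∧ OffM V B := by
  obtain ⟨B, hB⟩ := exists_syl_of A
  have h1 : oddGen A ⊔ B = A := Cfsg.Agent.Omega.NO3b.EZero.oddGen_sup_syl hB
  have h2 := oddGen_le_of h.toElemM
  have hBA : B ≤ A := hB.1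
  -- `A = C_A(V) B`
  set K : Subgroup G := A ⊓ centralizer (V : Set G) with hK
  have hKB : K ⊔ B = A := by
    refine le_antisymm (sup_le inf_le_left hBA) ?_
    rw [← h1]
    exact sup_le ((le_inf (MinSimple.VModule.oddGen_le A) h2).trans le_sup_left) le_sup_right
  have hn : B ≤ normalizer (K : Set G) := by
    intro b hb
    refine mem_normalizer_of_cj_le ?_
    intro x hx
    rw [mem_cj] at hx
    have hb' := hBA hb
    have hxA : x ∈ A := by
      have := mul_mem (mul_mem hb' hx.1) (inv_mem hb')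
      have e : b * (b⁻¹ * x * b) * b⁻¹ = x := by group
      rwa [e] at this
    refine ⟨hxA, ?_⟩
    have h3 := h.comm b hb' _ hx.1
    have h4 := mul_mem h3 hx.2
    have e : b * (b⁻¹ * x * b) * b⁻¹ * (b⁻¹ * x * b)⁻¹ * (b⁻¹ * x * b) = x := by group
    rwa [e] at h4
  have hcard := Cfsg.Agent.Omega.NOne.Flat.Off.card_sup_mul_inf hn
  rw [sup_comm, hKB] at hcard
  have hBK : B ⊓ K = B ⊓ centralizer (V : Set G) := by
    rw [hK, ← inf_assoc, inf_eq_left.2 hBA]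
  rw [hBK] at hcard
  have hCV : V ⊓ centralizer (B : Set G) ≤ V ⊓ centralizer (A : Set G) := by
    intro v hv
    refine ⟨hv.1, ?_⟩
    have h3 : A ≤ centralizer ({v} : Set G) := by
      rw [← h1]
      refine sup_le ?_ ?_
      · intro a ha
        exact mem_centralizer_singleton_iff.2 (mem_centralizer_iff.1 (h2 ha) v hv.1).symm
      · intro b hb
        exact mem_centralizer_singleton_iff.2 (mem_centralizer_iff.1 hv.2 b hb)
    exact mem_centralizer_iff.2 fun a ha => mem_centralizer_singleton_iff.1 (h3 ha)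
  refine ⟨B, hBA, hB.2.1, { toElemM := ElemM.mono h.toElemM hBA, ne := ?_, le := ?_ }⟩
  · intro h3
    refine h.ne ?_
    rw [← h1]
    exact sup_le h2 h3
  · have h3 := h.le
    have h4 : Nat.card ↥(V ⊓ centralizer (A : Set G)) ≤ Nat.card ↥(V ⊓ centralizer (B : Set G)) :=
      Subgroup.card_le_of_le (inf_le_inf_left V (centralizer_le hBA))
    have hKpos : 0 < Nat.card K := Nat.card_pos
    -- `|V| |K| ≤ |A| |C_V(B)|`, `|A| |B ∩ C(V)| = |B| |K|`
    have h5 : Nat.card V * Nat.card K ≤ Nat.card A * Nat.card ↥(V ⊓ centralizer (B : Set G)) :=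
      h3.trans (Nat.mul_le_mul_left _ h4)
    refine Nat.le_of_mul_le_mul_right ?_ hKpos
    calc Nat.card V * Nat.card ↥(B ⊓ centralizer (V : Set G)) * Nat.card K
        = (Nat.card V * Nat.card K) * Nat.card ↥(B ⊓ centralizer (V : Set G)) := by ring
      _ ≤ (Nat.card A * Nat.card ↥(V ⊓ centralizer (B : Set G))) *
          Nat.card ↥(B ⊓ centralizer (V : Set G)) := Nat.mul_le_mul_right _ h5
      _ = (Nat.card A * Nat.card ↥(B ⊓ centralizer (V : Set G))) *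
          Nat.card ↥(V ⊓ centralizer (B : Set G)) := by ring
      _ = _ := by rw [hcard]; ring

end off

section main

variable {S : Sylow 2 G} {P : Subgroup G}

theorem cj_eq_smul (m : G) (X : Subgroup G) : cj m X = MulAut.conj m • X := rfl

/-- **LEMMA J** with (ii'), and (10) BACK TO P. -/
theorem exists_flat (hG : IsCharacteristicTwoType G) (hP : IsParS (S : Subgroup G) P)
    (hoff : NoOff (S : Subgroup G) P) :
    ∃ M : Subgroup G, Inv (S : Subgroup G) P M ∧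
      (∀ A : Subgroup G, A ≤ normalizer (zl (S : Subgroup G) M : Set G) → ¬ OffM (zl (S : Subgroup G) M) A) ∧
      ((∃ F, Bad (zl (S : Subgroup G) M) F) → ∃ F, Hyp (zl (S : Subgroup G) M) F ∧
        WW (zl (S : Subgroup G) M) F ≤ S ∧ ¬ WW (zl (S : Subgroup G) M) F ≤ o2 P) := by
  obtain ⟨M, hM, hmin⟩ := exists_min' hG hP hoff
  set V : Subgroup G := zl (S : Subgroup G) M with hV
  have hMN : M ≤ normalizer (V : Set G) := MinSimple.VModule.le_normalizer_zl _ _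
  have hVP : zl (S : Subgroup G) P ≤ V := zl_mono hM.PM
  have hSN : Syl (S : Subgroup G) (normalizer (V : Set G)) :=
    ⟨hM.SM.trans hMN, S.isPGroup', fun Q _ hQ hSQ => S.is_maximal' hQ hSQ⟩
  -- no offender on `V`
  have hno : ∀ A : Subgroup G, A ≤ normalizer (V : Set G) → ¬ OffM V A := by
    intro A hA hoA
    obtain ⟨B, hBA, hB2, hoB⟩ := exists_two hoA
    obtain ⟨X, hXB, hX, hXV⟩ := exists_best hoB
    have hXN : X ≤ normalizer (V : Set G) := hXB.trans (hBA.trans hA)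
    obtain ⟨R, hR, hXR⟩ := exists_syl (hB2.to_le hXB) hXN
    obtain ⟨n, hn, hn'⟩ := syl_conj hR hSN
    have hnV : cj n V = V := cj_eq_of_mem_normalizer hn
    obtain ⟨Y, hY, hYS, hYP⟩ := hmin {X | Best V X} (fun m hm X hX => hX.conj (hMN hm))
      ⟨cj n X, hX.conj hn, by rw [← hn']; exact cj_mono n hXR, fun h => hXV (by
        have h1 : cj n X ≤ centralizer ((cj n V : Subgroup G) : Set G) := by rw [hnV]; exact h
        rw [← cj_centralizer] at h1
        have h2 := cj_mono n⁻¹ h1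
        rwa [cj_inv_cj, cj_inv_cj] at h2)⟩
    have h1 : ¬ Y ≤ centralizer (zl (S : Subgroup G) P : Set G) := by
      intro h1
      apply hYP
      rw [← hP.inf_centralizer S hG]
      exact le_inf hYS h1
    exact hoff Y (hYS.trans hP.isLoc.le) (Best.offM hY hVP h1)
  refine ⟨M, hM, hno, ?_⟩
  rintro ⟨F₀, hF₀⟩
  have hVe := isElementaryAbelian_iff.1 hM.el
  have hVcomm : V ≤ centralizer (V : Set G) := fun a ha => mem_centralizer_iff.2 fun b hb => hVe.1 b hb a ha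
  have hsyl : ∀ D : Subgroup G, D ≠ ⊥ → D ≤ V → o2 (centralizer (D : Set G)) ≤ normalizer (V : Set G) :=
    fun D _ hD => (hM.o2_le hD).trans hMN
  have hVS : V ≤ S := by
    -- `V ≤ O₂(M)`: `V` is a normal 2-subgroup of `M ≥ S`
    have h1 : IsPGroup 2 V := fun v => ⟨1, Subtype.ext (by
      rw [pow_one]; exact hVe.2 v v.2)⟩
    have hVM : V ≤ M := by
      refine MinSimple.VModule.zl_le ?_ le_normalizer
      exact (MinSimple.VModule.zc_le _).trans hM.SM
    exact (MinSimple.VModule.le_o2 hVM h1 hMN).trans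
      (o2_le_syl ⟨hM.SM, S.isPGroup', fun Q _ hQ hSQ => S.is_maximal' hQ hSQ⟩)
  have hchar : ∀ D : Subgroup G, D ≠ ⊥ → D ≤ V → centralizer (D : Set G) ⊓
      centralizer (o2 (centralizer (D : Set G)) : Set G) ≤ o2 (centralizer (D : Set G)) :=
    fun D hD1 hD => NOne.LemmaT.char2_centralizer hG (S.isPGroup'.to_le (hD.trans hVS)) hD1
  obtain ⟨F, -, hF⟩ := NOne.Flat.exists_hyp hVcomm (fun w hw => hVe.2 w hw) hsyl hno hchar hF₀
  -- the family of all `W_F`
  let SS : Set (Subgroup G) := {X | ∃ F, Hyp V F ∧ X = WW V F}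
  have hSS : ∀ m ∈ M, ∀ X ∈ SS, cj m X ∈ SS := by
    rintro m hm _ ⟨D, hD, rfl⟩
    exact ⟨MulAut.conj m • D, hD.conj (hMN hm), NOne.Flat.WW_conj (hMN hm)⟩
  obtain ⟨T, hT⟩ := exists_syl_of (M ⊓ centralizer (F : Set G))
  obtain ⟨m, hm, -, hTm⟩ := hM.exists_conj hT
  have hFm : Hyp V (cj m F) := hF.conj (hMN hm)
  have hWS : WW V (cj m F) ≤ S :=
    (NOne.Flat.Hyp.W_le_R.trans (o2_le_syl (hM.syl hFm.bad.le hTm))).trans inf_le_left
  have hWV : ¬ WW V (cj m F) ≤ centralizer (V : Set G) := by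
    intro h1
    have h2 : V ⊓ centralizer (WW V (cj m F) : Set G) = cj m F := hFm.cent_VW
    rw [inf_eq_left.2 ((Subgroup.le_centralizer_iff).1 h1)] at h2
    have h3 := hFm.F_lt_E
    have h4 : NOne.Flat.EE V (cj m F) ≤ cj m F := by
      refine le_trans inf_le_left ?_
      exact h2.le
    exact absurd (lt_of_lt_of_le h3 h4) (lt_irrefl _)
  obtain ⟨X, ⟨D, hD, rfl⟩, hXS, hXP⟩ := hmin SS hSS ⟨WW V (cj m F), ⟨_, hFm, rfl⟩, hWS, hWV⟩
  exact ⟨D, hD, hXS, hXP⟩

end main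

end Cfsg.Agent.Omega.NO1.JMin

end

section


/-!
# N1, (BT) with `|V / E| = 2`, `|Z| = 2`: from `Cfg` to `NearFF.Dat` (project OMEGA, assembler helper406)
-/

set_option autoImplicit false
set_option linter.unusedSectionVars false

namespace Cfsg.Agent.Omega.NO1

open Subgroup Cfsg Cfsg.Agent.ZN Cfsg.Agent.Omega.MinPar Cfsg.Agent.Omega.Frame
open Cfsg.Agent.Omega.NoFF.LinesPlug (CC)
open Cfsg.Agent.Omega.NoFF.Basic (mem_conj conj_le_iff conj_conj)
open Cfsg.Agent.Omega.NOne.Frame (mem_conj' X norm_mem comm_of_le_centralizer)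
open Cfsg.Agent.Omega.NOne.NearFF (Fin V1 Near)
open Cfsg.Agent.Omega.FFThm (OffM)
open Cfsg.Agent.Omega.Transv Cfsg.Agent.Omega.NearFF TwoG
open scoped Pointwise

universe u

namespace Rep

variable {G : Type u} [Group G] {S P V : Subgroup G} {Y M : Type u} [Group Y] [AddCommGroup M]
  [DistribMulAction Y M] {T : Sylow 2 Y} {Mx : Subgroup Y} (R : Rep S P V Y M T Mx)

theorem el_zero : R.el 0 = 1 := by
  have h := R.add 0 0
  rw [add_zero] at h
  exact (mul_eq_left.1 h.symm)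

theorem el_eq_one {m : M} : R.el m = 1 ↔ m = 0 := by
  constructor
  · intro h
    exact R.inj (h.trans R.el_zero.symm)
  · rintro rfl
    exact R.el_zero

theorem el_sq (m : M) : R.el m * R.el m = 1 := by rw [← R.add, R.two, R.el_zero]

theorem el_inv (m : M) : (R.el m)⁻¹ = R.el m := inv_eq_of_mul_eq_one_left (R.el_sq m)

theorem ac_eq_one {p : P} : R.ac p = 1 ↔ (p : G) ∈ centralizer (V : Set G) := by
  rw [mem_centralizer_iff]
  constructor
  · intro h v hv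
    obtain ⟨m, rfl⟩ := R.surj v hv
    have h1 := R.smul p m
    rw [h, one_smul] at h1
    calc R.el m * p = (p * R.el m * (p : G)⁻¹) * p := by rw [← h1]
      _ = p * R.el m := by group
  · intro h
    refine R.faith _ fun m => R.inj ?_
    rw [R.smul, ← h _ (R.mem m), mul_inv_cancel_right]

theorem el_cm (p : P) (m : M) : R.el (cm (R.ac p) m) = p * R.el m * (p : G)⁻¹ * R.el m := by
  rw [cm, R.add, R.smul]

/-- The group induced by `A ∩ P`. -/
def im (A : Subgroup G) : Subgroup Y := (A.subgroupOf P).map R.ac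

theorem mem_im {A : Subgroup G} {y : Y} : y ∈ R.im A ↔ ∃ (a : G) (hP : a ∈ P), a ∈ A ∧ R.ac ⟨a, hP⟩ = y := by
  constructor
  · rintro ⟨⟨a, hP⟩, ha, rfl⟩
    exact ⟨a, hP, ha, rfl⟩
  · rintro ⟨a, hP, ha, rfl⟩
    exact ⟨⟨a, hP⟩, ha, rfl⟩

theorem fx_im {A : Subgroup G} (hA : A ≤ P) {m : M} : Fx (R.im A) m ↔ ∀ a ∈ A, a * R.el m = R.el m * a := by
  constructor
  · intro h a ha
    have h1 := h _ (R.mem_im.2 ⟨a, hA ha, ha, rfl⟩)
    have h2 := R.smul ⟨a, hA ha⟩ m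
    rw [h1] at h2
    have h3 : R.el m = a * R.el m * a⁻¹ := h2
    calc a * R.el m = (a * R.el m * a⁻¹) * a := by group
      _ = R.el m * a := by rw [← h3]
  · intro h y hy
    obtain ⟨a, hP, ha, rfl⟩ := R.mem_im.1 hy
    apply R.inj
    rw [R.smul]
    change a * R.el m * a⁻¹ = R.el m
    rw [h a ha, mul_inv_cancel_right]

include R in
theorem card_M : Nat.card M = Nat.card V :=
  Nat.card_congr (Equiv.ofBijective (fun m => (⟨R.el m, R.mem m⟩ : V))
    ⟨fun a b h => R.inj (congrArg Subtype.val h), fun v => by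
      obtain ⟨m, hm⟩ := R.surj v v.2
      exact ⟨m, Subtype.ext hm⟩⟩)

/-- `|A^| |C_A(V)| = |A|` for the image `A^` of `A ≤ P`. -/
theorem card_im [Finite G] {A : Subgroup G} (hA : A ≤ P) :
    Nat.card (R.im A) * Nat.card ↥(A ⊓ centralizer (V : Set G)) = Nat.card A := by
  let φ : A →* Y := R.ac.comp (inclusion hA)
  have h1 : φ.range = R.im A := by
    ext y
    rw [R.mem_im]
    constructor
    · rintro ⟨a, rfl⟩
      exact ⟨a, hA a.2, a.2, rfl⟩
    · rintro ⟨a, hP, ha, rfl⟩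
      exact ⟨⟨a, ha⟩, rfl⟩
  have h2 : φ.ker = (A ⊓ centralizer (V : Set G)).subgroupOf A := by
    ext a
    rw [MonoidHom.mem_ker, mem_subgroupOf, mem_inf]
    have h3 : φ a = 1 ↔ (a : G) ∈ centralizer (V : Set G) := R.ac_eq_one (p := ⟨a, hA a.2⟩)
    rw [h3]
    exact ⟨fun h => ⟨a.2, h⟩, fun h => h.2⟩
  have h3 := φ.ker.card_mul_index
  rw [Subgroup.index_ker, h1, h2] at h3
  rw [← h3, mul_comm]
  congr 1
  exact (Nat.card_congr (subgroupOfEquivOfLe inf_le_left).toEquiv).symm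

variable [Module (ZMod 2) M]

open Classical in
/-- The form with kernel `E`. -/
noncomputable def frm (E : Subgroup G) : Du M :=
  if h : E.relIndex V = 2 then
    { toFun := fun m => if R.el m ∈ E then 0 else 1
      map_add' := fun a b => by
        rw [R.add, idx2 h (R.mem a) (R.mem b)]
        by_cases ha : R.el a ∈ E <;> by_cases hb : R.el b ∈ E <;> simp [ha, hb]
        exact Transv.one_add_one.symm
      map_smul' := fun c m => by
        rcases zmod_cases c with rfl | rfl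
        · simp [R.el_zero]
        · simp }
  else 0

open Classical in
theorem frm_zero {E : Subgroup G} (h : E.relIndex V = 2) {m : M} : R.frm E m = 0 ↔ R.el m ∈ E := by
  rw [frm, dif_pos h]
  change (if R.el m ∈ E then (0 : ZMod 2) else 1) = 0 ↔ _
  by_cases hm : R.el m ∈ E
  · simp [hm]
  · simp [hm]

theorem frm_one {E : Subgroup G} (h : E.relIndex V = 2) {m : M} : R.frm E m = 1 ↔ R.el m ∉ E := by
  rw [← R.frm_zero h]
  rcases zmod_cases (R.frm E m) with h1 | h1 <;> rw [h1] <;> decide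

theorem frm_ext {E E' : Subgroup G} (h : E.relIndex V = 2) (h' : E'.relIndex V = 2) (g : M → M)
    (H : ∀ m, R.el m ∈ E ↔ R.el (g m) ∈ E') (m : M) : R.frm E m = R.frm E' (g m) := by
  rcases zmod_cases (R.frm E' (g m)) with h1 | h1
  · rw [h1, R.frm_zero h, H, ← R.frm_zero h', h1]
  · rw [h1, R.frm_one h, H, ← R.frm_one h', h1]

end Rep

/-! ### The datum -/

section datum

variable {G : Type u} [Group G] [Finite G] {S : Sylow 2 G} {P : Subgroup G} (h : Cfg S P)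
  {Y M : Type u} [Group Y] [Finite Y] [AddCommGroup M] [Finite M] [Module (ZMod 2) M]
  [DistribMulAction Y M] {T : Sylow 2 Y} {Mx : Subgroup Y}
  (R : Rep (S : Subgroup G) P (zl (S : Subgroup G) P) Y M T Mx)
include h R

theorem noff_of (hoff : NoOff (S : Subgroup G) P) (A : Subgroup Y) (hA : A ≠ ⊥)
    (hc : ∀ a ∈ A, ∀ b ∈ A, a * b = b * a) (hs : ∀ a ∈ A, a * a = 1) :
    Nat.card A * Nat.card {v : M // Fx A v} < Nat.card M := by
  by_contra hcon
  rw [not_lt] at hcon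
  set A' : Subgroup G := (A.comap R.ac).map P.subtype with hA'
  have hAP : A' ≤ P := map_subtype_le _
  have hmem : ∀ (a : G) (ha : a ∈ P), a ∈ A' ↔ R.ac ⟨a, ha⟩ ∈ A := by
    intro a ha
    rw [hA']
    constructor
    · rintro ⟨b, hb, rfl⟩
      exact hb
    · intro h1
      exact ⟨⟨a, ha⟩, h1, rfl⟩
  have him : R.im A' = A := by
    ext y
    rw [R.mem_im]
    constructor
    · rintro ⟨a, hP, ha, rfl⟩
      exact (hmem a hP).1 ha
    · intro hy
      obtain ⟨p, rfl⟩ := R.acs y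
      exact ⟨p, p.2, (hmem p p.2).2 hy, rfl⟩
  refine hoff A' hAP ⟨⟨?_, ?_⟩, ?_, ?_⟩
  · intro a ha
    have h1 := hs _ ((hmem a (hAP ha)).1 ha)
    rw [← map_mul] at h1
    have h2 := R.ac_eq_one.1 h1
    rw [pow_two]
    exact h2
  · intro a ha b hb
    have h1 := hc _ ((hmem a (hAP ha)).1 ha) _ ((hmem b (hAP hb)).1 hb)
    have h2 : R.ac (⟨a, hAP ha⟩ * ⟨b, hAP hb⟩ * ⟨a, hAP ha⟩⁻¹ * ⟨b, hAP hb⟩⁻¹) = 1 := by
      rw [map_mul, map_mul, map_mul, h1, map_inv, map_inv]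
      group
    exact R.ac_eq_one.1 h2
  · intro h1
    apply hA
    rw [eq_bot_iff]
    intro y hy
    obtain ⟨p, rfl⟩ := R.acs y
    rw [mem_bot, R.ac_eq_one]
    exact h1 ((hmem p p.2).2 hy)
  · have h1 := R.card_im hAP
    rw [him] at h1
    rw [← R.card_M, ← h1]
    have h2 : Nat.card {v : M // Fx A v} = Nat.card ↥(zl (S : Subgroup G) P ⊓ centralizer (A' : Set G)) := by
      refine Nat.card_congr (Equiv.ofBijective
        (fun m => (⟨R.el m.1, R.mem m.1, ?_⟩ : ↥(zl (S : Subgroup G) P ⊓ centralizer (A' : Set G)))) ⟨?_, ?_⟩)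
      · have h3 : Fx (R.im A') m.1 := by rw [him]; exact m.2
        exact mem_centralizer_iff.2 fun a ha => (R.fx_im hAP).1 h3 a ha
      · intro a b hab
        exact Subtype.ext (R.inj (Subtype.ext_iff.1 hab))
      · rintro ⟨v, hv, hvA⟩
        obtain ⟨m, rfl⟩ := R.surj v hv
        refine ⟨⟨m, ?_⟩, rfl⟩
        rw [← him, R.fx_im hAP]
        exact fun a ha => mem_centralizer_iff.1 hvA a ha
    rw [← h2]
    calc Nat.card M * Nat.card ↥(A' ⊓ centralizer (zl (S : Subgroup G) P : Set G))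
        ≤ (Nat.card A * Nat.card {v : M // Fx A v}) *
          Nat.card ↥(A' ⊓ centralizer (zl (S : Subgroup G) P : Set G)) := Nat.mul_le_mul_right _ hcon
      _ = Nat.card A * Nat.card ↥(A' ⊓ centralizer (zl (S : Subgroup G) P : Set G)) *
          Nat.card {v : M // Fx A v} := by ring

theorem span_of {z : G} (hz : Zd S z) {m : M} (hm : R.el m = z) :
    Submodule.span (ZMod 2) (Set.range fun g : Y => g • m) = ⊤ := by
  rw [eq_top_iff]
  intro v _
  set W := Submodule.span (ZMod 2) (Set.range fun g : Y => g • m) with hW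
  let K : Subgroup G :=
    { carrier := {x | ∃ w ∈ W, R.el w = x}
      one_mem' := ⟨0, W.zero_mem, R.el_zero⟩
      mul_mem' := by
        rintro _ _ ⟨a, ha, rfl⟩ ⟨b, hb, rfl⟩
        exact ⟨a + b, W.add_mem ha hb, R.add a b⟩
      inv_mem' := by
        rintro _ ⟨a, ha, rfl⟩
        exact ⟨a, ha, (R.el_inv a).symm⟩ }
  have h1 : zl (S : Subgroup G) P ≤ K := by
    refine FFBr.zl_le_of fun p hp x hx => ?_
    rcases hz.eq x hx with rfl | rfl
    · rw [mul_one, mul_inv_cancel]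
      exact K.one_mem
    · refine ⟨R.ac ⟨p, hp⟩ • m, Submodule.subset_span ⟨_, rfl⟩, ?_⟩
      rw [R.smul, hm]
  obtain ⟨w, hw, hwv⟩ := h1 (R.mem v)
  rw [← R.inj hwv]
  exact hw

/-- The forms `f x`, `x ∈ V`. -/
noncomputable abbrev ff (x : M) : Du M := R.frm (Ex (zl (S : Subgroup G) P) (R.el x))

/-- The groups `Q x`. -/
abbrev QQ (x : M) : Subgroup Y := R.im (Qx (R.el x))

theorem QQ_smul (g : Y) (x : M) : ∀ a ∈ QQ R x, g * a * g⁻¹ ∈ QQ R (g • x) := by
  intro a ha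
  obtain ⟨p, rfl⟩ := R.acs g
  obtain ⟨b, hP, hb, rfl⟩ := R.mem_im.1 ha
  refine R.mem_im.2 ⟨p * b * (p : G)⁻¹, mul_mem (mul_mem p.2 hP) (inv_mem p.2), ?_, ?_⟩
  · rw [R.smul, Qx_conj, mem_conj]
    have e : (p : G)⁻¹ * (p * b * (p : G)⁻¹) * p = b := by group
    rw [e]
    exact hb
  · rw [← map_inv, ← map_mul, ← map_mul]
    rfl

variable {z : G} (hz : Zd S z) {m : M} (hm : R.el m = z)
  (hA : (Ex (zl (S : Subgroup G) P) z).relIndex (zl (S : Subgroup G) P) = 2)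
include hz hm hA

theorem el_orbit {x : M} (hx : x ∈ MulAction.orbit Y m) : ∃ p ∈ P, R.el x = p * z * p⁻¹ := by
  obtain ⟨g, rfl⟩ := hx
  obtain ⟨p, rfl⟩ := R.acs g
  refine ⟨p, p.2, ?_⟩
  change R.el (R.ac p • m) = _
  rw [R.smul, hm]

theorem relIndex_orbit {x : M} (hx : x ∈ MulAction.orbit Y m) :
    (Ex (zl (S : Subgroup G) P) (R.el x)).relIndex (zl (S : Subgroup G) P) = 2 := by
  obtain ⟨p, hp, h1⟩ := el_orbit h R hz hm hA hx
  rw [h1]
  exact relIndex_Ex h hz hA hp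

theorem ff_smul (g : Y) (x : M) (hx : x ∈ MulAction.orbit Y m) : ff R (g • x) = dua g (ff R x) := by
  have h1 := relIndex_orbit h R hz hm hA hx
  have hx' : g • x ∈ MulAction.orbit Y m := by
    obtain ⟨k, rfl⟩ := hx
    exact ⟨g * k, mul_smul _ _ _⟩
  have h2 := relIndex_orbit h R hz hm hA hx'
  refine LinearMap.ext fun v => ?_
  rw [dua_apply]
  refine R.frm_ext h2 h1 (fun v => g⁻¹ • v) (fun v => ?_) v
  obtain ⟨p, rfl⟩ := R.acs g
  rw [R.smul, Ex_conj (Cfg.P_norm_V S P) p.2, mem_conj, ← map_inv, R.smul]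
  rw [coe_inv, inv_inv]

omit hz hm hA in
/-- `C_V(F) = D` -/
theorem fix_eq (hoff : NoOff (S : Subgroup G) P) {E D F : Subgroup G} {v : G}
    (N : Near (zl (S : Subgroup G) P) E D F v) (hFP : F ≤ P) (hne : D ≠ E)
    (hcard : Nat.card F = Nat.card E) (hE2 : E.relIndex (zl (S : Subgroup G) P) = 2) :
    R.im F ≠ ⊥ ∧ ∀ w : M, Fx (R.im F) w → R.el w ∈ D := by
  have hB : R.im F ≠ ⊥ := by
    intro hb
    have h1 : F ≤ centralizer (zl (S : Subgroup G) P : Set G) := by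
      intro f hf
      have h2 : R.ac ⟨f, hFP hf⟩ ∈ R.im F := R.mem_im.2 ⟨f, hFP hf, hf, rfl⟩
      rw [hb, mem_bot, R.ac_eq_one] at h2
      exact h2
    have h2 : F = D := by
      have h3 := N.F_inf_cent
      rwa [inf_eq_left.2 h1] at h3
    have h3 : D.relIndex E = 1 := by
      rw [← N.card, ← h2, relIndex_self]
    exact hne (le_antisymm N.DE (relIndex_eq_one.1 h3))
  refine ⟨hB, ?_⟩
  have h1 := noff_of h R hoff (R.im F) hB ?_ ?_
  · -- the count
    have h2 := R.card_im hFP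
    rw [N.F_inf_cent, hcard] at h2
    have h3 : Nat.card M = 2 * Nat.card E := by
      have h4 := relIndex_mul_relIndex ⊥ E (zl (S : Subgroup G) P) bot_le N.EV
      rw [relIndex_bot_left, relIndex_bot_left, hE2] at h4
      rw [R.card_M, ← h4, mul_comm]
    rw [h3, ← h2] at h1
    set C : Subgroup G := zl (S : Subgroup G) P ⊓ centralizer (F : Set G) with hC
    have h4 : Nat.card {v : M // Fx (R.im F) v} = Nat.card C := by
      refine Nat.card_congr (Equiv.ofBijective (fun m => (⟨R.el m.1, R.mem m.1, ?_⟩ : C)) ⟨?_, ?_⟩)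
      · exact mem_centralizer_iff.2 fun a ha => (R.fx_im hFP).1 m.2 a ha
      · intro a b hab
        exact Subtype.ext (R.inj (Subtype.ext_iff.1 hab))
      · rintro ⟨v, hv, hvA⟩
        obtain ⟨m, rfl⟩ := R.surj v hv
        exact ⟨⟨m, (R.fx_im hFP).2 fun a ha => mem_centralizer_iff.1 hvA a ha⟩, rfl⟩
    have hDC : D ≤ C := le_inf (N.DE.trans N.EV) fun d hd =>
      mem_centralizer_iff.2 fun f hf => (N.Dcent hd hf).symm
    have h5 := relIndex_mul_relIndex ⊥ D C bot_le hDC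
    rw [relIndex_bot_left, relIndex_bot_left] at h5
    rw [h4, ← h5] at h1
    have h6 : 0 < Nat.card (R.im F) := Nat.card_pos
    have h7 : 0 < Nat.card D := Nat.card_pos
    have h8 : D.relIndex C < 2 := by
      by_contra h9
      rw [not_lt] at h9
      have : 2 * (Nat.card (R.im F) * Nat.card D) ≤ Nat.card (R.im F) * (Nat.card D * D.relIndex C) := by
        calc 2 * (Nat.card (R.im F) * Nat.card D) = Nat.card (R.im F) * (Nat.card D * 2) := by ring
          _ ≤ _ := Nat.mul_le_mul_left _ (Nat.mul_le_mul_left _ h9)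
      omega
    have h9 : D.relIndex C ≠ 0 := by
      intro h9
      rw [h9, mul_zero] at h5
      have : 0 < Nat.card C := Nat.card_pos
      omega
    have h10 : D.relIndex C = 1 := by omega
    intro w hw
    exact relIndex_eq_one.1 h10 ⟨R.mem w, mem_centralizer_iff.2 fun a ha => (R.fx_im hFP).1 hw a ha⟩
  · intro a ha b hb
    obtain ⟨a', hP, ha', rfl⟩ := R.mem_im.1 ha
    obtain ⟨b', hP', hb', rfl⟩ := R.mem_im.1 hb
    rw [← map_mul, ← map_mul]
    congr 1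
    exact Subtype.ext (comm_of_le_centralizer N.Fcomm ha' hb')
  · intro a ha
    obtain ⟨a', hP, ha', rfl⟩ := R.mem_im.1 ha
    rw [← map_mul]
    have h2 : (⟨a', hP⟩ : P) * ⟨a', hP⟩ = 1 := Subtype.ext (by
      have := N.Fsq a' ha'
      rwa [pow_two] at this)
    rw [h2, map_one]

omit hz hm hA in
/-- `NB` from `Near`. -/
theorem nb_of {E D F : Subgroup G} {v : G} (N : Near (zl (S : Subgroup G) P) E D F v) (hv : v ∉ E) (hFP : F ≤ P)
    (hE2 : E.relIndex (zl (S : Subgroup G) P) = 2) (hB : R.im F ≠ ⊥)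
    (hfix : ∀ w : M, Fx (R.im F) w → R.el w ∈ D) : NB (R.frm E) (R.im F) := by
  have hDfx : ∀ w : M, R.el w ∈ D → Fx (R.im F) w := fun w hw =>
    (R.fx_im hFP).2 fun a ha => (N.Dcent hw ha).symm
  -- every `w ∉ E` is `v e`
  have hve : ∀ w : M, R.frm E w = 1 → ∃ e ∈ E, R.el w = v * e := by
    intro w hw
    rw [R.frm_one hE2] at hw
    refine ⟨v⁻¹ * R.el w, ?_, by group⟩
    rw [idx2 hE2 (inv_mem N.vV) (R.mem w)]
    exact ⟨fun h1 => absurd (inv_mem_iff.1 h1) hv, fun h1 => absurd h1 hw⟩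
  have hcm : ∀ (f : G) (hf : f ∈ F) (w : M),
      R.el (cm (R.ac ⟨f, hFP hf⟩) w) = NOne.NearFF.c (R.el w) f := by
    intro f hf w
    rw [R.el_cm]
    have h1 := N.c_memV (R.mem w) hf
    have h2 := N.inv_V h1
    calc f * R.el w * f⁻¹ * R.el w = f * R.el w * f⁻¹ * (R.el w)⁻¹ := by rw [R.el_inv]
      _ = (NOne.NearFF.c (R.el w) f)⁻¹ := by rw [NOne.NearFF.c_def]; group
      _ = NOne.NearFF.c (R.el w) f := h2
  refine ⟨?_, ?_, hB, ?_, ?_, ?_, ?_⟩
  · intro a ha b hb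
    obtain ⟨a', hP, ha', rfl⟩ := R.mem_im.1 ha
    obtain ⟨b', hP', hb', rfl⟩ := R.mem_im.1 hb
    rw [← map_mul, ← map_mul]
    congr 1
    exact Subtype.ext (comm_of_le_centralizer N.Fcomm ha' hb')
  · intro a ha
    obtain ⟨a', hP, ha', rfl⟩ := R.mem_im.1 ha
    rw [← map_mul]
    have h2 : (⟨a', hP⟩ : P) * ⟨a', hP⟩ = 1 := Subtype.ext (by
      have := N.Fsq a' ha'
      rwa [pow_two] at this)
    rw [h2, map_one]
  · intro a ha w
    obtain ⟨f, hP, hf, rfl⟩ := R.mem_im.1 ha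
    refine (R.frm_ext hE2 hE2 (fun w => R.ac ⟨f, hP⟩ • w) (fun w => ?_) w).symm
    have h1 := N.F_norm_E hf
    rw [R.smul]
    exact mem_normalizer_iff.1 h1 (R.el w)
  · intro e he b hb
    obtain ⟨f, hP, hf, rfl⟩ := R.mem_im.1 hb
    rw [R.frm_zero hE2] at he
    apply hDfx
    rw [hcm f hf]
    exact N.c_memD he hf
  · intro w hw b hb hfx
    obtain ⟨f, hP, hf, rfl⟩ := R.mem_im.1 hb
    have h1 := hfix _ hfx
    rw [hcm f hf] at h1
    obtain ⟨e, he, hwe⟩ := hve w hw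
    rw [hwe] at h1
    have h2 := (N.mul_right he).inj f hf h1
    rw [R.ac_eq_one]
    exact N.Vcomm (N.DV h2)
  · intro w e hw he
    rw [R.frm_zero hE2] at he
    obtain ⟨e', he', hwe⟩ := hve w hw
    obtain ⟨f, hf, h1⟩ := (N.mul_right he').surj he
    refine ⟨_, R.mem_im.2 ⟨f, hFP hf, hf, rfl⟩, ?_⟩
    apply hDfx
    rw [R.add, hcm f hf, hwe]
    rwa [R.el_inv] at h1

/-- **The good `B`.** -/
theorem exists_gd (hoff : NoOff (S : Subgroup G) P) :
    ∃ B : Subgroup Y, Gd m (ff R) (QQ R) m B := by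
  obtain ⟨v, hv, hvQ⟩ := h.exists_v
  obtain ⟨g, hg, hF, hX, -⟩ := h.exists_near hv hvQ
  rw [Q_eq h hz] at hvQ hF hX
  rw [hz.CC, mem_centralizer_singleton_iff] at hg
  have hgQ : MulAut.conj g • Qx z = Qx z := hF.fr.gQ
  have hQP : Qx z ≤ P := by
    have := Qx_le_P h hz (one_mem P)
    rwa [one_mul, inv_one, mul_one] at this
  have hFQ : MulAut.conj g • (zl (S : Subgroup G) P ⊓ Qx z) ≤ Qx z := by
    calc MulAut.conj g • (zl (S : Subgroup G) P ⊓ Qx z) ≤ MulAut.conj g • Qx z := conj_le_iff.2 inf_le_right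
      _ = Qx z := hgQ
  have hcard : Nat.card ↥(MulAut.conj g • (zl (S : Subgroup G) P ⊓ Qx z)) =
      Nat.card ↥(zl (S : Subgroup G) P ⊓ Qx z) :=
    Nat.card_congr (equivSMul (MulAut.conj g) _).symm.toEquiv
  have hvE : v ∉ zl (S : Subgroup G) P ⊓ Qx z := fun h1 => hvQ h1.2
  obtain ⟨hB, hfix⟩ := fix_eq h R hoff hF.near (hFQ.trans hQP) hF.ne hcard hA
  have hnb := nb_of h R hF.near hvE (hFQ.trans hQP) hA hB hfix
  have hff : ff R m = R.frm (zl (S : Subgroup G) P ⊓ Qx z) := by rw [ff, hm]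
  refine ⟨R.im (MulAut.conj g • (zl (S : Subgroup G) P ⊓ Qx z)), ?_, ?_, ?_⟩
  · refine (R.fx_im (hFQ.trans hQP)).2 fun a ha => ?_
    rw [hm]
    exact mem_centralizer_singleton_iff.1 (o2_le _ (hFQ ha))
  · rw [hff]; exact hnb
  · intro y hy hyB
    obtain ⟨p, hp, hy1⟩ := el_orbit h R hz hm hA hy
    have hyD := hfix y hyB
    have hst : Ex (zl (S : Subgroup G) P) (R.el y) = Ex (zl (S : Subgroup G) P) z := by
      rw [hy1]
      refine star h hz hA hF hv hX hp ?_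
      rw [← hy1]; exact hyD
    have hgX : g ∈ zl (S : Subgroup G) P ⊔ MulAut.conj g • zl (S : Subgroup G) P :=
      sup_le_sup (NOne.NearFF.V1_le hv) (conj_le_iff.2 (NOne.NearFF.V1_le hv)) hF.fr.gX
    have hgy : g * R.el y = R.el y * g := hF.cent g hgX _ hyD
    have hgQy : MulAut.conj g • Qx (R.el y) = Qx (R.el y) := by
      rw [← Qx_conj, hgy, mul_inv_cancel_right]
    have hQyP : Qx (R.el y) ≤ P := by rw [hy1]; exact Qx_le_P h hz hp
    have hFy : MulAut.conj g • (zl (S : Subgroup G) P ⊓ Qx z) =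
        MulAut.conj g • zl (S : Subgroup G) P ⊓ Qx (R.el y) := by
      have h1 : zl (S : Subgroup G) P ⊓ Qx z = zl (S : Subgroup G) P ⊓ Qx (R.el y) := hst.symm
      rw [h1, smul_inf, hgQy]
    refine ⟨?_, ?_, ?_⟩
    · rw [hff, ff]
      exact congrArg R.frm hst
    · exact map_mono (comap_mono (hFy.trans_le inf_le_right))
    · intro a ha
      obtain ⟨q, hP, hq, rfl⟩ := R.mem_im.1 ha
      -- `q` normalises `F`
      have hqV : q ∈ normalizer ((MulAut.conj g • zl (S : Subgroup G) P : Subgroup G) : Set G) := by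
        have h1 : q ∈ MulAut.conj g • Qx (R.el y) := by rw [hgQy]; exact hq
        rw [mem_conj] at h1
        have h2 := Cfg.P_norm_V S P (hQyP h1)
        rw [mem_normalizer_iff] at h2 ⊢
        intro x
        rw [mem_conj, mem_conj, h2]
        have e : g⁻¹ * q * g * (g⁻¹ * x * g) * (g⁻¹ * q * g)⁻¹ = g⁻¹ * (q * x * q⁻¹) * g := by group
        rw [e]
      have hqQ : q ∈ normalizer ((Qx (R.el y) : Subgroup G) : Set G) := le_normalizer hq
      have hqF : q ∈ normalizer ((MulAut.conj g • (zl (S : Subgroup G) P ⊓ Qx z) : Subgroup G) : Set G) := by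
        rw [hFy]
        rw [mem_normalizer_iff] at hqV hqQ ⊢
        intro x
        rw [mem_inf, mem_inf, hqV, hqQ]
      have key : ∀ b ∈ R.im (MulAut.conj g • (zl (S : Subgroup G) P ⊓ Qx z)), ∀ (q' : G) (hq' : q' ∈ P),
          q' ∈ normalizer ((MulAut.conj g • (zl (S : Subgroup G) P ⊓ Qx z) : Subgroup G) : Set G) →
          R.ac ⟨q', hq'⟩ * b * (R.ac ⟨q', hq'⟩)⁻¹ ∈ R.im (MulAut.conj g • (zl (S : Subgroup G) P ⊓ Qx z)) := by
        intro b hb q' hq' hn
        obtain ⟨f, hfP, hf, rfl⟩ := R.mem_im.1 hb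
        refine R.mem_im.2 ⟨q' * f * q'⁻¹, mul_mem (mul_mem hq' hfP) (inv_mem hq'),
          (mem_normalizer_iff.1 hn f).1 hf, ?_⟩
        rw [← map_inv, ← map_mul, ← map_mul]
        rfl
      rw [mem_normalizer_iff]
      intro b
      constructor
      · intro hb
        exact key b hb q hP hqF
      · intro hb
        have h1 := key _ hb q⁻¹ (inv_mem hP) (inv_mem hqF)
        have h2 : R.ac ⟨q⁻¹, inv_mem hP⟩ = (R.ac ⟨q, hP⟩)⁻¹ := by
          rw [← map_inv]; rfl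
        rw [h2] at h1
        have e : (R.ac ⟨q, hP⟩)⁻¹ * (R.ac ⟨q, hP⟩ * b * (R.ac ⟨q, hP⟩)⁻¹) * (R.ac ⟨q, hP⟩)⁻¹⁻¹ = b := by group
        rwa [e] at h1

/-- **The bridge**: the datum of (BT), `|V/E| = 2`, `|Z| = 2`. -/
theorem exists_dat (hoff : NoOff (S : Subgroup G) P) :
    ∃ BB : M → Set (Subgroup Y), Dat T Mx m (ff R) (QQ R) BB := by
  obtain ⟨B, hB⟩ := exists_gd h R hz hm hA hoff
  have hZ1 : z ∈ zl (S : Subgroup G) P := h.Z_le_V hz.mem
  refine ⟨_, dat_of (f := ff R) (Q := QQ R) R.faith R.TM R.Mne ?_ ?_ ?_ ?_ (span_of h R hz hm) (noff_of h R hoff)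
    (ff_smul h R hz hm hA) ?_ ?_ (fun g x _ => QQ_smul h R g x) ?_ ?_ hB⟩
  · intro K hK
    by_cases h1 : K = ⊤
    · exact Or.inr h1
    · exact Or.inl (R.max K hK h1)
  · rintro rfl
    exact hz.ne (hm.symm.trans R.el_zero)
  · intro t ht
    obtain ⟨s, hs, rfl⟩ := (R.mem_T t).1 ht
    apply R.inj
    rw [R.smul, hm]
    have h1 := (MinSimple.VModule.mem_zc.1 hz.mem).2.1 _ hs
    rw [h1, mul_inv_cancel_right]
  · intro w hw
    have h1 : R.el w ∈ zc (S : Subgroup G) := by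
      refine MinSimple.VModule.mem_zc.2 ⟨h.V_le_S (R.mem w), fun s hs => ?_, h.V_sq _ (R.mem w)⟩
      have h2 := hw _ ((R.mem_T _).2 ⟨⟨s, h.S_le hs⟩, hs, rfl⟩)
      have h3 := R.smul ⟨s, h.S_le hs⟩ w
      rw [h2] at h3
      have h4 : R.el w = s * R.el w * s⁻¹ := h3
      calc s * R.el w = (s * R.el w * s⁻¹) * s := by group
        _ = R.el w * s := by rw [← h4]
    rcases hz.eq _ h1 with h2 | h2
    · exact Or.inl (R.el_eq_one.1 h2)
    · exact Or.inr (R.inj (h2.trans hm.symm))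
  · change ff R m m = 0
    rw [ff, R.frm_zero (by rw [hm]; exact hA), hm]
    exact ⟨hZ1, by rw [← Q_eq h hz]; exact h.Z_le_Q hz.mem⟩
  · intro h1
    obtain ⟨v, hv, hvQ⟩ := h.exists_v
    obtain ⟨w, rfl⟩ := R.surj v hv
    have h2 : ff R m w = 0 := by rw [h1]; rfl
    rw [ff, R.frm_zero (by rw [hm]; exact hA), hm] at h2
    exact hvQ (by rw [Q_eq h hz]; exact h2.2)
  · have h1 : IsPGroup 2 (Qx (R.el m)) := by
      rw [hm, ← Q_eq h hz]
      exact S.isPGroup'.to_le h.Q_le_S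
    exact (h1.comap_subtype (K := P)).map _
  · intro a ha
    obtain ⟨q, hP, hq, rfl⟩ := R.mem_im.1 ha
    apply R.inj
    rw [R.smul]
    have h1 := mem_centralizer_singleton_iff.1 (o2_le _ hq)
    change q * R.el m * q⁻¹ = R.el m
    rw [h1, mul_inv_cancel_right]

end datum

end Cfsg.Agent.Omega.NO1

end

section


/-!
# N1, (BT) with `|V / E| = 2`: from the abstract statement to `Ty` (project OMEGA, assembler helper406)

* `Rep.minus2` : five vectors with sum 0, `Y` inducing at least `A₅` on them, give `Minus2`;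
* `btTwo_of : BTAbs → BTZ → BTTwo`.
-/

set_option autoImplicit false
set_option linter.unusedSectionVars false

namespace Cfsg.Agent.Omega.NO1

open Subgroup Cfsg Cfsg.Agent.ZN Cfsg.Agent.Omega.MinPar Cfsg.Agent.Omega.Frame
open Cfsg.Agent.Omega.Transv Cfsg.Agent.Omega.NearFF TwoG

universe u

section

variable {G : Type u} [Group G] [Finite G] {S : Sylow 2 G} {P : Subgroup G}
  {Y M : Type u} [Group Y] [AddCommGroup M]
  [DistribMulAction Y M] {T : Sylow 2 Y} {Mx : Subgroup Y}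
  (R : Rep (S : Subgroup G) P (zl (S : Subgroup G) P) Y M T Mx)
include R

/-- Five vectors with sum 0. -/
theorem Rep.minus2 {z : G} (hz : Zd S z) {m : M} (hm : R.el m = z) {w : Fin 5 → M} (hinj : Function.Injective w)
    (h0 : w 0 = m) (hr : Set.range w = MulAction.orbit Y m) (hs : w 0 + w 1 + w 2 + w 3 + w 4 = 0)
    (hp : ∀ g : Y, ∃ σ : Equiv.Perm (Fin 5), ∀ i, g • w i = w (σ i))
    (ha : ∀ σ ∈ alternatingGroup (Fin 5), ∃ g : Y, ∀ i, g • w i = w (σ i)) :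
    Minus2 (S : Subgroup G) P fun i => R.el (w i) where
  inj := R.inj.comp hinj
  ne_one i h1 := by
    have h2 := R.el_eq_one.1 h1
    have h3 : w i ∈ MulAction.orbit Y m := by rw [← hr]; exact ⟨i, rfl⟩
    obtain ⟨g, hg⟩ := h3
    have h4 : g • m = 0 := hg.trans h2
    have h5 : m = 0 := (smul_eq_zero_iff_eq g).1 h4
    apply hz.ne
    rw [← hm, h5, R.el_zero]
  sq i := R.el_sq _
  comm i j := by rw [← R.add, ← R.add, add_comm]
  prod := by rw [← R.add, ← R.add, ← R.add, ← R.add, hs, R.el_zero]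
  gen := by
    apply le_antisymm
    · rw [closure_le]
      rintro _ ⟨i, rfl⟩
      exact R.mem _
    · refine FFBr.zl_le_of fun p hp x hx => ?_
      rcases hz.eq x hx with rfl | rfl
      · rw [mul_one, mul_inv_cancel]
        exact one_mem _
      · have h1 : R.ac ⟨p, hp⟩ • m ∈ Set.range w := by rw [hr]; exact ⟨_, rfl⟩
        obtain ⟨i, hi⟩ := h1
        refine subset_closure ⟨i, ?_⟩
        change R.el (w i) = _
        rw [hi, R.smul, hm]
  Z := by
    rw [h0, hm]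
    apply le_antisymm
    · intro x hx
      rcases hz.eq x hx with rfl | rfl
      · exact one_mem _
      · exact mem_zpowers _
    · exact zpowers_le.2 hz.mem
  perm p hP := by
    obtain ⟨σ, hσ⟩ := hp (R.ac ⟨p, hP⟩)
    refine ⟨σ, fun i => ?_⟩
    have h1 := R.smul ⟨p, hP⟩ (w i)
    rw [hσ] at h1
    exact h1.symm
  alt σ hσ := by
    obtain ⟨g, hg⟩ := ha σ hσ
    obtain ⟨p, rfl⟩ := R.acs g
    refine ⟨p, p.2, fun i => ?_⟩
    have h1 := R.smul p (w i)
    rw [hg] at h1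
    exact h1.symm

end

/-- `EE` in terms of `z`. -/
theorem EE_of_Zd {G : Type u} [Group G] [Finite G] {S : Sylow 2 G} {P : Subgroup G} {z : G} (hz : Zd S z) :
    EE (S : Subgroup G) P = Ex (zl (S : Subgroup G) P) z := by
  rw [NO1.EE, hz.CC]

/-- **`|Z| ≥ 4`, `|V : V ∩ O₂(C_G(Z₀))| = 2` for all `1 ≠ Z₀ ≤ Z`** (then (+) for the union of the orbits of `Z#`
gives a contradiction). -/
def BTZ : Prop :=
  ∀ (G : Type u) [Group G] [Finite G] (S : Sylow 2 G) (P : Subgroup G), Cfg S P →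
    NoOff (S : Subgroup G) P → Nat.card (zc (S : Subgroup G)) ≠ 2 →
    (∀ Z₀ : Subgroup G, Z₀ ≤ zc (S : Subgroup G) → Z₀ ≠ ⊥ →
      (EZ (S : Subgroup G) P Z₀).relIndex (zl (S : Subgroup G) P) = 2) → Ty (S : Subgroup G) P

theorem btTwo_of (h1 : Two.BTAbs.{u}) (h2 : BTZ.{u}) : BTTwo.{u} := by
  intro G _ _ S P h hoff hA
  by_cases hZ : Nat.card (zc (S : Subgroup G)) = 2
  · obtain ⟨z, hz1, hz2, hz3⟩ := exists_z (S := S) hZ
    have hz : Zd S z := ⟨hz1, hz2, hz3⟩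
    have hne : zc (S : Subgroup G) ≠ ⊥ := fun h3 => hz2 (by rw [h3, mem_bot] at hz1; exact hz1)
    have hE : (Ex (zl (S : Subgroup G) P) z).relIndex (zl (S : Subgroup G) P) = 2 := by
      rw [← EE_of_Zd hz]
      exact hA _ le_rfl hne
    obtain ⟨Y, M, _, _, _, _, _, T, Mx, ⟨R⟩⟩ := h.exists_rep
    let _ : Module (ZMod 2) M := AddCommGroup.zmodModule fun m => by rw [two_nsmul]; exact R.two m
    obtain ⟨m, hm⟩ := R.surj z (h.Z_le_V hz.mem)
    obtain ⟨BB, hD⟩ := exists_dat h R hz hm hE hoff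
    obtain ⟨w, w1, w2, w3, w4, w5, w6⟩ := PlusFam.five' hD (h1 Y M T Mx m _ _ BB hD)
    exact Ty.minus2 _ (R.minus2 hz hm w1 w2 w3 w4 w5 w6)
  · exact h2 G S P h hoff hZ hA

end Cfsg.Agent.Omega.NO1

end

end

-- merged: Cfsg.Agent.Mrg.Omega.NO1.WRF.SingleFam
section

section


/-!
# THEOREM WRF (bb OMEGA #16078), step (4): `|O| = 1` is impossible

`V = ⊕ Vf i`, permuted transitively by `P`, `W` a 2-subgroup of `P` which acts nontrivially on `V` and
centralises all `Vf j`, `j ≠ i₀`; these and `V ∩ Z` lie in `FF`: then `V ≤ O₂(C_G(FF))` (`single_fam`).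
-/

set_option autoImplicit false
set_option linter.unusedSectionVars false

namespace Cfsg.Agent.Omega.NO1.WRF.Single

open Subgroup Cfsg Cfsg.Agent.ZN Cfsg.Agent.ZN.ChoiceBase Cfsg.Agent.Omega.MinPar Cfsg.Agent.Omega.Frame
open Cfsg.Agent.Omega.NO1

universe u

variable {G : Type u} [Group G]

/-! ### Sums of a family of subgroups of an abelian group -/

theorem exists_mul_of_mem_sup {V A B : Subgroup G} (hVc : V ≤ centralizer (V : Set G)) (hA : A ≤ V) (hB : B ≤ V)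
    {x : G} (hx : x ∈ A ⊔ B) : ∃ a ∈ A, ∃ b ∈ B, a * b = x := by
  have hAB : A ≤ normalizer (B : Set G) :=
    (hA.trans (hVc.trans (centralizer_le hB))).trans (centralizer_le_normalizer _)
  have h1 : x ∈ ((A ⊔ B : Subgroup G) : Set G) := hx
  rw [coe_mul_of_left_le_normalizer_right _ _ hAB] at h1
  exact h1

variable {ι : Type*}

/-- the sum over `I` -/
def Vs (Vf : ι → Subgroup G) (I : Set ι) : Subgroup G := ⨆ i ∈ I, Vf i

variable {Vf : ι → Subgroup G}

theorem le_Vs {I : Set ι} {i : ι} (hi : i ∈ I) : Vf i ≤ Vs Vf I := le_biSup Vf hi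

theorem Vs_le {I : Set ι} {X : Subgroup G} (h : ∀ i ∈ I, Vf i ≤ X) : Vs Vf I ≤ X := iSup₂_le h

theorem Vs_insert (i : ι) (I : Set ι) : Vs Vf (insert i I) = Vf i ⊔ Vs Vf I := by
  rw [Vs, iSup_insert, Vs]

/-- the sums over disjoint sets are disjoint -/
theorem Vs_inf_Vs [Finite ι] {V : Subgroup G} (hVc : V ≤ centralizer (V : Set G)) (hle : ∀ i, Vf i ≤ V)
    (hind : iSupIndep Vf) {I J : Set ι} (h : Disjoint I J) : Vs Vf I ⊓ Vs Vf J = ⊥ := by
  have key : ∀ I : Set ι, I.Finite → ∀ J : Set ι, Disjoint I J → Vs Vf I ⊓ Vs Vf J = ⊥ := by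
    intro I hI
    induction I, hI using Set.Finite.induction_on with
    | empty =>
      intro J _
      rw [eq_bot_iff]
      refine inf_le_left.trans (Vs_le fun i hi => absurd hi (Set.notMem_empty i))
    | @insert i I hi _ ih =>
      intro J hJ
      rw [Set.disjoint_insert_left] at hJ
      rw [eq_bot_iff]
      rintro x ⟨hx1, hx2⟩
      rw [Vs_insert] at hx1
      obtain ⟨v, hv, y, hy, rfl⟩ := exists_mul_of_mem_sup hVc (hle i) (Vs_le fun j _ => hle j) hx1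
      have h1 : v ∈ ⨆ (j) (_ : j ≠ i), Vf j := by
        have e : v = v * y * y⁻¹ := by group
        rw [e]
        have hle1 : ∀ K : Set ι, i ∉ K → Vs Vf K ≤ ⨆ (j) (_ : j ≠ i), Vf j := by
          intro K hK
          refine Vs_le fun j hj => ?_
          exact le_biSup Vf (show j ≠ i from fun h => hK (h ▸ hj))
        exact mul_mem (hle1 J hJ.1 hx2) (inv_mem (hle1 I hi hy))
      have h2 : v = 1 := mem_bot.mp ((hind i).le_bot ⟨hv, h1⟩)
      subst h2
      have h3 := ih J hJ.2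
      rw [one_mul] at hx2 ⊢
      rw [← h3]
      exact ⟨hy, hx2⟩
  exact key I (Set.toFinite I) J h

theorem Vs_sup_Vs {V : Subgroup G} (hsup : ⨆ i, Vf i = V) {I J : Set ι} (h : ∀ i, i ∈ I ∨ i ∈ J) :
    Vs Vf I ⊔ Vs Vf J = V := by
  rw [← hsup]
  refine le_antisymm (sup_le (Vs_le fun i _ => le_iSup Vf i) (Vs_le fun i _ => le_iSup Vf i)) (iSup_le fun i => ?_)
  rcases h i with h | h
  · exact (le_Vs h).trans le_sup_left
  · exact (le_Vs h).trans le_sup_right

theorem cj_Vs_le {I J : Set ι} {x : G} (h : ∀ i ∈ I, ∃ j ∈ J, cj x (Vf i) = Vf j) : cj x (Vs Vf I) ≤ Vs Vf J := by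
  rw [cj, Subgroup.map_le_iff_le_comap]
  refine Vs_le fun i hi => ?_
  rw [← Subgroup.map_le_iff_le_comap]
  obtain ⟨j, hj, e⟩ := h i hi
  exact e.le.trans (le_Vs hj)

variable [Finite G]

/-- **(4)** : `|O| = 1` is impossible. -/
theorem single_fam [Finite ι] [Nontrivial ι] {S : Sylow 2 G} {P V W FF : Subgroup G} (h : Sit S P V)
    (hind : iSupIndep Vf) (hsup : ⨆ i, Vf i = V)
    (hperm : ∀ p ∈ P, ∀ i, ∃ j, cj p (Vf i) = Vf j) (htr : ∀ i j, ∃ p ∈ P, cj p (Vf i) = Vf j)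
    (hWP : W ≤ P) (hW2 : IsPGroup 2 W) (hWV : ¬ W ≤ centralizer (V : Set G)) {i₀ : ι}
    (hWj : ∀ j, j ≠ i₀ → W ≤ centralizer (Vf j : Set G))
    (hFV : V ≤ centralizer (FF : Set G)) (hFc : FF ≤ centralizer (FF : Set G))
    (hF2 : IsPGroup 2 FF) (hVF : ∀ j, j ≠ i₀ → Vf j ≤ FF) (hZF : V ⊓ zc (S : Subgroup G) ≤ FF) :
    V ≤ o2 (centralizer (FF : Set G)) := by
  classical
  have hle : ∀ i, Vf i ≤ V := fun i => hsup ▸ le_iSup Vf i
  -- no `Vf i` is trivial
  have hne0 : Vf i₀ ≠ ⊥ := by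
    intro h0
    apply hWV
    rw [← hsup]
    intro w hw
    have : ⨆ i, Vf i ≤ centralizer ({w} : Set G) := by
      refine iSup_le fun i => ?_
      by_cases hi : i = i₀
      · subst hi; rw [h0]; exact bot_le
      · intro v hv
        rw [mem_centralizer_singleton_iff]
        exact (mem_centralizer_iff.mp (hWj i hi hw) v hv)
    rw [mem_centralizer_iff]
    intro v hv
    exact (mem_centralizer_singleton_iff.mp (this hv))
  have hne : ∀ i, Vf i ≠ ⊥ := by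
    intro i hi
    obtain ⟨p, -, hp⟩ := htr i i₀
    apply hne0
    rw [← hp, hi, cj, Subgroup.map_bot]
  have hinj : Function.Injective Vf := hind.injective hne
  -- the action on the indices
  have hcjm : ∀ (p q : G) (i j k : ι), cj p (Vf i) = Vf j → cj q (Vf j) = Vf k → cj (q * p) (Vf i) = Vf k := by
    intro p q i j k h1 h2
    rw [← cj_cj, h1, h2]
  have hcji : ∀ (p : G) (i j : ι), cj p (Vf i) = Vf j → cj p⁻¹ (Vf j) = Vf i := by
    intro p i j h1
    rw [← h1, cj_cj, inv_mul_cancel, cj_one]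
  -- `K`
  set K : Subgroup G := (⨆ p ∈ P, cj p W) ⊔ (P ⊓ centralizer (V : Set G)) with hK
  have hKP : K ≤ P := by
    refine sup_le (iSup₂_le fun p hp => ?_) inf_le_left
    rintro _ ⟨w, hw, rfl⟩
    exact mul_mem (mul_mem hp (hWP hw)) (inv_mem hp)
  have hPK : P ≤ normalizer (K : Set G) := by
    intro x hx
    refine mem_normalizer_of_cj_le ?_
    rw [hK, cj, Subgroup.map_sup]
    refine sup_le ?_ ?_
    · rw [Subgroup.map_le_iff_le_comap]
      refine le_trans ?_ (Subgroup.comap_mono (le_sup_left :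
        (⨆ p ∈ P, cj p W) ≤ (⨆ p ∈ P, cj p W) ⊔ (P ⊓ centralizer (V : Set G))))
      refine iSup₂_le fun p hp => ?_
      rw [← Subgroup.map_le_iff_le_comap]
      change cj x (cj p W) ≤ _
      rw [cj_cj]
      exact le_biSup (fun p => cj p W) (mul_mem hx hp)
    · refine le_trans ?_ le_sup_right
      change cj x _ ≤ _
      rw [cj_inf, cj_eq_of_mem_normalizer (le_normalizer hx), cj_centralizer,
        cj_eq_of_mem_normalizer (h.norm hx)]
  -- `W` fixes `i₀`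
  have hcen : ∀ {w : G} {i : ι}, w ∈ centralizer (Vf i : Set G) → cj w (Vf i) = Vf i := fun hw =>
    cj_eq_of_mem_normalizer (centralizer_le_normalizer _ hw)
  have hWi : ∀ w ∈ W, ∀ i, cj w (Vf i) = Vf i := by
    intro w hw i
    by_cases hi : i = i₀
    · subst hi
      obtain ⟨j, hj⟩ := hperm w (hWP hw) i
      by_cases hji : j = i
      · rw [hj, hji]
      · exfalso
        have h1 := hcji w i j hj
        have h2 := hcen (inv_mem (hWj j hji hw))
        rw [h1] at h2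
        exact hji (hinj h2).symm
    · exact hcen (hWj i hi hw)
  -- the conjugates of `W`
  have hWp : ∀ p ∈ P, ∃ i₁, cj p (Vf i₀) = Vf i₁ ∧ ∀ j, j ≠ i₁ → cj p W ≤ centralizer (Vf j : Set G) := by
    intro p hp
    obtain ⟨i₁, hi₁⟩ := hperm p hp i₀
    refine ⟨i₁, hi₁, fun j hj => ?_⟩
    obtain ⟨i, hi⟩ := hperm p⁻¹ (inv_mem hp) j
    have h1 : cj p (Vf i) = Vf j := by
      have := hcji p⁻¹ j i hi
      rwa [inv_inv] at this
    have h2 : i ≠ i₀ := by
      rintro rfl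
      rw [hi₁] at h1
      exact hj (hinj h1).symm
    rw [← h1, ← cj_centralizer]
    exact cj_mono p (hWj i h2)
  have hKi : ∀ k ∈ K, ∀ i, cj k (Vf i) = Vf i := by
    have h1 : K ≤ ⨅ i, normalizer (Vf i : Set G) := by
      refine sup_le (iSup₂_le fun p hp => le_iInf fun i => ?_) (le_iInf fun i => ?_)
      · rintro _ ⟨w, hw, rfl⟩
        change p * w * p⁻¹ ∈ _
        refine mem_normalizer_of_cj_le ?_
        obtain ⟨j, hj⟩ := hperm p⁻¹ (inv_mem hp) i
        rw [← cj_cj, hj, ← cj_cj, hWi w hw j]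
        have := hcji p⁻¹ i j hj
        rw [inv_inv] at this
        exact this.le
      · exact (inf_le_right.trans (centralizer_le (hle i))).trans (centralizer_le_normalizer _)
    intro k hk i
    exact cj_eq_of_mem_normalizer ((mem_iInf.mp (h1 hk)) i)
  -- `P = K S`
  have hKS : K ⊔ (S : Subgroup G) = P := by
    rcases h.par.sup_eq_or_inf_le S hKP hPK with h1 | h1
    · exact h1
    · exfalso
      have hS : ChoiceSit.Syl (S : Subgroup G) P := ⟨h.par.le, S.isPGroup', fun R _ hR hSR => S.is_maximal' hR hSR⟩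
      obtain ⟨R, hR, hWR⟩ := ChoiceSit.exists_syl hW2 hWP
      obtain ⟨p, hp, hpR⟩ := ChoiceSit.syl_conj hR hS
      have h2 : cj p W ≤ (S : Subgroup G) ⊓ K := by
        refine le_inf ?_ ?_
        · rw [← hpR]; exact cj_mono p hWR
        · exact (le_biSup (fun p => cj p W) hp).trans le_sup_left
      have h3 : cj p W ≤ centralizer (V : Set G) := by
        exact (h2.trans h1).trans h.o2_le
      apply hWV
      have h4 := cj_mono p⁻¹ h3
      rw [cj_cj, inv_mul_cancel, cj_one, cj_centralizer,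
        cj_eq_of_mem_normalizer (inv_mem (h.norm hp))] at h4
      exact h4
  have hdec : ∀ p ∈ P, ∃ k ∈ K, ∃ s ∈ (S : Subgroup G), k * s = p := by
    intro p hp
    have h1 : p ∈ (((S : Subgroup G) ⊔ K : Subgroup G) : Set G) := by
      rw [sup_comm, hKS]; exact hp
    rw [coe_mul_of_left_le_normalizer_right _ _ (h.par.le.trans hPK)] at h1
    obtain ⟨s, hs, k, hk, rfl⟩ := h1
    refine ⟨s * k * s⁻¹, (mem_normalizer_iff.mp (hPK (h.par.le hs)) k).mp hk, s, hs, ?_⟩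
    change s * k * s⁻¹ * s = s * k
    group
  -- `S` is transitive
  have hStr : ∀ i j, ∃ s ∈ (S : Subgroup G), cj s (Vf i) = Vf j := by
    intro i j
    obtain ⟨p, hp, hpij⟩ := htr i j
    obtain ⟨k, hk, s, hs, rfl⟩ := hdec p hp
    refine ⟨s, hs, ?_⟩
    obtain ⟨m, hm⟩ := hperm s (h.par.le hs) i
    rw [← cj_cj, hm, hKi k hk m] at hpij
    rw [hm, hpij]
  -- `So`
  obtain ⟨So, hSo1, hSoS, hidx⟩ := Half.exists_index_two (T := (S : Subgroup G))
    (A := (S : Subgroup G) ⊓ normalizer (Vf i₀ : Set G)) S.isPGroup' inf_le_left (by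
      intro h1
      obtain ⟨i₁, hi₁⟩ := exists_ne i₀
      obtain ⟨s, hs, hsi⟩ := hStr i₀ i₁
      have h2 := cj_eq_of_mem_normalizer (h1 hs).2
      rw [h2] at hsi
      exact hi₁ (hinj hsi).symm)
  set J₂ : Set ι := {i | ∃ s ∈ So, cj s (Vf i₀) = Vf i} with hJ₂
  set J₁ : Set ι := {i | ∃ s ∈ (S : Subgroup G), s ∉ So ∧ cj s (Vf i₀) = Vf i} with hJ₁
  have hcov : ∀ i, i ∈ J₁ ∨ i ∈ J₂ := by
    intro i
    obtain ⟨s, hs, hsi⟩ := hStr i₀ i
    by_cases hso : s ∈ So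
    · exact Or.inr ⟨s, hso, hsi⟩
    · exact Or.inl ⟨s, hs, hso, hsi⟩
  have hdisj : Disjoint J₁ J₂ := by
    rw [Set.disjoint_left]
    rintro i ⟨s, hs, hso, hsi⟩ ⟨t, ht, hti⟩
    apply hso
    have h1 : t⁻¹ * s ∈ So := by
      refine hSo1 ⟨Subgroup.mul_mem _ (Subgroup.inv_mem _ (hSoS ht)) hs, ?_⟩
      refine mem_normalizer_of_cj_le ?_
      rw [← cj_cj, hsi, hcji t _ _ hti]
    have e : s = t * (t⁻¹ * s) := by group
    rw [e]
    exact So.mul_mem ht h1
  have hi₀ : i₀ ∈ J₂ := ⟨1, one_mem _, cj_one _⟩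
  have hi₁ : i₀ ∉ J₁ := fun h1 => Set.disjoint_left.mp hdisj h1 hi₀
  -- the moves
  have mSoJ₂ : ∀ s ∈ So, ∀ i ∈ J₂, ∃ j ∈ J₂, cj s (Vf i) = Vf j := by
    rintro s hs i ⟨t, ht, hti⟩
    obtain ⟨j, hj⟩ := hperm s (h.par.le (hSoS hs)) i
    exact ⟨j, ⟨s * t, mul_mem hs ht, hcjm _ _ _ _ _ hti hj⟩, hj⟩
  have mSoJ₁ : ∀ s ∈ So, ∀ i ∈ J₁, ∃ j ∈ J₁, cj s (Vf i) = Vf j := by
    rintro s hs i ⟨t, ht, hto, hti⟩
    obtain ⟨j, hj⟩ := hperm s (h.par.le (hSoS hs)) i
    refine ⟨j, ⟨s * t, mul_mem (hSoS hs) ht, ?_, hcjm _ _ _ _ _ hti hj⟩, hj⟩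
    intro h1
    exact hto ((mul_mem_cancel_left hs).mp h1)
  have mSJ₂ : ∀ s ∈ (S : Subgroup G), s ∉ So → ∀ i ∈ J₂, ∃ j ∈ J₁, cj s (Vf i) = Vf j := by
    rintro s hs hso i ⟨t, ht, hti⟩
    obtain ⟨j, hj⟩ := hperm s (h.par.le hs) i
    refine ⟨j, ⟨s * t, mul_mem hs (hSoS ht), ?_, hcjm _ _ _ _ _ hti hj⟩, hj⟩
    intro h1
    exact hso ((mul_mem_cancel_right ht).mp h1)
  have mSJ₁ : ∀ s ∈ (S : Subgroup G), s ∉ So → ∀ i ∈ J₁, ∃ j ∈ J₂, cj s (Vf i) = Vf j := by
    rintro s hs hso i ⟨t, ht, hto, hti⟩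
    obtain ⟨j, hj⟩ := hperm s (h.par.le hs) i
    refine ⟨j, ⟨s * t, ?_, hcjm _ _ _ _ _ hti hj⟩, hj⟩
    exact (Half.mul_mem_of_index_two hidx hs ht).mpr (iff_of_false hso hto)
  set A : Subgroup G := Vs Vf J₁ with hA
  set B : Subgroup G := Vs Vf J₂ with hB
  have hAB : A ⊓ B = ⊥ := Vs_inf_Vs h.comm hle hind hdisj
  have hABs : A ⊔ B = V := Vs_sup_Vs hsup hcov
  have hAV : A ≤ V := hABs ▸ le_sup_left
  have hBV : B ≤ V := hABs ▸ le_sup_right
  have hSoA : So ≤ normalizer (A : Set G) := fun s hs => mem_normalizer_of_cj_le (cj_Vs_le (mSoJ₁ s hs))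
  have hSoB : So ≤ normalizer (B : Set G) := fun s hs => mem_normalizer_of_cj_le (cj_Vs_le (mSoJ₂ s hs))
  have hKA : K ≤ normalizer (A : Set G) := fun k hk =>
    mem_normalizer_of_cj_le (cj_Vs_le fun i hi => ⟨i, hi, hKi k hk i⟩)
  have hKB : K ≤ normalizer (B : Set G) := fun k hk =>
    mem_normalizer_of_cj_le (cj_Vs_le fun i hi => ⟨i, hi, hKi k hk i⟩)
  have hsw : ∀ s ∈ (S : Subgroup G), s ∉ So → cj s A = B ∧ cj s B = A := by
    intro s hs hso
    have hso' : s⁻¹ ∉ So := fun h1 => hso (by simpa using inv_mem h1)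
    have h1 : cj s A ≤ B := cj_Vs_le (mSJ₁ s hs hso)
    have h2 : cj s B ≤ A := cj_Vs_le (mSJ₂ s hs hso)
    have h3 : cj s⁻¹ A ≤ B := cj_Vs_le (mSJ₁ _ (inv_mem hs) hso')
    have h4 : cj s⁻¹ B ≤ A := cj_Vs_le (mSJ₂ _ (inv_mem hs) hso')
    refine ⟨le_antisymm h1 ?_, le_antisymm h2 ?_⟩
    · have := cj_mono s h4
      rwa [cj_cj_inv] at this
    · have := cj_mono s h3
      rwa [cj_cj_inv] at this
  have hAne : A ≠ ⊥ := by
    intro h1
    obtain ⟨i₁, hi⟩ := exists_ne i₀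
    -- `J₁` is not empty
    obtain ⟨s, hs, hso⟩ : ∃ s ∈ (S : Subgroup G), s ∉ So := by
      by_contra hcon
      push Not at hcon
      have : So.relIndex (S : Subgroup G) = 1 := relIndex_eq_one.mpr hcon
      omega
    obtain ⟨j, hj, -⟩ := mSJ₂ s hs hso i₀ hi₀
    exact hne j (le_bot_iff.mp (h1 ▸ le_Vs hj))
  have hABne : A ≠ B := by
    intro h1
    rw [← h1, inf_idem] at hAB
    exact hAne hAB
  have hSA : (S : Subgroup G) ⊓ normalizer (A : Set G) ≤ So := by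
    rintro s ⟨hs, hsA⟩
    by_contra hso
    have h1 := (hsw s hs hso).1
    rw [cj_eq_of_mem_normalizer hsA] at h1
    exact hABne h1
  have hSB : (S : Subgroup G) ⊓ normalizer (B : Set G) ≤ So := by
    rintro s ⟨hs, hsB⟩
    by_contra hso
    have h1 := (hsw s hs hso).2
    rw [cj_eq_of_mem_normalizer hsB] at h1
    exact hABne h1.symm
  have hPA : P ⊓ normalizer (A : Set G) ≤ normalizer (B : Set G) := by
    rintro p ⟨hp, hpA⟩
    obtain ⟨k, hk, s, hs, rfl⟩ := hdec p hp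
    have h1 : s ∈ normalizer (A : Set G) := by
      have e : s = k⁻¹ * (k * s) := by group
      rw [e]; exact mul_mem (inv_mem (hKA hk)) hpA
    exact mul_mem (hKB hk) (hSoB (hSA ⟨hs, h1⟩))
  have hPB : P ⊓ normalizer (B : Set G) ≤ normalizer (A : Set G) := by
    rintro p ⟨hp, hpA⟩
    obtain ⟨k, hk, s, hs, rfl⟩ := hdec p hp
    have h1 : s ∈ normalizer (B : Set G) := by
      have e : s = k⁻¹ * (k * s) := by group
      rw [e]; exact mul_mem (inv_mem (hKB hk)) hpA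
    exact mul_mem (hKA hk) (hSoA (hSB ⟨hs, h1⟩))
  have hPair : Pair S P V A B So := by
    refine ⟨hABs, hAB, hSoS, hidx, hSoA, hSoB, ?_, ?_, hSA, ?_, ?_⟩
    · by_contra hcon
      push Not at hcon
      have : So.relIndex (S : Subgroup G) = 1 := by
        refine relIndex_eq_one.mpr fun s hs => ?_
        by_contra hso
        exact hcon s hs (hsw s hs hso).1 (hsw s hs hso).2
      omega
    · intro p hp
      refine mem_normalizer_of_cj_le ?_
      obtain ⟨k, hk, s, hs, rfl⟩ := hdec p hp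
      by_cases hso : s ∈ So
      · rw [cj_inf, cj_eq_of_mem_normalizer (le_normalizer hp)]
        refine inf_le_inf_left _ ?_
        refine (cj_eq_of_mem_normalizer (le_normalizer ?_)).le
        exact mul_mem (hKA hk) (hSoA hso)
      · rw [cj_inf, cj_eq_of_mem_normalizer (le_normalizer hp)]
        refine le_inf inf_le_left ?_
        have h1 : cj (k * s) (normalizer (A : Set G)) = normalizer (B : Set G) := by
          rw [cj_normalizer, ← cj_cj, (hsw s hs hso).1, cj_eq_of_mem_normalizer (hKB hk)]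
        rw [h1]
        exact hPB
    · exact (inf_le_inf_left P (centralizer_le_normalizer _)).trans hPA
    · intro X hXB hDX hpr
      have hXV : X ≤ V := hXB.trans hBV
      -- `K` normalises `A X`
      have hKX : K ≤ normalizer ((A ⊔ X : Subgroup G) : Set G) := by
        refine sup_le (iSup₂_le fun p hp => ?_) ?_
        · obtain ⟨i₁, hi₁, hcen₁⟩ := hWp p hp
          have hpW : cj p W ≤ K := (le_biSup (fun p => cj p W) hp).trans le_sup_left
          intro w hw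
          refine mem_normalizer_of_cj_le ?_
          rw [cj, Subgroup.map_sup]
          refine sup_le_sup (cj_eq_of_mem_normalizer (hKA (hpW hw))).le ?_
          rcases hcov i₁ with h1 | h1
          · -- `w` centralises `B`
            have h2 : w ∈ centralizer (X : Set G) := by
              refine centralizer_le hXB ?_
              rw [mem_centralizer_iff]
              intro b hb
              have h3 : B ≤ centralizer ({w} : Set G) := by
                refine Vs_le fun j hj => ?_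
                intro v hv
                rw [mem_centralizer_singleton_iff]
                exact mem_centralizer_iff.mp (hcen₁ j (fun h => Set.disjoint_left.mp hdisj h1 (h ▸ hj)) hw) v hv
              exact mem_centralizer_singleton_iff.mp (h3 hb)
            exact (cj_eq_of_mem_normalizer (centralizer_le_normalizer _ h2)).le
          · -- `w` centralises `A`
            have h2 : w ∈ centralizer (A : Set G) := by
              rw [mem_centralizer_iff]
              intro a ha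
              have h3 : A ≤ centralizer ({w} : Set G) := by
                refine Vs_le fun j hj => ?_
                intro v hv
                rw [mem_centralizer_singleton_iff]
                exact mem_centralizer_iff.mp (hcen₁ j (fun h => Set.disjoint_left.mp hdisj hj (h ▸ h1)) hw) v hv
              exact mem_centralizer_singleton_iff.mp (h3 ha)
            exact (cj_eq_of_mem_normalizer (hDX ⟨hKP (hpW hw), h2⟩)).le
        · refine (inf_le_right.trans (centralizer_le ?_)).trans (centralizer_le_normalizer _)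
          exact sup_le hAV hXV
      -- `Z ≤ A X`
      have hZX : ∀ z ∈ V, z ∈ zc (S : Subgroup G) → z ∈ A ⊔ X := by
        intro z hzV' hz
        have hzV : z ∈ A ⊔ B := by rw [hABs]; exact hzV'
        obtain ⟨a, ha, b, hb, rfl⟩ := exists_mul_of_mem_sup h.comm hAV hBV hzV
        exact mul_mem_sup ha (hpr a ha b hb hz)
      have hVX : V ≤ A ⊔ X := by
        refine h.gen _ fun p hp z hzV hz => ?_
        obtain ⟨k, hk, s, hs, rfl⟩ := hdec p hp
        have h1 : s * z * s⁻¹ = z := by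
          have h0 := (ChoiceBase.mem_zc.1 hz).2.2 s hs
          calc s * z * s⁻¹ = z * s * s⁻¹ := by rw [h0]
            _ = z := by group
        have e : k * s * z * (k * s)⁻¹ = k * z * k⁻¹ := by
          calc k * s * z * (k * s)⁻¹ = k * (s * z * s⁻¹) * k⁻¹ := by group
            _ = k * z * k⁻¹ := by rw [h1]
        rw [e]
        exact (mem_normalizer_iff.mp (hKX hk) z).mp (hZX z hzV hz)
      intro b hb
      obtain ⟨a, ha, x, hx, e⟩ := exists_mul_of_mem_sup h.comm hAV hXV (hVX (hBV hb))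
      have h1 : a ∈ A ⊓ B := by
        refine ⟨ha, ?_⟩
        have : a = b * x⁻¹ := by rw [← e]; group
        rw [this]
        exact B.mul_mem hb (B.inv_mem (hXB hx))
      rw [hAB, mem_bot] at h1
      rw [h1, one_mul] at e
      rw [← e]; exact hx
  exact single h (fun h0 => hne i₀ (le_bot_iff.mp (h0 ▸ hle i₀))) hPair hFV hFc hF2 (Vs_le fun j hj => hVF j fun h1 => hi₁ (h1 ▸ hj)) hZF

end Cfsg.Agent.Omega.NO1.WRF.Single

end

section


/-!
# THEOREM WRF (bb OMEGA #16078), step (5): `V` is an indecomposable module for `K = ⟨W^P⟩`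

`Dat P V W` : `V` is abelian, normalised by `P ≥ W`; whenever `V = X × Y` with `X`, `Y` normalised by `W`, then `W`
centralises `X` or `Y` (this is step (1) for two summands); `C_V(K) = 1`.

* `Dat.exists_fam` : if `V = X × Y`, both normalised by `K` and nontrivial, then `V = ⊕ Vf i` (`|ι| ≥ 2`) with the
  `Vf i` permuted transitively by `P`, and `W` centralises all but one of them;
* `indec` : with `Sit S P V` and `C_V(W) ≤ FF` : `V ≤ O₂(C_G(FF))`.
-/

set_option autoImplicit false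
set_option linter.unusedSectionVars false

namespace Cfsg.Agent.Omega.NO1.WRF.Indec

open Subgroup Cfsg Cfsg.Agent.ZN Cfsg.Agent.ZN.ChoiceBase Cfsg.Agent.Omega.MinPar Cfsg.Agent.Omega.Frame
open Cfsg.Agent.Omega.NO1 Cfsg.Agent.Omega.NO1.WRF.Single

universe u

variable {G : Type u} [Group G]

/-- `⟨W^P⟩` -/
def KW (P W : Subgroup G) : Subgroup G := ⨆ p ∈ P, cj p W

variable {P V W X Y X' Y' : Subgroup G}

theorem cj_le_KW {p : G} (hp : p ∈ P) : cj p W ≤ KW P W := le_biSup (fun p => cj p W) hp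

theorem KW_le {X : Subgroup G} (h : ∀ p ∈ P, cj p W ≤ X) : KW P W ≤ X := iSup₂_le h

theorem le_KW : W ≤ KW P W := by
  have h := cj_le_KW (P := P) (W := W) (one_mem P)
  rwa [cj_one] at h

theorem cj_bot (p : G) : cj p (⊥ : Subgroup G) = ⊥ := Subgroup.map_bot _

theorem cj_KW {p : G} (hp : p ∈ P) : cj p (KW P W) ≤ KW P W := by
  rw [KW, cj, Subgroup.map_iSup]
  refine iSup_le fun q => ?_
  rw [Subgroup.map_iSup]
  refine iSup_le fun hq => ?_
  change cj p (cj q W) ≤ _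
  rw [cj_cj]
  exact cj_le_KW (mul_mem hp hq)

theorem cj_KW_eq {p : G} (hp : p ∈ P) : cj p (KW P W) = KW P W := by
  refine le_antisymm (cj_KW hp) ?_
  have h := cj_mono p (cj_KW (W := W) (inv_mem hp))
  rwa [cj_cj_inv] at h

/-- `V = X × Y`, both normalised by `K`. -/
structure Dec (K V X Y : Subgroup G) : Prop where
  sup : X ⊔ Y = V
  inf : X ⊓ Y = ⊥
  nX : K ≤ normalizer (X : Set G)
  nY : K ≤ normalizer (Y : Set G)

namespace Dec

variable {K : Subgroup G}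

theorem symm (d : Dec K V X Y) : Dec K V Y X :=
  ⟨by rw [sup_comm]; exact d.sup, by rw [inf_comm]; exact d.inf, d.nY, d.nX⟩

theorem X_le (d : Dec K V X Y) : X ≤ V := d.sup ▸ le_sup_left
theorem Y_le (d : Dec K V X Y) : Y ≤ V := d.sup ▸ le_sup_right

theorem mono {K' : Subgroup G} (d : Dec K V X Y) (h : K' ≤ K) : Dec K' V X Y :=
  ⟨d.sup, d.inf, h.trans d.nX, h.trans d.nY⟩

theorem uniq (d : Dec K V X Y) {x x' y y' : G} (hx : x ∈ X) (hx' : x' ∈ X) (hy : y ∈ Y) (hy' : y' ∈ Y)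
    (h : x * y = x' * y') : x = x' ∧ y = y' := by
  have h1 : x'⁻¹ * x = y' * y⁻¹ := by
    calc x'⁻¹ * x = x'⁻¹ * (x * y) * y⁻¹ := by group
      _ = x'⁻¹ * (x' * y') * y⁻¹ := by rw [h]
      _ = y' * y⁻¹ := by group
  have h2 : x'⁻¹ * x ∈ X ⊓ Y := ⟨X.mul_mem (X.inv_mem hx') hx, by rw [h1]; exact Y.mul_mem hy' (Y.inv_mem hy)⟩
  rw [d.inf, mem_bot] at h2
  have h3 : x = x' := (inv_mul_eq_one.mp h2).symm
  refine ⟨h3, ?_⟩
  rw [h3] at h
  exact mul_left_cancel h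

theorem exists_mul (d : Dec K V X Y) (hVc : V ≤ centralizer (V : Set G)) {v : G} (hv : v ∈ V) :
    ∃ x ∈ X, ∃ y ∈ Y, x * y = v := exists_mul_of_mem_sup hVc d.X_le d.Y_le (d.sup ▸ hv)

/-- An element of `K` which fixes `x y` fixes `x` and `y`. -/
theorem fix (d : Dec K V X Y) {k x y : G} (hk : k ∈ K) (hx : x ∈ X) (hy : y ∈ Y) (h : k * (x * y) = x * y * k) :
    k * x = x * k ∧ k * y = y * k := by
  have h1 : k * x * k⁻¹ ∈ X := (mem_normalizer_iff.mp (d.nX hk) x).mp hx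
  have h2 : k * y * k⁻¹ ∈ Y := (mem_normalizer_iff.mp (d.nY hk) y).mp hy
  have h3 : k * x * k⁻¹ * (k * y * k⁻¹) = x * y := by
    calc k * x * k⁻¹ * (k * y * k⁻¹) = k * (x * y) * k⁻¹ := by group
      _ = x * y * k * k⁻¹ := by rw [h]
      _ = x * y := by group
  obtain ⟨h4, h5⟩ := d.uniq h1 hx h2 hy h3
  refine ⟨?_, ?_⟩
  · calc k * x = k * x * k⁻¹ * k := by group
      _ = x * k := by rw [h4]
  · calc k * y = k * y * k⁻¹ * k := by group
      _ = y * k := by rw [h5]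

end Dec

variable [Finite G]

theorem Dec.conj (d : Dec (KW P W) V X Y) (hPV : P ≤ normalizer (V : Set G)) {p : G} (hp : p ∈ P) :
    Dec (KW P W) V (cj p X) (cj p Y) := by
  refine ⟨?_, ?_, ?_, ?_⟩
  · rw [← Subgroup.map_sup, d.sup]
    exact cj_eq_of_mem_normalizer (hPV hp)
  · rw [← cj_inf, d.inf, cj_bot]
  · rw [← cj_normalizer, ← cj_KW_eq (W := W) hp]
    exact cj_mono p d.nX
  · rw [← cj_normalizer, ← cj_KW_eq (W := W) hp]
    exact cj_mono p d.nY

/-- the hypotheses of step (5) -/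
structure Dat (P V W : Subgroup G) : Prop where
  comm : V ≤ centralizer (V : Set G)
  norm : P ≤ normalizer (V : Set G)
  two : ∀ X Y : Subgroup G, Dec W V X Y → W ≤ centralizer (X : Set G) ∨ W ≤ centralizer (Y : Set G)
  cen : V ⊓ centralizer (KW P W : Set G) = ⊥

namespace Dat

variable (h : Dat P V W)
include h

/-- every conjugate of `W` centralises `X` or `Y` -/
theorem two' (d : Dec (KW P W) V X Y) {p : G} (hp : p ∈ P) :
    cj p W ≤ centralizer (X : Set G) ∨ cj p W ≤ centralizer (Y : Set G) := by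
  have h1 := h.two _ _ ((d.conj h.norm (inv_mem hp)).mono le_KW)
  refine h1.imp (fun h2 => ?_) (fun h2 => ?_)
  · have h3 := cj_mono p h2
    rwa [cj_centralizer, cj_cj_inv] at h3
  · have h3 := cj_mono p h2
    rwa [cj_centralizer, cj_cj_inv] at h3

/-- `v ∈ Y` if `v` is fixed by the conjugates which do not centralise `X` -/
theorem mem_Y (d : Dec (KW P W) V X Y) {v : G} (hv : v ∈ V)
    (hf : ∀ p ∈ P, ¬ cj p W ≤ centralizer (X : Set G) → ∀ w ∈ cj p W, w * v = v * w) : v ∈ Y := by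
  obtain ⟨x, hx, y, hy, rfl⟩ := d.exists_mul h.comm hv
  have h1 : KW P W ≤ centralizer ({x} : Set G) := by
    refine KW_le fun p hp => ?_
    by_cases hc : cj p W ≤ centralizer (X : Set G)
    · intro w hw
      rw [mem_centralizer_singleton_iff]
      exact (mem_centralizer_iff.mp (hc hw) x hx).symm
    · intro w hw
      rw [mem_centralizer_singleton_iff]
      exact (d.fix (cj_le_KW hp hw) hx hy (hf p hp hc w hw)).1
  have h2 : x ∈ V ⊓ centralizer (KW P W : Set G) := by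
    refine ⟨d.X_le hx, mem_centralizer_iff.mpr fun k hk => ?_⟩
    exact mem_centralizer_singleton_iff.mp (h1 hk)
  rw [h.cen, mem_bot] at h2
  subst h2
  rwa [one_mul]

/-- refinement -/
theorem ref (d : Dec (KW P W) V X Y) (d' : Dec (KW P W) V X' Y') : X ≤ (X ⊓ X') ⊔ (X ⊓ Y') := by
  intro x hx
  obtain ⟨x', hx', y', hy', rfl⟩ := d'.exists_mul h.comm (d.X_le hx)
  have hfix : ∀ p ∈ P, ¬ cj p W ≤ centralizer (Y : Set G) → ∀ w ∈ cj p W, w * x' = x' * w ∧ w * y' = y' * w := by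
    intro p hp hc w hw
    have h1 := (h.two' d hp).resolve_right hc
    exact d'.fix (cj_le_KW hp hw) hx' hy' (mem_centralizer_iff.mp (h1 hw) _ hx).symm
  refine mul_mem_sup ⟨?_, hx'⟩ ⟨?_, hy'⟩
  · exact h.mem_Y d.symm (d'.X_le hx') fun p hp hc w hw => (hfix p hp hc w hw).1
  · exact h.mem_Y d.symm (d'.Y_le hy') fun p hp hc w hw => (hfix p hp hc w hw).2

theorem dec_inf (d : Dec (KW P W) V X Y) (d' : Dec (KW P W) V X' Y') :
    Dec (KW P W) V (X ⊓ X') ((X ⊓ Y') ⊔ Y) := by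
  refine ⟨?_, ?_, ?_, ?_⟩
  · rw [← sup_assoc, ← d.sup]
    exact le_antisymm (sup_le_sup_right (sup_le inf_le_left inf_le_left) _) (sup_le_sup_right (h.ref d d') _)
  · rw [eq_bot_iff]
    rintro a ⟨⟨ha, ha'⟩, hb⟩
    obtain ⟨b, hb, y, hy, e⟩ := exists_mul_of_mem_sup h.comm (inf_le_left.trans d.X_le) d.Y_le hb
    obtain ⟨e1, -⟩ := d.uniq hb.1 ha hy (one_mem Y) (by rw [e, mul_one])
    have h1 : a ∈ X' ⊓ Y' := ⟨ha', e1 ▸ hb.2⟩
    rwa [d'.inf] at h1
  · intro k hk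
    refine mem_normalizer_of_cj_le ?_
    rw [cj_inf, cj_eq_of_mem_normalizer (d.nX hk), cj_eq_of_mem_normalizer (d'.nX hk)]
  · intro k hk
    refine mem_normalizer_of_cj_le ?_
    rw [cj, Subgroup.map_sup]
    refine sup_le_sup ?_ (cj_eq_of_mem_normalizer (d.nY hk)).le
    change cj k (X ⊓ Y') ≤ _
    rw [cj_inf, cj_eq_of_mem_normalizer (d.nX hk), cj_eq_of_mem_normalizer (d'.nY hk)]

/-- a minimal summand -/
theorem exists_min (d : Dec (KW P W) V X Y) (hX : X ≠ ⊥) :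
    ∃ X₀ Y₀, Dec (KW P W) V X₀ Y₀ ∧ X₀ ≠ ⊥ ∧ X₀ ≤ X ∧
      ∀ X' Y', Dec (KW P W) V X' Y' → X' ≤ X₀ → X' ≠ ⊥ → X' = X₀ := by
  obtain ⟨X₀, hmin⟩ := (Set.toFinite {Z : Subgroup G | (∃ Y, Dec (KW P W) V Z Y) ∧ Z ≠ ⊥ ∧ Z ≤ X}).exists_minimal
    ⟨X, ⟨Y, d⟩, hX, le_rfl⟩
  obtain ⟨⟨⟨Y₀, d₀⟩, h1, h2⟩, h3⟩ := hmin
  exact ⟨X₀, Y₀, d₀, h1, h2, fun X' Y' d' hle hne => le_antisymm hle (h3 ⟨⟨Y', d'⟩, hne, hle.trans h2⟩ hle)⟩

/-- **the family of the conjugates of a minimal summand** -/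
theorem exists_fam (d : Dec (KW P W) V X Y) (hX : X ≠ ⊥) (hY : Y ≠ ⊥) :
    ∃ (ι : Type u) (_ : Finite ι) (_ : Nontrivial ι) (Vf : ι → Subgroup G) (i₀ : ι), iSupIndep Vf ∧ ⨆ i, Vf i = V ∧
      (∀ p ∈ P, ∀ i, ∃ j, cj p (Vf i) = Vf j) ∧ (∀ i j, ∃ p ∈ P, cj p (Vf i) = Vf j) ∧
      ∀ j, j ≠ i₀ → W ≤ centralizer (Vf j : Set G) := by
  obtain ⟨X₀, Y₀, d₀, hX₀, hX₀X, hmin⟩ := h.exists_min d hX
  -- `X₀ < V`
  have hX₀V : X₀ ≠ V := by
    intro e
    apply hY
    rw [eq_bot_iff, ← d.inf]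
    refine le_inf ?_ le_rfl
    exact d.Y_le.trans (e ▸ hX₀X)
  -- two conjugates
  have hconj : ∀ p ∈ P, ∀ q ∈ P, cj p X₀ ≠ cj q X₀ → cj p X₀ ≤ cj q Y₀ := by
    intro p hp q hq hne
    have dp := d₀.conj h.norm hp
    have dq := d₀.conj h.norm hq
    have d1 := h.dec_inf dp dq
    have h1 : cj p X₀ ⊓ cj q X₀ = ⊥ := by
      by_contra hne1
      apply hne
      have h2 := hmin _ _ (d1.conj h.norm (inv_mem hp)) (by
        have := cj_mono p⁻¹ (inf_le_left : cj p X₀ ⊓ cj q X₀ ≤ cj p X₀)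
        rwa [cj_cj, inv_mul_cancel, cj_one] at this) (by
        intro e
        apply hne1
        have := congrArg (cj p) e
        rwa [cj_cj_inv, cj_bot] at this)
      have h3 : cj p X₀ ⊓ cj q X₀ = cj p X₀ := by
        have := congrArg (cj p) h2
        rwa [cj_cj_inv] at this
      refine Subgroup.eq_of_le_of_card_ge (inf_eq_left.mp h3) ?_
      rw [card_cj, card_cj]
    have h2 := h.ref dp dq
    rw [h1, bot_sup_eq] at h2
    exact h2.trans inf_le_right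
  -- the sum of the conjugates is `V`
  have hsum : ∀ s : Set G, s.Finite → s ⊆ P →
      V ≤ (⨆ p ∈ s, cj p X₀) ⊔ (V ⊓ ⨅ p ∈ s, cj p Y₀) := by
    intro s hs
    induction s, hs using Set.Finite.induction_on with
    | empty =>
      intro _
      refine le_trans ?_ le_sup_right
      simp
    | @insert q s hq _ ih =>
      intro hsub
      have hqP : q ∈ P := hsub (Set.mem_insert _ _)
      have hsP : s ⊆ P := (Set.subset_insert _ _).trans hsub
      refine (ih hsP).trans ?_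
      refine sup_le ?_ ?_
      · refine le_trans ?_ le_sup_left
        exact biSup_mono fun p hp => Set.mem_insert_of_mem _ hp
      · rintro y ⟨hyV, hy⟩
        have dq := d₀.conj h.norm hqP
        obtain ⟨a, ha, b, hb, rfl⟩ := dq.exists_mul h.comm hyV
        refine mul_mem_sup ?_ ⟨dq.Y_le hb, ?_⟩
        · exact (le_biSup (fun p => cj p X₀) (Set.mem_insert q s)) ha
        · refine mem_iInf.mpr fun p => mem_iInf.mpr fun hp => ?_
          rcases Set.mem_insert_iff.mp hp with rfl | hp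
          · exact hb
          · have dp := d₀.conj h.norm (hsP hp)
            have hy1 : a * b ∈ cj p Y₀ := by
              have := mem_iInf.mp hy p
              exact mem_iInf.mp this hp
            refine h.mem_Y dp (dq.Y_le hb) fun r hr hc w hw => ?_
            have h1 := (h.two' dp hr).resolve_left hc
            exact (dq.fix (cj_le_KW hr hw) ha hb (mem_centralizer_iff.mp (h1 hw) _ hy1).symm).2
  have hsupV : ⨆ p ∈ P, cj p X₀ = V := by
    refine le_antisymm (iSup₂_le fun p hp => (d₀.conj h.norm hp).X_le) ?_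
    refine (hsum (P : Set G) (Set.toFinite _) le_rfl).trans ?_
    refine sup_le le_rfl ?_
    refine le_trans ?_ bot_le
    rw [← h.cen]
    rintro v ⟨hv, hvY⟩
    refine ⟨hv, ?_⟩
    -- some conjugate does not centralise `X₀`
    obtain ⟨q₀, hq₀, hc⟩ : ∃ q₀ ∈ P, ¬ cj q₀ W ≤ centralizer (X₀ : Set G) := by
      by_contra hcon
      push Not at hcon
      apply hX₀
      rw [eq_bot_iff, ← h.cen]
      refine le_inf d₀.X_le ?_
      have h1 := KW_le hcon
      exact Subgroup.le_centralizer_iff.mp h1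
    have h1 := (h.two' d₀ hq₀).resolve_left hc
    have h2 : KW P W ≤ centralizer ({v} : Set G) := by
      refine KW_le fun q hq => ?_
      have hp : q * q₀⁻¹ ∈ P := mul_mem hq (inv_mem hq₀)
      have h3 := cj_mono (q * q₀⁻¹) h1
      rw [cj_cj, cj_centralizer, inv_mul_cancel_right] at h3
      have h4 : v ∈ cj (q * q₀⁻¹) Y₀ := by
        have := mem_iInf.mp hvY (q * q₀⁻¹)
        exact mem_iInf.mp this hp
      intro w hw
      rw [mem_centralizer_singleton_iff]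
      exact (mem_centralizer_iff.mp (h3 hw) v h4).symm
    refine mem_centralizer_iff.mpr fun k hk => ?_
    exact mem_centralizer_singleton_iff.mp (h2 hk)
  -- the family
  let ι : Type u := {Z : Subgroup G // ∃ p ∈ P, Z = cj p X₀}
  have hVf : ⨆ i : ι, i.1 = V := by
    rw [← hsupV]
    refine le_antisymm (iSup_le ?_) (iSup₂_le fun p hp => ?_)
    · rintro ⟨_, p, hp, rfl⟩
      exact le_biSup (fun p => cj p X₀) hp
    · exact le_iSup (fun i : ι => i.1) ⟨_, p, hp, rfl⟩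
  -- a conjugate which is not centralised by `W`
  have hWV : ¬ W ≤ centralizer (V : Set G) := by
    intro hc
    apply hX₀
    rw [eq_bot_iff, ← h.cen]
    refine le_inf d₀.X_le ?_
    have h1 : KW P W ≤ centralizer (X₀ : Set G) := by
      refine KW_le fun p hp => ?_
      have h2 := cj_mono p hc
      rw [cj_centralizer, cj_eq_of_mem_normalizer (h.norm hp)] at h2
      exact h2.trans (centralizer_le d₀.X_le)
    exact Subgroup.le_centralizer_iff.mp h1
  obtain ⟨p₀, hp₀, hc₀⟩ : ∃ p ∈ P, ¬ W ≤ centralizer (cj p X₀ : Set G) := by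
    by_contra hcon
    push Not at hcon
    apply hWV
    rw [Subgroup.le_centralizer_iff, ← hsupV]
    exact iSup₂_le fun p hp => Subgroup.le_centralizer_iff.mp (hcon p hp)
  refine ⟨ι, inferInstance, ?_, fun i => i.1, ⟨_, p₀, hp₀, rfl⟩, ?_, hVf, ?_, ?_, ?_⟩
  · by_contra hnt
    rw [not_nontrivial_iff_subsingleton] at hnt
    apply hX₀V
    rw [← hVf]
    refine le_antisymm (le_iSup (fun i : ι => i.1) ⟨X₀, 1, one_mem P, (cj_one _).symm⟩) (iSup_le fun i => ?_)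
    have := hnt.elim i ⟨X₀, 1, one_mem P, (cj_one _).symm⟩
    rw [this]
  · rintro ⟨_, p, hp, rfl⟩
    have dp := d₀.conj h.norm hp
    rw [disjoint_iff, eq_bot_iff, ← dp.inf]
    refine inf_le_inf_left _ (iSup₂_le ?_)
    rintro ⟨_, q, hq, rfl⟩ hne
    exact hconj q hq p hp fun e => hne (Subtype.ext e)
  · rintro p hp ⟨_, q, hq, rfl⟩
    exact ⟨⟨_, p * q, mul_mem hp hq, rfl⟩, cj_cj _ _ _⟩
  · rintro ⟨_, p, hp, rfl⟩ ⟨_, q, hq, rfl⟩
    refine ⟨q * p⁻¹, mul_mem hq (inv_mem hp), ?_⟩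
    change cj (q * p⁻¹) (cj p X₀) = cj q X₀
    rw [cj_cj, inv_mul_cancel_right]
  · rintro ⟨_, q, hq, rfl⟩ hne
    have h1 : cj q X₀ ≤ cj p₀ Y₀ := hconj q hq p₀ hp₀ fun e => hne (Subtype.ext e)
    have h2 := h.two _ _ ((d₀.conj h.norm hp₀).mono le_KW)
    exact (h2.resolve_left hc₀).trans (centralizer_le h1)

end Dat

/-- **(5)** : `V` is `K`-indecomposable, or `V ≤ O₂(C_G(FF))`. -/
theorem indec {S : Sylow 2 G} {FF : Subgroup G} (hS : Sit S P V) (h : Dat P V W) (hWP : W ≤ P) (hW2 : IsPGroup 2 W)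
    (hWF : V ⊓ centralizer (W : Set G) ≤ FF) (hFV : V ≤ centralizer (FF : Set G))
    (hFc : FF ≤ centralizer (FF : Set G)) (hF2 : IsPGroup 2 FF) (hZF : V ⊓ zc (S : Subgroup G) ≤ FF)
    (hbad : ¬ V ≤ o2 (centralizer (FF : Set G))) (d : Dec (KW P W) V X Y) : X = ⊥ ∨ Y = ⊥ := by
  by_contra hcon
  push Not at hcon
  obtain ⟨ι, _, _, Vf, i₀, hind, hsup, hperm, htr, hcen⟩ := h.exists_fam d hcon.1 hcon.2
  have hle : ∀ i, Vf i ≤ V := fun i => hsup ▸ le_iSup Vf i
  refine hbad (single_fam hS hind hsup hperm htr hWP hW2 ?_ hcen hFV hFc hF2 ?_ hZF)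
  · intro hc
    have h1 : V ≤ V ⊓ centralizer (KW P W : Set G) := by
      refine le_inf le_rfl (Subgroup.le_centralizer_iff.mp (KW_le fun p hp => ?_))
      have h2 := cj_mono p hc
      rwa [cj_centralizer, cj_eq_of_mem_normalizer (h.norm hp)] at h2
    rw [h.cen] at h1
    exact hcon.1 (le_bot_iff.mp (d.X_le.trans h1))
  · intro j hj
    exact (le_inf (hle j) (Subgroup.le_centralizer_iff.mp (hcen j hj))).trans hWF

end Cfsg.Agent.Omega.NO1.WRF.Indec

end

section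


/-!
# THEOREM WRF (bb OMEGA #16078), end of step (3): `V = V₁ × V₂`, `|V₁| = |V₂| = 4`

`four_false` : `Sit S P V`, no offender on `V`, `P` permutes `{V₁, V₂}`, `P = K S` for `K = N_P(V₁)`, there are
`a ∈ S ∩ K` and `s ∈ S - K` which commute modulo `C(V)`, `a` is nontrivial on `V`: impossible.
-/

set_option autoImplicit false
set_option linter.unusedSectionVars false

namespace Cfsg.Agent.Omega.NO1.WRF.Four

open Subgroup Cfsg Cfsg.Agent.ZN Cfsg.Agent.ZN.ChoiceBase Cfsg.Agent.Omega.MinPar Cfsg.Agent.Omega.Frame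
open Cfsg.Agent.Omega.NO1 Cfsg.Agent.Omega.NO1.WRF.Single
open Cfsg.Agent.Omega.FFThm (ElemM OffM)

universe u

/-! ### `S₃` -/

section S3

theorem s3_sq : ∀ x : Equiv.Perm (Fin 3), x ^ 3 ≠ 1 → x ^ 2 = 1 := by decide

set_option maxRecDepth 100000 in
theorem s3_mul : ∀ x y : Equiv.Perm (Fin 3), x ^ 3 ≠ 1 → y ^ 3 ≠ 1 → (x * y) ^ 3 = 1 := by decide

set_option maxRecDepth 100000 in
theorem s3_inv : ∀ x y : Equiv.Perm (Fin 3), x ^ 3 = 1 → y ^ 3 ≠ 1 → y * x * y⁻¹ * x = 1 := by decide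

set_option maxRecDepth 100000 in
theorem s3_comm : ∀ x y : Equiv.Perm (Fin 3), x ^ 3 = 1 → y ^ 3 = 1 → x * y = y * x := by decide

theorem s3_fix : ∀ x : Equiv.Perm (Fin 3), x ^ 3 ≠ 1 → ∃ i, x i = i := by decide

end S3

variable {G : Type u} [Group G]

/-- The action on the three nontrivial elements of a group of order 4. -/
theorem exists_rho {A : Subgroup G} [Finite A] (hA : Nat.card A = 4) :
    ∃ ρ : normalizer (A : Set G) →* Equiv.Perm (Fin 3),
      (∀ n, ρ n = 1 ↔ (n : G) ∈ centralizer (A : Set G)) ∧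
      ∀ n, ρ n ^ 3 ≠ 1 → ∃ v ∈ A, v ≠ 1 ∧ (n : G) * v * (n : G)⁻¹ = v := by
  classical
  have h3 : Nat.card {v : A // v ≠ 1} = 3 := by
    have := Fintype.ofFinite A
    rw [Nat.card_eq_fintype_card, Fintype.card_subtype_compl, Fintype.card_subtype_eq,
      ← Nat.card_eq_fintype_card, hA]
  have e : {v : A // v ≠ 1} ≃ Fin 3 := Finite.equivFinOfCardEq h3
  let act (n : normalizer (A : Set G)) (v : {v : A // v ≠ 1}) : {v : A // v ≠ 1} :=
    ⟨⟨n * v.1 * (n : G)⁻¹, (mem_normalizer_iff.mp n.2 _).mp v.1.2⟩, by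
      intro h
      apply v.2
      have h1 : (n : G) * v.1 * (n : G)⁻¹ = 1 := congrArg Subtype.val h
      apply Subtype.ext
      have e1 : ((v.1 : A) : G) = (n : G)⁻¹ * ((n : G) * v.1 * (n : G)⁻¹) * n := by group
      rw [e1, h1]
      simp⟩
  have hact : ∀ n v, (((act n v).1 : A) : G) = n * v.1 * (n : G)⁻¹ := fun n v => rfl
  have hmul : ∀ m n v, act (m * n) v = act m (act n v) := by
    intro m n v
    apply Subtype.ext
    apply Subtype.ext
    rw [hact, hact, hact]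
    push_cast
    group
  have hone : ∀ v, act 1 v = v := by
    intro v
    apply Subtype.ext
    apply Subtype.ext
    rw [hact]
    simp
  let A1 : MulAction (normalizer (A : Set G)) {v : A // v ≠ 1} :=
    { smul := act, one_smul := hone, mul_smul := hmul }
  let ρ₀ : normalizer (A : Set G) →* Equiv.Perm {v : A // v ≠ 1} := MulAction.toPermHom _ _
  have hρ₀ : ∀ n v, ρ₀ n v = act n v := fun n v => rfl
  let φ : Equiv.Perm {v : A // v ≠ 1} ≃* Equiv.Perm (Fin 3) := e.permCongrHom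
  refine ⟨φ.toMonoidHom.comp ρ₀, fun n => ?_, fun n hn => ?_⟩
  · rw [MonoidHom.comp_apply]
    have h1 : φ.toMonoidHom (ρ₀ n) = 1 ↔ ρ₀ n = 1 := φ.map_eq_one_iff
    rw [h1]
    constructor
    · intro h
      rw [mem_centralizer_iff]
      intro v hv
      by_cases hv1 : v = 1
      · subst hv1; simp
      · have h2 : ρ₀ n ⟨⟨v, hv⟩, fun h => hv1 (congrArg Subtype.val h)⟩ = ⟨⟨v, hv⟩, fun h => hv1 (congrArg Subtype.val h)⟩ := by
          rw [h]; rfl
        have h3 : (n : G) * v * (n : G)⁻¹ = v := congrArg (fun w : {v : A // v ≠ 1} => ((w.1 : A) : G)) h2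
        exact (mul_inv_eq_iff_eq_mul.mp h3).symm
    · intro h
      apply Equiv.ext
      intro v
      apply Subtype.ext
      apply Subtype.ext
      rw [hρ₀, hact, Equiv.Perm.one_apply]
      have h2 := mem_centralizer_iff.mp h _ v.1.2
      rw [← h2, mul_assoc, mul_inv_cancel, mul_one]
  · obtain ⟨i, hi⟩ := s3_fix _ hn
    have h1 : e (ρ₀ n (e.symm i)) = i := hi
    have h2 : ρ₀ n (e.symm i) = e.symm i := e.injective (by rw [h1, Equiv.apply_symm_apply])
    refine ⟨((e.symm i).1 : A), (e.symm i).1.2, fun h => (e.symm i).2 (Subtype.ext h), ?_⟩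
    exact congrArg (fun w : {v : A // v ≠ 1} => ((w.1 : A) : G)) h2

/-- The action on `V` as a homomorphism. -/
theorem exists_theta {P V : Subgroup G} (h : P ≤ normalizer (V : Set G)) :
    ∃ θ : P →* MulAut V, ∀ x, θ x = 1 ↔ (x : G) ∈ centralizer (V : Set G) := by
  refine ⟨(normalizerMonoidHom V).comp (inclusion h), fun x => ?_⟩
  rw [MonoidHom.comp_apply, ← MonoidHom.mem_ker, normalizerMonoidHom_ker, mem_subgroupOf]
  rfl

/-- A 2-element of order dividing 3 is trivial. -/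
theorem eq_one_of_pow {M : Type*} [Monoid M] {x : M} {n : ℕ} (h3 : x ^ 3 = 1) (h2 : x ^ (2 ^ n) = 1) : x = 1 := by
  have h4 := orderOf_dvd_of_pow_eq_one h3
  have h5 := orderOf_dvd_of_pow_eq_one h2
  have h6 : Nat.Coprime 3 (2 ^ n) := Nat.Coprime.pow_right n (by norm_num)
  exact orderOf_eq_one_iff.mp (Nat.eq_one_of_dvd_coprimes h6 h4 h5)

/-- No central involution modulo `C(V)`. -/
theorem central_false [Finite G] {S : Sylow 2 G} {P V : Subgroup G} (hs : Sit S P V) {t : G}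
    (htS : t ∈ (S : Subgroup G)) (htC : t ∉ centralizer (V : Set G))
    (hcen : ∀ p ∈ P, p * t * p⁻¹ * t⁻¹ ∈ centralizer (V : Set G)) : False := by
  have hSP : (S : Subgroup G) ≤ P := hs.par.le
  have htP := hSP htS
  set X : Subgroup G := (P ⊓ centralizer (V : Set G)) ⊔ zpowers t with hX
  have htX : t ∈ X := (le_sup_right : zpowers t ≤ X) (mem_zpowers t)
  have hXP : X ≤ P := sup_le inf_le_left (zpowers_le.mpr htP)
  have hPX : P ≤ normalizer (X : Set G) := by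
    intro p hp
    refine mem_normalizer_of_cj_le ?_
    rw [hX, cj, Subgroup.map_sup]
    refine sup_le ?_ ?_
    · refine le_trans ?_ le_sup_left
      change cj p _ ≤ _
      rw [cj_inf, cj_eq_of_mem_normalizer (le_normalizer hp), cj_centralizer,
        cj_eq_of_mem_normalizer (hs.norm hp)]
    · rw [Subgroup.map_le_iff_le_comap, zpowers_le]
      change p * t * p⁻¹ ∈ X
      have e : p * t * p⁻¹ = p * t * p⁻¹ * t⁻¹ * t := by group
      rw [e]
      refine mul_mem ((le_sup_left : P ⊓ centralizer (V : Set G) ≤ X) ⟨?_, hcen p hp⟩) htX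
      exact P.mul_mem (P.mul_mem (P.mul_mem hp htP) (P.inv_mem hp)) (P.inv_mem htP)
  rcases hs.par.sup_eq_or_inf_le S hXP hPX with h1 | h1
  · have h2 : (P ⊓ centralizer (V : Set G)) ⊔ (S : Subgroup G) = P := by
      refine le_antisymm (sup_le inf_le_left hSP) ?_
      conv_lhs => rw [← h1]
      exact sup_le (sup_le le_sup_left ((zpowers_le.mpr htS).trans le_sup_right)) le_sup_right
    have hn : (S : Subgroup G) ≤ normalizer ((P ⊓ centralizer (V : Set G) : Subgroup G) : Set G) := by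
      intro x hx
      refine mem_normalizer_of_cj_le ?_
      rw [cj_inf, cj_eq_of_mem_normalizer (le_normalizer (hSP hx)), cj_centralizer,
        cj_eq_of_mem_normalizer (hs.norm (hSP hx))]
    have h3 : V ≤ zc (S : Subgroup G) := by
      refine hs.gen _ fun p hp z hzV hz => ?_
      have hp' : p ∈ (((S : Subgroup G) ⊔ (P ⊓ centralizer (V : Set G)) : Subgroup G) : Set G) := by
        rw [sup_comm, h2]; exact hp
      rw [coe_mul_of_left_le_normalizer_right _ _ hn] at hp'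
      obtain ⟨x, hx, c, hc, rfl⟩ := hp'
      change x * c * z * (x * c)⁻¹ ∈ _
      have e1 : c * z * c⁻¹ = z := by
        rw [← mem_centralizer_iff.mp hc.2 z hzV]; group
      have e2 : x * z * x⁻¹ = z := by
        rw [(ChoiceBase.mem_zc.1 hz).2.2 x hx]; group
      have e3 : x * c * z * (x * c)⁻¹ = z := by
        calc x * c * z * (x * c)⁻¹ = x * (c * z * c⁻¹) * x⁻¹ := by group
          _ = z := by rw [e1, e2]
      rw [e3]
      exact hz
    apply htC
    rw [mem_centralizer_iff]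
    intro v hv
    exact ((ChoiceBase.mem_zc.1 (h3 hv)).2.2 t htS).symm
  · exact htC (hs.o2_le (h1 ⟨htS, htX⟩))

/-- No transvections. -/
theorem transv [Finite G] {P V A B : Subgroup G} (noff : ∀ X : Subgroup G, X ≤ P → ¬ OffM V X)
    (hA4 : Nat.card A = 4) (hB4 : Nat.card B = 4) (hsup : A ⊔ B = V) (hinf : A ⊓ B = ⊥)
    (hc : V ≤ centralizer (V : Set G)) {y : G} (hy : y ∈ P) (hyB : y ∈ centralizer (B : Set G))
    (hyA : y ∉ centralizer (A : Set G)) (hy2 : y ^ 2 ∈ centralizer (V : Set G)) {v : G} (hv : v ∈ A)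
    (hv1 : v ≠ 1) (hyv : y * v * y⁻¹ = v) : False := by
  have hAV : A ≤ V := hsup ▸ le_sup_left
  have hBV : B ≤ V := hsup ▸ le_sup_right
  have hV : Nat.card V = 16 := by
    have h1 := Cfsg.Agent.PLocal.ElemAbSup.card_sup_mul_card_inf (A := A) (B := B)
      (hBV.trans (hc.trans (centralizer_le hAV)))
    rw [hsup, hinf, hA4, hB4, Subgroup.card_bot, mul_one] at h1
    exact h1
  have hyV : y ∉ centralizer (V : Set G) := fun h1 => hyA (centralizer_le hAV h1)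
  have hD : 8 ≤ Nat.card (V ⊓ centralizer (zpowers y : Set G) : Subgroup G) := by
    have hBD : B ≤ V ⊓ centralizer (zpowers y : Set G) := by
      refine le_inf hBV ?_
      rw [Subgroup.le_centralizer_iff, zpowers_le]
      exact hyB
    have hvD : v ∈ V ⊓ centralizer (zpowers y : Set G) := by
      refine mem_inf.mpr ⟨hAV hv, ?_⟩
      have h1 : zpowers y ≤ centralizer ({v} : Set G) := by
        rw [zpowers_le, mem_centralizer_singleton_iff]
        rw [mul_inv_eq_iff_eq_mul] at hyv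
        exact hyv
      rw [mem_centralizer_iff]
      intro x hx
      exact mem_centralizer_singleton_iff.mp (h1 hx)
    have hvB : v ∉ B := fun h1 => hv1 (mem_bot.mp (hinf ▸ ⟨hv, h1⟩))
    have h1 := Subgroup.card_dvd_of_le hBD
    rw [hB4] at h1
    obtain ⟨k, hk⟩ := h1
    rcases k with _ | _ | k
    · simp only [mul_zero] at hk
      exact absurd hk Nat.card_pos.ne'
    · exfalso
      apply hvB
      have h2 : B = V ⊓ centralizer (zpowers y : Set G) := eq_of_le_of_card_ge hBD (by rw [hk, hB4])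
      rw [h2]; exact hvD
    · rw [hk]; omega
  have hE : 2 * Nat.card (zpowers y ⊓ centralizer (V : Set G) : Subgroup G) ≤ Nat.card (zpowers y) := by
    have h1 := Subgroup.card_dvd_of_le (inf_le_left : zpowers y ⊓ centralizer (V : Set G) ≤ zpowers y)
    obtain ⟨k, hk⟩ := h1
    rcases k with _ | _ | k
    · simp only [mul_zero] at hk
      exact absurd hk Nat.card_pos.ne'
    · exfalso
      have h2 : zpowers y ⊓ centralizer (V : Set G) = zpowers y :=
        eq_of_le_of_card_ge inf_le_left (by rw [hk]; simp)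
      exact hyV (inf_eq_left.mp h2 (mem_zpowers y))
    · rw [hk]
      calc 2 * Nat.card (zpowers y ⊓ centralizer (V : Set G) : Subgroup G)
          = Nat.card (zpowers y ⊓ centralizer (V : Set G) : Subgroup G) * 2 := mul_comm _ _
        _ ≤ _ := Nat.mul_le_mul_left _ (by omega)
  refine noff (zpowers y) (zpowers_le.mpr hy) ⟨⟨?_, ?_⟩, ?_, ?_⟩
  · rintro a ⟨k, rfl⟩
    have e : (y ^ k) ^ 2 = (y ^ 2) ^ k := by
      rw [← zpow_natCast, ← zpow_mul, ← zpow_natCast, ← zpow_mul, mul_comm]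
    change (y ^ k) ^ 2 ∈ _
    rw [e]
    exact Subgroup.zpow_mem _ hy2 k
  · rintro a ⟨k, rfl⟩ b ⟨l, rfl⟩
    change y ^ k * y ^ l * (y ^ k)⁻¹ * (y ^ l)⁻¹ ∈ _
    have e : y ^ k * y ^ l * (y ^ k)⁻¹ * (y ^ l)⁻¹ = 1 := by group
    rw [e]
    exact one_mem _
  · intro h1
    exact hyV (h1 (mem_zpowers y))
  · calc Nat.card V * Nat.card (zpowers y ⊓ centralizer (V : Set G) : Subgroup G)
        = (2 * Nat.card (zpowers y ⊓ centralizer (V : Set G) : Subgroup G)) * 8 := by rw [hV]; ring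
      _ ≤ _ := Nat.mul_le_mul hE hD

/-- The configuration. -/
structure Conf (S : Sylow 2 G) (P V V₁ V₂ : Subgroup G) (a s : G) : Prop where
  sit : Sit S P V
  noff : ∀ A : Subgroup G, A ≤ P → ¬ OffM V A
  card1 : Nat.card V₁ = 4
  card2 : Nat.card V₂ = 4
  sup : V₁ ⊔ V₂ = V
  inf : V₁ ⊓ V₂ = ⊥
  perm : ∀ p ∈ P, (cj p V₁ = V₁ ∧ cj p V₂ = V₂) ∨ (cj p V₁ = V₂ ∧ cj p V₂ = V₁)
  dec : ∀ p ∈ P, ∃ k ∈ P, cj k V₁ = V₁ ∧ ∃ x ∈ (S : Subgroup G), k * x = p
  aS : a ∈ (S : Subgroup G)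
  aV₁ : cj a V₁ = V₁
  aC : a ∉ centralizer (V : Set G)
  sS : s ∈ (S : Subgroup G)
  sV₁ : cj s V₁ ≠ V₁
  as : a * s * a⁻¹ * s⁻¹ ∈ centralizer (V : Set G)
  ss : s ^ 2 ∈ centralizer (V : Set G)

/-- **`|V| = 16` is impossible.** -/
theorem Conf.false [Finite G] {S : Sylow 2 G} {P V V₁ V₂ : Subgroup G} {a s : G}
    (h : Conf S P V V₁ V₂ a s) : False := by
  have hSP : (S : Subgroup G) ≤ P := h.sit.par.le
  have hV1 : V₁ ≤ V := h.sup ▸ le_sup_left
  have hV2 : V₂ ≤ V := h.sup ▸ le_sup_right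
  have hne : V₁ ≠ V₂ := by
    intro h1
    have h2 := h.inf
    rw [← h1, inf_idem] at h2
    have h3 := h.card1
    rw [h2, Subgroup.card_bot] at h3
    omega
  have hK2 : ∀ x ∈ P, cj x V₁ = V₁ → cj x V₂ = V₂ := by
    intro x hx h1
    rcases h.perm x hx with h2 | h2
    · exact h2.2
    · exact absurd (h1.symm.trans h2.1) hne
  have hcV : ∀ x : G, x ∈ centralizer (V₁ : Set G) → x ∈ centralizer (V₂ : Set G) →
      x ∈ centralizer (V : Set G) := by
    intro x h1 h2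
    have h3 : V ≤ centralizer ({x} : Set G) := by
      rw [← h.sup]
      refine sup_le ?_ ?_
      · intro v hv
        rw [mem_centralizer_singleton_iff]
        exact mem_centralizer_iff.mp h1 v hv
      · intro v hv
        rw [mem_centralizer_singleton_iff]
        exact mem_centralizer_iff.mp h2 v hv
    rw [mem_centralizer_iff]
    intro v hv
    exact mem_centralizer_singleton_iff.mp (h3 hv)
  obtain ⟨ρ₁, r1, f1⟩ := exists_rho h.card1
  obtain ⟨ρ₂, r2, f2⟩ := exists_rho h.card2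
  set K : Subgroup G := P ⊓ normalizer (V₁ : Set G) with hK
  have hK1 : K ≤ normalizer (V₁ : Set G) := inf_le_right
  have hK2' : K ≤ normalizer (V₂ : Set G) := fun x hx =>
    mem_normalizer_iff_cj.2 (hK2 x hx.1 (mem_normalizer_iff_cj.1 hx.2))
  set σ₁ : K →* Equiv.Perm (Fin 3) := ρ₁.comp (inclusion hK1) with hσ₁
  set σ₂ : K →* Equiv.Perm (Fin 3) := ρ₂.comp (inclusion hK2') with hσ₂
  have s1 : ∀ x : K, σ₁ x = 1 ↔ (x : G) ∈ centralizer (V₁ : Set G) := fun x => r1 (inclusion hK1 x)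
  have s2 : ∀ x : K, σ₂ x = 1 ↔ (x : G) ∈ centralizer (V₂ : Set G) := fun x => r2 (inclusion hK2' x)
  have g1 : ∀ x : K, σ₁ x ^ 3 ≠ 1 → ∃ v ∈ V₁, v ≠ 1 ∧ (x : G) * v * (x : G)⁻¹ = v :=
    fun x => f1 (inclusion hK1 x)
  have g2 : ∀ x : K, σ₂ x ^ 3 ≠ 1 → ∃ v ∈ V₂, v ≠ 1 ∧ (x : G) * v * (x : G)⁻¹ = v :=
    fun x => f2 (inclusion hK2' x)
  have hiff : ∀ x : K, σ₁ x ^ 3 = 1 ↔ σ₂ x ^ 3 = 1 := by
    intro x
    constructor
    · intro h1
      by_contra h2
      have e1 : (((x ^ 3 : K) : G)) ∈ centralizer (V₁ : Set G) := by rw [← s1, map_pow, h1]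
      have e2 : (((x ^ 3 : K) : G)) ∉ centralizer (V₂ : Set G) := by rwa [← s2, map_pow]
      have e3 : σ₂ (x ^ 3) ^ 3 ≠ 1 := by
        rw [map_pow]
        have h3 := s3_sq _ h2
        have e : (σ₂ x ^ 3) ^ 3 = (σ₂ x ^ 2) ^ 3 * σ₂ x ^ 3 := by group
        rw [e, h3]; simpa using h2
      obtain ⟨v, hv, hv1, hxv⟩ := g2 _ e3
      have e4 : (((x ^ 3 : K) : G)) ^ 2 ∈ centralizer (V : Set G) := by
        refine hcV _ (pow_mem e1 2) ?_
        have : (((x ^ 3 : K) : G)) ^ 2 = (((x ^ 3) ^ 2 : K) : G) := rfl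
        rw [this, ← s2, map_pow, map_pow]
        have e : (σ₂ x ^ 3) ^ 2 = (σ₂ x ^ 2) ^ 3 := by group
        rw [e, s3_sq _ h2, one_pow]
      exact transv h.noff h.card2 h.card1 (by rw [sup_comm]; exact h.sup) (by rw [inf_comm]; exact h.inf)
        h.sit.comm (x ^ 3 : K).2.1 e1 e2 e4 hv hv1 hxv
    · intro h1
      by_contra h2
      have e1 : (((x ^ 3 : K) : G)) ∈ centralizer (V₂ : Set G) := by rw [← s2, map_pow, h1]
      have e2 : (((x ^ 3 : K) : G)) ∉ centralizer (V₁ : Set G) := by rwa [← s1, map_pow]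
      have e3 : σ₁ (x ^ 3) ^ 3 ≠ 1 := by
        rw [map_pow]
        have h3 := s3_sq _ h2
        have e : (σ₁ x ^ 3) ^ 3 = (σ₁ x ^ 2) ^ 3 * σ₁ x ^ 3 := by group
        rw [e, h3]; simpa using h2
      obtain ⟨v, hv, hv1, hxv⟩ := g1 _ e3
      have e4 : (((x ^ 3 : K) : G)) ^ 2 ∈ centralizer (V : Set G) := by
        refine hcV _ ?_ (pow_mem e1 2)
        have : (((x ^ 3 : K) : G)) ^ 2 = (((x ^ 3) ^ 2 : K) : G) := rfl
        rw [this, ← s1, map_pow, map_pow]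
        have e : (σ₁ x ^ 3) ^ 2 = (σ₁ x ^ 2) ^ 3 := by group
        rw [e, s3_sq _ h2, one_pow]
      exact transv h.noff h.card1 h.card2 h.sup h.inf h.sit.comm (x ^ 3 : K).2.1 e1 e2 e4 hv hv1 hxv
  -- the elements of `S ∩ K`
  have hpw : ∀ x : G, x ∈ (S : Subgroup G) → ∃ n : ℕ, x ^ 2 ^ n = 1 := by
    intro x hx
    obtain ⟨n, hn⟩ := S.isPGroup' ⟨x, hx⟩
    exact ⟨n, congrArg Subtype.val hn⟩
  have hSK : ∀ x : K, (x : G) ∈ (S : Subgroup G) → σ₁ x ^ 3 = 1 → (x : G) ∈ centralizer (V : Set G) := by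
    intro x hx h1
    have h2 := (hiff x).mp h1
    obtain ⟨n, hn⟩ := hpw x hx
    have hn' : x ^ 2 ^ n = 1 := Subtype.ext hn
    refine hcV _ ((s1 x).mp (eq_one_of_pow (n := n) h1 ?_)) ((s2 x).mp (eq_one_of_pow (n := n) h2 ?_))
    · rw [← map_pow, hn', map_one]
    · rw [← map_pow, hn', map_one]
  have haP : a ∈ P := hSP h.aS
  have hsP : s ∈ P := hSP h.sS
  have haK : a ∈ K := ⟨haP, mem_normalizer_iff_cj.2 h.aV₁⟩
  have ha1 : σ₁ ⟨a, haK⟩ ^ 3 ≠ 1 := fun h1 => h.aC (hSK ⟨a, haK⟩ h.aS h1)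
  have ha2 : σ₂ ⟨a, haK⟩ ^ 3 ≠ 1 := fun h1 => ha1 ((hiff _).mpr h1)
  obtain ⟨θ, hθ⟩ := exists_theta h.sit.norm
  have hθ' : ∀ x y : P, θ x = θ y ↔ (x : G) * (y : G)⁻¹ ∈ centralizer (V : Set G) := by
    intro x y
    rw [← mul_inv_eq_one, ← map_inv, ← map_mul, hθ]
    rfl
  set A : P := ⟨a, haP⟩ with hA
  set B : P := ⟨s, hsP⟩ with hB
  have cAB : θ A * θ B = θ B * θ A := by
    rw [← map_mul, ← map_mul, hθ']
    have e : ((A * B : P) : G) * ((B * A : P) : G)⁻¹ = a * s * a⁻¹ * s⁻¹ := by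
      change a * s * (s * a)⁻¹ = _
      group
    rw [e]
    exact h.as
  have hBB : θ B * θ B = 1 := by
    rw [← map_mul, hθ]
    have e : ((B * B : P) : G) = s ^ 2 := by rw [pow_two]; rfl
    rw [e]
    exact h.ss
  -- the elements of `S`
  have hSel : ∀ x : P, (x : G) ∈ (S : Subgroup G) → cj (x : G) V₁ = V₁ → θ x = 1 ∨ θ x = (θ A)⁻¹ := by
    intro x hx hx1
    have hxK : (x : G) ∈ K := ⟨x.2, mem_normalizer_iff_cj.2 hx1⟩
    by_cases h1 : σ₁ ⟨x, hxK⟩ ^ 3 = 1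
    · left
      rw [hθ]
      exact hSK ⟨x, hxK⟩ hx h1
    · right
      rw [eq_inv_iff_mul_eq_one, ← map_mul, hθ]
      refine hSK (⟨x, hxK⟩ * ⟨a, haK⟩) (mul_mem hx h.aS) ?_
      rw [map_mul]
      exact s3_mul _ _ h1 ha1
  have hS' : ∀ x : P, (x : G) ∈ (S : Subgroup G) →
      θ x = 1 ∨ θ x = (θ A)⁻¹ ∨ θ x = θ B ∨ θ x = (θ A)⁻¹ * θ B := by
    intro x hx
    by_cases h1 : cj (x : G) V₁ = V₁
    · rcases hSel x hx h1 with h2 | h2
      · exact Or.inl h2
      · exact Or.inr (Or.inl h2)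
    · have h2 : cj (x : G) V₂ = V₁ := ((h.perm x x.2).resolve_left fun h3 => h1 h3.1).2
      have h3 : cj s V₁ = V₂ := ((h.perm s hsP).resolve_left fun h3 => h.sV₁ h3.1).1
      have h4 : cj ((x * B : P) : G) V₁ = V₁ := by
        change cj ((x : G) * s) V₁ = V₁
        rw [← cj_cj, h3, h2]
      have h5 := hSel (x * B) (mul_mem hx h.sS) h4
      rw [map_mul] at h5
      rcases h5 with h5 | h5
      · right; right; left
        calc θ x = θ x * (θ B * θ B) := by rw [hBB, mul_one]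
          _ = (θ x * θ B) * θ B := by rw [mul_assoc]
          _ = θ B := by rw [h5, one_mul]
      · right; right; right
        calc θ x = θ x * (θ B * θ B) := by rw [hBB, mul_one]
          _ = (θ x * θ B) * θ B := by rw [mul_assoc]
          _ = _ := by rw [h5]
  have cAB' : (θ A)⁻¹ * θ B = θ B * (θ A)⁻¹ := by
    rw [inv_mul_eq_iff_eq_mul, ← mul_assoc, cAB, mul_inv_cancel_right]
  -- the maximal subgroup
  obtain ⟨M, hMP, hM⟩ := h.sit.par.exists_max
  let L (t : P) : Subgroup G := ((centralizer ({θ t} : Set (MulAut V))).comap θ).map P.subtype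
  have mL : ∀ t x : P, (x : G) ∈ L t ↔ θ x * θ t = θ t * θ x := by
    intro t x
    constructor
    · rintro ⟨y, hy, e⟩
      have e' : y = x := Subtype.ext e
      subst e'
      exact mem_centralizer_singleton_iff.mp hy
    · intro h1
      exact ⟨x, mem_centralizer_singleton_iff.mpr h1, rfl⟩
  have LM : ∀ t : P, (t : G) ∈ (S : Subgroup G) → (t : G) ∉ centralizer (V : Set G) →
      θ A * θ t = θ t * θ A → θ B * θ t = θ t * θ B → L t ≤ M := by
    intro t htS htC h1 h2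
    have hLP : L t ≤ P := map_subtype_le _
    refine hM _ ?_ (lt_of_le_of_ne hLP ?_)
    · intro x hx
      refine (mL t ⟨x, hSP hx⟩).mpr ?_
      have h1' : (θ A)⁻¹ * θ t = θ t * (θ A)⁻¹ := by
        rw [inv_mul_eq_iff_eq_mul, ← mul_assoc, h1, mul_inv_cancel_right]
      rcases hS' ⟨x, hSP hx⟩ hx with h3 | h3 | h3 | h3
      · rw [h3, one_mul, mul_one]
      · rw [h3, h1']
      · rw [h3, h2]
      · rw [h3, mul_assoc, h2, ← mul_assoc, h1', mul_assoc]
    · intro h3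
      refine central_false h.sit htS htC fun p hp => ?_
      have h4 : (p : G) ∈ L t := by rw [h3]; exact hp
      have h5 := (mL t ⟨p, hp⟩).mp h4
      have h6 : θ (⟨p, hp⟩ * t) = θ (t * ⟨p, hp⟩) := by rw [map_mul, map_mul, h5]
      rw [hθ'] at h6
      have e : ((⟨p, hp⟩ * t : P) : G) * ((t * ⟨p, hp⟩ : P) : G)⁻¹ = p * t * p⁻¹ * (t : G)⁻¹ := by
        change p * t * (t * p)⁻¹ = _
        group
      rwa [e] at h6
  have hSM : (S : Subgroup G) ≤ M := by
    have hA1 : θ A ≠ 1 := fun h1 => h.aC ((hθ A).mp h1)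
    have h1 := LM A h.aS h.aC rfl cAB.symm
    intro x hx
    apply h1
    refine (mL A ⟨x, hSP hx⟩).mpr ?_
    rcases hS' ⟨x, hSP hx⟩ hx with h3 | h3 | h3 | h3
    · rw [h3, one_mul, mul_one]
    · rw [h3, inv_mul_cancel, mul_inv_cancel]
    · rw [h3, cAB]
    · rw [h3, cAB', mul_assoc, inv_mul_cancel, mul_one, ← mul_assoc, cAB, mul_assoc, mul_inv_cancel, mul_one]
  have hsC : s ∉ centralizer (V : Set G) := fun h1 =>
    h.sV₁ (cj_eq_of_mem_normalizer (centralizer_le_normalizer _ (centralizer_le hV1 h1)))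
  have LB := LM B h.sS hsC cAB rfl
  have LAB := LM (A * B) (mul_mem h.aS h.sS) (by
    intro h1
    have h2 : cj (a * s) V₁ = V₁ :=
      cj_eq_of_mem_normalizer (centralizer_le_normalizer _ (centralizer_le hV1 h1))
    rw [← cj_cj] at h2
    have h3 : cj a⁻¹ (cj a (cj s V₁)) = cj a⁻¹ V₁ := by rw [h2]
    rw [cj_inv_cj] at h3
    apply h.sV₁
    rw [h3]
    conv_lhs => rw [← h.aV₁, cj_inv_cj]) (by rw [map_mul, mul_assoc, ← cAB])
    (by rw [map_mul, ← mul_assoc, ← cAB])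
  -- elements of `K` of order 3 modulo `C(V)`
  have hCM : ∀ x : G, x ∈ P → x ∈ centralizer (V : Set G) → x ∈ M := by
    intro x hx hxC
    refine LB ((mL B ⟨x, hx⟩).mpr ?_)
    have h1 : θ ⟨x, hx⟩ = 1 := (hθ _).mpr hxC
    rw [h1, one_mul, mul_one]
  have hK3 : ∀ x : K, σ₁ x ^ 3 = 1 → (x : G) ∈ M := by
    intro x hx1
    have hx2 := (hiff x).mp hx1
    have hxP : (x : G) ∈ P := x.2.1
    set X : P := ⟨x, hxP⟩ with hX
    have hY : s * (x : G) * s⁻¹ ∈ K := by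
      refine ⟨P.mul_mem (P.mul_mem hsP hxP) (P.inv_mem hsP), mem_normalizer_iff_cj.2 ?_⟩
      have h3 := (h.perm s hsP).resolve_left fun h3 => h.sV₁ h3.1
      have h4 : cj s⁻¹ V₁ = V₂ := by rw [← h3.2, cj_inv_cj]
      rw [← cj_cj, ← cj_cj, h4, hK2 x hxP (mem_normalizer_iff_cj.1 x.2.2), h3.2]
    set Y : P := B * X * B⁻¹ with hYd
    have hx3 : ((x : G)) ^ 3 ∈ centralizer (V : Set G) := by
      refine hcV _ ?_ ?_
      · have : (x : G) ^ 3 = ((x ^ 3 : K) : G) := rfl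
        rw [this, ← s1, map_pow, hx1]
      · have : (x : G) ^ 3 = ((x ^ 3 : K) : G) := rfl
        rw [this, ← s2, map_pow, hx2]
    have hX3 : θ X ^ 3 = 1 := by
      rw [← map_pow, hθ]
      exact hx3
    have hY3' : θ Y ^ 3 = 1 := by
      rw [hYd, map_mul, map_mul, map_inv, conj_pow, hX3, mul_one, mul_inv_cancel]
    have hy3 : (s * (x : G) * s⁻¹) ^ 3 ∈ centralizer (V : Set G) := by
      rw [← map_pow, hθ] at hY3'
      exact hY3'
    have hy1 : σ₁ ⟨s * (x : G) * s⁻¹, hY⟩ ^ 3 = 1 := by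
      rw [← map_pow, s1]
      exact centralizer_le hV1 hy3
    have hy2 := (hiff _).mp hy1
    -- `X`, `Y` commute
    have cXY : θ X * θ Y = θ Y * θ X := by
      have h1 := s3_comm _ _ hx1 hy1
      have h2 := s3_comm _ _ hx2 hy2
      rw [← mul_inv_eq_one, ← map_mul, ← map_mul, ← map_inv, ← map_mul] at h1 h2
      rw [← mul_inv_eq_one, ← map_mul, ← map_mul, ← map_inv, ← map_mul, hθ]
      exact hcV _ ((s1 _).mp h1) ((s2 _).mp h2)
    -- `A` inverts
    have inv1 : ∀ z : K, σ₁ z ^ 3 = 1 → ∀ Z : P, (Z : G) = z → θ A * θ Z = (θ Z)⁻¹ * θ A := by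
      intro z hz1 Z hZ
      have hz2 := (hiff z).mp hz1
      have h1 := s3_inv _ _ hz1 ha1
      have h2 := s3_inv _ _ hz2 ha2
      rw [← map_mul, ← map_inv, ← map_mul, ← map_mul] at h1 h2
      have h3 : θ (A * Z * A⁻¹ * Z) = 1 := by
        rw [hθ]
        have e : ((A * Z * A⁻¹ * Z : P) : G) = ((⟨a, haK⟩ * z * ⟨a, haK⟩⁻¹ * z : K) : G) := by
          change a * (Z : G) * a⁻¹ * (Z : G) = a * (z : G) * a⁻¹ * (z : G)
          rw [hZ]
        rw [e]
        exact hcV _ ((s1 _).mp h1) ((s2 _).mp h2)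
      rw [map_mul, map_mul, map_mul, map_inv, mul_eq_one_iff_eq_inv, mul_inv_eq_iff_eq_mul] at h3
      exact h3
    have iX := inv1 x hx1 X rfl
    have iY := inv1 ⟨_, hY⟩ hy1 Y rfl
    have bX : θ B * θ X = θ Y * θ B := by
      rw [hYd, map_mul, map_mul, map_inv, inv_mul_cancel_right]
    have bY : θ B * θ Y = θ X * θ B := by
      have h1 : (θ B)⁻¹ = θ B := inv_eq_of_mul_eq_one_left hBB
      rw [hYd, map_mul, map_mul, map_inv, ← mul_assoc, ← mul_assoc, hBB, one_mul, h1]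
    have m1 : ((X * Y : P) : G) ∈ M := by
      refine LB ((mL B _).mpr ?_)
      rw [map_mul, mul_assoc, ← bX, ← mul_assoc, ← bY, mul_assoc, cXY]
    have bY' : θ B * (θ Y)⁻¹ = (θ X)⁻¹ * θ B := by
      rw [← mul_right_inj (θ X), ← mul_assoc, ← bY, mul_assoc, mul_inv_cancel, mul_inv_cancel_left, mul_one]
    have iX' : θ A * (θ X)⁻¹ = θ X * θ A := by
      rw [← mul_left_inj (θ X), mul_assoc, inv_mul_cancel, mul_one, mul_assoc, iX, mul_inv_cancel_left]
    have cXY' : (θ X)⁻¹ * θ Y = θ Y * (θ X)⁻¹ := by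
      rw [inv_mul_eq_iff_eq_mul, ← mul_assoc, cXY, mul_inv_cancel_right]
    have m2 : ((X * Y⁻¹ : P) : G) ∈ M := by
      refine LAB ((mL (A * B) _).mpr ?_)
      rw [map_mul, map_mul, map_inv]
      have e1 : θ A * θ B * (θ X * (θ Y)⁻¹) = θ X * (θ Y)⁻¹ * (θ A * θ B) := by
        calc θ A * θ B * (θ X * (θ Y)⁻¹) = θ A * (θ B * θ X) * (θ Y)⁻¹ := by group
          _ = θ A * θ Y * (θ B * (θ Y)⁻¹) := by rw [bX]; group
          _ = (θ Y)⁻¹ * (θ A * (θ X)⁻¹) * θ B := by rw [iY, bY']; group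
          _ = (θ Y)⁻¹ * θ X * (θ A * θ B) := by rw [iX']; group
          _ = θ X * (θ Y)⁻¹ * (θ A * θ B) := by
            congr 1
            rw [inv_mul_eq_iff_eq_mul, ← mul_assoc, ← cXY, mul_inv_cancel_right]
      exact e1.symm
    have m3 : ((X ^ 2 : P) : G) ∈ M := by
      have e : θ (X ^ 2) = θ (X * Y * (X * Y⁻¹)) := by
        rw [map_pow, map_mul θ (X * Y), map_mul θ X Y, map_mul θ X Y⁻¹, map_inv]
        calc θ X ^ 2 = θ X * (θ X * θ Y) * (θ Y)⁻¹ := by rw [mul_assoc, mul_inv_cancel_right, pow_two]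
          _ = θ X * (θ Y * θ X) * (θ Y)⁻¹ := by rw [cXY]
          _ = θ X * θ Y * (θ X * (θ Y)⁻¹) := by simp only [mul_assoc]
      rw [hθ'] at e
      have h1 := hCM _ (P.mul_mem (X ^ 2 : P).2 (P.inv_mem (X * Y * (X * Y⁻¹) : P).2)) e
      have h2 := M.mul_mem h1 (M.mul_mem m1 m2)
      have e2 : ((X ^ 2 : P) : G) * ((X * Y * (X * Y⁻¹) : P) : G)⁻¹ * (((X * Y : P) : G) * ((X * Y⁻¹ : P) : G)) =
          ((X ^ 2 : P) : G) := by
        have e3 : ((X * Y * (X * Y⁻¹) : P) : G) = ((X * Y : P) : G) * ((X * Y⁻¹ : P) : G) := rfl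
        rw [e3, inv_mul_cancel_right]
      rwa [e2] at h2
    have m4 : (x : G) ^ 3 ∈ M := hCM _ (pow_mem hxP 3) hx3
    have e : (x : G) = (x : G) ^ 3 * (((X ^ 2 : P) : G))⁻¹ := by
      change (x : G) = (x : G) ^ 3 * ((x : G) ^ 2)⁻¹
      group
    rw [e]
    exact M.mul_mem m4 (M.inv_mem m3)
  -- the end
  apply hMP.not_ge
  intro p hp
  obtain ⟨k, hk, hk1, x, hx, rfl⟩ := h.dec p hp
  refine M.mul_mem ?_ (hSM hx)
  have hkK : k ∈ K := ⟨hk, mem_normalizer_iff_cj.2 hk1⟩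
  by_cases h1 : σ₁ ⟨k, hkK⟩ ^ 3 = 1
  · exact hK3 ⟨k, hkK⟩ h1
  · have h2 := s3_mul _ _ h1 ha1
    rw [← map_mul] at h2
    have h3 := hK3 _ h2
    have e : k = (((⟨k, hkK⟩ * ⟨a, haK⟩ : K) : G)) * a⁻¹ := by
      change k = k * a * a⁻¹
      group
    rw [e]
    exact M.mul_mem h3 (M.inv_mem (hSM h.aS))

end Cfsg.Agent.Omega.NO1.WRF.Four

end

end

-- merged: Cfsg.Agent.Omega.NO1.WRF.Dec
section

/-!
# Internal direct products of commuting subgroups: coordinates (THEOREM WRF, bb OMEGA 16078)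

`Dec V Vf` : `V` is abelian, `V = ⨆ i, Vf i`, and the family `Vf` is independent.
`h.cd v i` = the `i`-th coordinate of `v ∈ V`.

* `cd_mem`, `cd_mul`, `cd_self`, `cd_other`, `ext`, `exists_cd`;
* `cd_conj` : if `g Vᵢ g⁻¹ = Vⱼ` and `g` permutes the family, then `(g v g⁻¹)ⱼ = g vᵢ g⁻¹`.
-/

set_option autoImplicit false

namespace Cfsg.Agent.Omega.NO1.WRF

open Subgroup

universe u v

variable {G : Type u} [Group G] {ι : Type v}

/-- `V` is the internal direct product of the subgroups `Vf i`. -/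
structure Dec (V : Subgroup G) (Vf : ι → Subgroup G) : Prop where
  comm : ∀ a ∈ V, ∀ b ∈ V, a * b = b * a
  indep : iSupIndep Vf
  sup : ⨆ i, Vf i = V

namespace Dec

variable {V : Subgroup G} {Vf : ι → Subgroup G} (h : Dec V Vf)
include h

theorem le (i : ι) : Vf i ≤ V := h.sup ▸ le_iSup Vf i

theorem commute : Pairwise fun i j : ι => ∀ x y : G, x ∈ Vf i → y ∈ Vf j → Commute x y :=
  fun i j _ x y hx hy => h.comm x (h.le i hx) y (h.le j hy)

section cd

variable [Finite ι]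

/-- the product map -/
noncomputable def hom : (∀ i, Vf i) →* G :=
  letI := Fintype.ofFinite ι
  Subgroup.noncommPiCoprod h.commute

theorem hom_inj : Function.Injective h.hom := by
  let _ := Fintype.ofFinite ι
  exact Subgroup.injective_noncommPiCoprod_of_iSupIndep h.indep

theorem hom_range : h.hom.range = V := by
  let _ := Fintype.ofFinite ι
  exact Subgroup.noncommPiCoprod_range.trans h.sup

theorem hom_mulSingle [DecidableEq ι] (i : ι) (y : Vf i) : h.hom (Pi.mulSingle i y) = y := by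
  let _ := Fintype.ofFinite ι
  exact Subgroup.noncommPiCoprod_mulSingle i y


/-- the `i`-th coordinate -/
noncomputable def cd (v : G) (i : ι) : G :=
  open Classical in if hv : ∃ f, h.hom f = v then ((hv.choose i : Vf i) : G) else 1

theorem cd_hom (f : ∀ i, Vf i) (i : ι) : h.cd (h.hom f) i = f i := by
  have hv : ∃ f', h.hom f' = h.hom f := ⟨f, rfl⟩
  rw [cd, dif_pos hv, h.hom_inj hv.choose_spec]

theorem exists_hom {v : G} (hv : v ∈ V) : ∃ f, h.hom f = v := by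
  rw [← h.hom_range] at hv
  exact hv

theorem cd_mem {v : G} (hv : v ∈ V) (i : ι) : h.cd v i ∈ Vf i := by
  obtain ⟨f, rfl⟩ := h.exists_hom hv
  rw [h.cd_hom]
  exact (f i).2

theorem cd_mul {v w : G} (hv : v ∈ V) (hw : w ∈ V) (i : ι) : h.cd (v * w) i = h.cd v i * h.cd w i := by
  obtain ⟨f, rfl⟩ := h.exists_hom hv
  obtain ⟨g, rfl⟩ := h.exists_hom hw
  rw [← map_mul, h.cd_hom, h.cd_hom, h.cd_hom]
  rfl

theorem cd_one (i : ι) : h.cd 1 i = 1 := by
  have := h.cd_hom 1 i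
  rw [map_one] at this
  exact this

theorem cd_inv {v : G} (hv : v ∈ V) (i : ι) : h.cd v⁻¹ i = (h.cd v i)⁻¹ := by
  have h1 := h.cd_mul hv (inv_mem hv) i
  rw [mul_inv_cancel, h.cd_one] at h1
  exact (inv_eq_of_mul_eq_one_right h1.symm).symm

theorem cd_self {v : G} {i : ι} (hv : v ∈ Vf i) : h.cd v i = v := by
  classical
  have h1 := h.cd_hom (Pi.mulSingle i ⟨v, hv⟩) i
  rw [h.hom_mulSingle, Pi.mulSingle_eq_same] at h1
  exact h1

theorem cd_other {v : G} {i j : ι} (hv : v ∈ Vf i) (hij : j ≠ i) : h.cd v j = 1 := by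
  classical
  have h1 := h.cd_hom (Pi.mulSingle i ⟨v, hv⟩) j
  rw [h.hom_mulSingle, Pi.mulSingle_eq_of_ne hij] at h1
  exact h1

theorem ext {v w : G} (hv : v ∈ V) (hw : w ∈ V) (hvw : ∀ i, h.cd v i = h.cd w i) : v = w := by
  obtain ⟨f, rfl⟩ := h.exists_hom hv
  obtain ⟨g, rfl⟩ := h.exists_hom hw
  congr 1
  funext i
  apply Subtype.ext
  have := hvw i
  rwa [h.cd_hom, h.cd_hom] at this

theorem exists_cd (f : ι → G) (hf : ∀ i, f i ∈ Vf i) : ∃ v ∈ V, ∀ i, h.cd v i = f i := by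
  refine ⟨h.hom fun i => ⟨f i, hf i⟩, ?_, fun i => ?_⟩
  · exact h.hom_range.le ⟨_, rfl⟩
  · rw [h.cd_hom]

theorem mem_of_cd {v : G} {i : ι} (hv : v ∈ V) (hvi : ∀ j, j ≠ i → h.cd v j = 1) : v ∈ Vf i := by
  have h1 : v = h.cd v i := by
    apply h.ext hv (h.le i (h.cd_mem hv i))
    intro j
    rcases eq_or_ne j i with rfl | hj
    · rw [h.cd_self (h.cd_mem hv j)]
    · rw [hvi j hj, h.cd_other (h.cd_mem hv i) hj]
  rw [h1]
  exact h.cd_mem hv i

/-- `g` permutes the family. -/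
theorem conj_mem {g : G} (hg : ∀ i, ∃ j, (Vf i).map (MulAut.conj g).toMonoidHom = Vf j) {v : G}
    (hv : v ∈ V) : g * v * g⁻¹ ∈ V := by
  rw [← h.sup] at hv
  refine Subgroup.iSup_induction Vf (C := fun x => g * x * g⁻¹ ∈ V) hv ?_ ?_ ?_
  · intro i x hx
    obtain ⟨j, hj⟩ := hg i
    apply h.le j
    rw [← hj]
    exact ⟨x, hx, by simp [MulAut.conj_apply]⟩
  · simp
  · intro x y hx hy
    have : g * (x * y) * g⁻¹ = (g * x * g⁻¹) * (g * y * g⁻¹) := by group
    rw [this]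
    exact mul_mem hx hy

omit [Finite ι] in
theorem inj_of_ne (hne : ∀ i, Vf i ≠ ⊥) : Function.Injective Vf := h.indep.injective hne

/-- `g` permutes the family and maps the `i`-th member to the `j`-th one: coordinates of conjugates. -/
theorem cd_conj (hne : ∀ i, Vf i ≠ ⊥) {g : G}
    (hg : ∀ i, ∃ j, (Vf i).map (MulAut.conj g).toMonoidHom = Vf j) {v : G} (hv : v ∈ V) {i j : ι}
    (hij : (Vf i).map (MulAut.conj g).toMonoidHom = Vf j) :
    h.cd (g * v * g⁻¹) j = g * h.cd v i * g⁻¹ := by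
  have hinj : ∀ a b : ι, (Vf a).map (MulAut.conj g).toMonoidHom = (Vf b).map (MulAut.conj g).toMonoidHom →
      a = b := fun a b hab => h.inj_of_ne hne (Subgroup.map_injective (MulAut.conj g).injective hab)
  have key : v ∈ V ∧ h.cd (g * v * g⁻¹) j = g * h.cd v i * g⁻¹ := by
    have hv' := hv
    rw [← h.sup] at hv'
    refine Subgroup.iSup_induction Vf (C := fun x => x ∈ V ∧ h.cd (g * x * g⁻¹) j = g * h.cd x i * g⁻¹)
      hv' ?_ ?_ ?_
    · intro k x hx
      refine ⟨h.le k hx, ?_⟩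
      obtain ⟨l, hl⟩ := hg k
      have hgx : g * x * g⁻¹ ∈ Vf l := by
        rw [← hl]
        exact ⟨x, hx, by simp [MulAut.conj_apply]⟩
      rcases eq_or_ne k i with rfl | hki
      · have hlj : l = j := h.inj_of_ne hne (by rw [← hl, hij])
        subst hlj
        rw [h.cd_self hx, h.cd_self hgx]
      · have hlj : l ≠ j := by
          rintro rfl
          exact hki (hinj _ _ (by rw [hl, hij]))
        rw [h.cd_other hx hki.symm, h.cd_other hgx hlj.symm]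
        group
    · refine ⟨one_mem V, ?_⟩
      rw [h.cd_one]
      have : g * 1 * g⁻¹ = 1 := by group
      rw [this, h.cd_one]
    · rintro x y ⟨hx, h1⟩ ⟨hy, h2⟩
      refine ⟨mul_mem hx hy, ?_⟩
      have e : g * (x * y) * g⁻¹ = (g * x * g⁻¹) * (g * y * g⁻¹) := by group
      rw [e, h.cd_mul (h.conj_mem hg hx) (h.conj_mem hg hy), h1, h2, h.cd_mul hx hy]
      group
  exact key.2

end cd

end Dec

end Cfsg.Agent.Omega.NO1.WRF

end

-- merged: Cfsg.Agent.Omega.NO1.WRF.Orbit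
section

/-!
# THEOREM WRF (bb OMEGA 16078), parts (1) and (2)

`FlatM V E F W` : the module facts of FLAT for `W = W_F` acting on `V` (`E < V`, `F = C_V(W) < E`, `[V,W] ≤ E`,
`[E,W] ≤ F`, `E = [w,W]F` for every `w ∈ V - E`, `W` acts on `V` as an elementary abelian 2-group).
`Dec V Vf` : `V` is the direct product of the `Vf i`, permuted by `W`.

* `FlatM.one` **(1)** : one `W`-orbit `O` of members is not in `E`; `Vf j ≤ F` for `j ∉ O`.
* `FlatM.two` **(2)** : a member `Vf i₀ ≰ E` with at least three `W`-conjugates has order 2.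
* `FlatM.two'` : for a group `P` permuting the members transitively with `C_V(P) = 1` : at most two conjugates.
-/

set_option autoImplicit false

namespace Cfsg.Agent.Omega.NO1.WRF

open Subgroup

universe u v

variable {G : Type u} [Group G] {ι : Type v}

/-- The module facts of FLAT for the action of `W` on `V`. -/
structure FlatM (V E F W : Subgroup G) : Prop where
  le : E ≤ V
  F_eq : F = V ⊓ centralizer (W : Set G)
  norm : ∀ s ∈ W, ∀ v ∈ V, s * v * s⁻¹ ∈ V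
  VE : ∀ s ∈ W, ∀ v ∈ V, v⁻¹ * (s * v * s⁻¹) ∈ E
  EF : ∀ s ∈ W, ∀ v ∈ E, v⁻¹ * (s * v * s⁻¹) ∈ F
  reg : ∀ w ∈ V, w ∉ E → ∀ e ∈ E, ∃ s ∈ W, ∃ f ∈ F, e = w⁻¹ * (s * w * s⁻¹) * f
  ab : ∀ s ∈ W, ∀ t ∈ W, ∀ v ∈ V, s * (t * v * t⁻¹) * s⁻¹ = t * (s * v * s⁻¹) * t⁻¹
  inv : ∀ s ∈ W, ∀ v ∈ V, s * (s * v * s⁻¹) * s⁻¹ = v
  ne : ¬ E ≤ F
  ne' : ¬ V ≤ E

/-- `W` permutes the family. -/
def Perm (W : Subgroup G) (Vf : ι → Subgroup G) : Prop :=
  ∀ s ∈ W, ∀ i, ∃ j, (Vf i).map (MulAut.conj s).toMonoidHom = Vf j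

theorem conj_mem_of_eq {g : G} {A B : Subgroup G} (h : A.map (MulAut.conj g).toMonoidHom = B) {x : G}
    (hx : x ∈ A) : g * x * g⁻¹ ∈ B := by
  rw [← h]
  exact ⟨x, hx, by simp [MulAut.conj_apply]⟩

theorem mem_of_conj_mem {g : G} {A B : Subgroup G} (h : A.map (MulAut.conj g).toMonoidHom = B) {y : G}
    (hy : y ∈ B) : ∃ x ∈ A, g * x * g⁻¹ = y := by
  rw [← h] at hy
  obtain ⟨x, hx, rfl⟩ := hy
  exact ⟨x, hx, by simp [MulAut.conj_apply]⟩

theorem map_eq_of {g : G} {A B : Subgroup G} (h1 : ∀ x ∈ A, g * x * g⁻¹ ∈ B)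
    (h2 : ∀ y ∈ B, ∃ x ∈ A, g * x * g⁻¹ = y) : A.map (MulAut.conj g).toMonoidHom = B := by
  apply le_antisymm
  · rintro _ ⟨x, hx, rfl⟩
    simpa [MulAut.conj_apply] using h1 x hx
  · intro y hy
    obtain ⟨x, hx, rfl⟩ := h2 y hy
    exact ⟨x, hx, by simp [MulAut.conj_apply]⟩

/-- `Vf j` is a `W`-conjugate of `Vf i`. -/
def Rel (W : Subgroup G) (Vf : ι → Subgroup G) (i j : ι) : Prop :=
  ∃ s ∈ W, (Vf i).map (MulAut.conj s).toMonoidHom = Vf j

section Rel

variable {W : Subgroup G} {Vf : ι → Subgroup G} {i j k : ι}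

theorem Rel.refl (i : ι) : Rel W Vf i i :=
  ⟨1, one_mem W, map_eq_of (fun x hx => by simpa using hx) fun y hy => ⟨y, hy, by simp⟩⟩

theorem map_inv {s : G} (h : (Vf i).map (MulAut.conj s).toMonoidHom = Vf j) :
    (Vf j).map (MulAut.conj s⁻¹).toMonoidHom = Vf i := by
  apply map_eq_of
  · intro x hx
    obtain ⟨y, hy, rfl⟩ := mem_of_conj_mem h hx
    have : s⁻¹ * (s * y * s⁻¹) * s⁻¹⁻¹ = y := by group
    rwa [this]
  · intro y hy
    exact ⟨_, conj_mem_of_eq h hy, by group⟩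

theorem map_mul {s t : G} (h1 : (Vf i).map (MulAut.conj s).toMonoidHom = Vf j)
    (h2 : (Vf j).map (MulAut.conj t).toMonoidHom = Vf k) :
    (Vf i).map (MulAut.conj (t * s)).toMonoidHom = Vf k := by
  apply map_eq_of
  · intro x hx
    have : t * s * x * (t * s)⁻¹ = t * (s * x * s⁻¹) * t⁻¹ := by group
    rw [this]
    exact conj_mem_of_eq h2 (conj_mem_of_eq h1 hx)
  · intro y hy
    obtain ⟨z, hz, rfl⟩ := mem_of_conj_mem h2 hy
    obtain ⟨x, hx, rfl⟩ := mem_of_conj_mem h1 hz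
    exact ⟨x, hx, by group⟩

theorem Rel.symm (h : Rel W Vf i j) : Rel W Vf j i := by
  obtain ⟨s, hs, h⟩ := h
  exact ⟨s⁻¹, inv_mem hs, map_inv h⟩

theorem Rel.trans (h1 : Rel W Vf i j) (h2 : Rel W Vf j k) : Rel W Vf i k := by
  obtain ⟨s, hs, h1⟩ := h1
  obtain ⟨t, ht, h2⟩ := h2
  exact ⟨t * s, mul_mem ht hs, map_mul h1 h2⟩

end Rel

namespace FlatM

variable {V E F W : Subgroup G} {Vf : ι → Subgroup G} (h : FlatM V E F W)

section basic
include h

theorem F_le : F ≤ V := by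
  rw [h.F_eq]
  exact inf_le_left

theorem F_cent {f s : G} (hf : f ∈ F) (hs : s ∈ W) : s * f * s⁻¹ = f := by
  have h1 := hf
  rw [h.F_eq] at h1
  rw [mem_centralizer_iff.1 h1.2 s hs, mul_assoc, mul_inv_cancel, mul_one]

theorem mem_F {v : G} (hv : v ∈ V) (hc : ∀ s ∈ W, s * v * s⁻¹ = v) : v ∈ F := by
  rw [h.F_eq]
  refine ⟨hv, mem_centralizer_iff.2 fun s hs => ?_⟩
  rw [← mul_inv_eq_iff_eq_mul]
  exact hc s hs

end basic

variable [Finite ι] (hD : Dec V Vf) (hP : Perm W Vf) (hne : ∀ i, Vf i ≠ ⊥)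

include h hD hP

/-- outside the orbit of `i₀` elements of `E` have the coordinates of elements of `F` -/
theorem cd_E {w e : G} {i₀ : ι} (hw : w ∈ Vf i₀) (hwE : w ∉ E) (he : e ∈ E) :
    ∃ f ∈ F, ∀ j, ¬ Rel W Vf i₀ j → hD.cd e j = hD.cd f j := by
  have hwV := hD.le i₀ hw
  obtain ⟨s, hs, f, hf, rfl⟩ := h.reg w hwV hwE e he
  refine ⟨f, hf, fun j hj => ?_⟩
  have h0 : j ≠ i₀ := by
    rintro rfl
    exact hj (Rel.refl _)
  obtain ⟨k, hk⟩ := hP s hs i₀
  have hjk : j ≠ k := by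
    rintro rfl
    exact hj ⟨s, hs, hk⟩
  have hsw := conj_mem_of_eq hk hw
  rw [hD.cd_mul (mul_mem (inv_mem hwV) (h.norm s hs w hwV)) (h.F_le hf),
    hD.cd_mul (inv_mem hwV) (h.norm s hs w hwV), hD.cd_inv hwV, hD.cd_other hw h0, hD.cd_other hsw hjk]
  simp

include hne

/-- coordinates of an element of `F` -/
theorem cd_F {f s : G} (hf : f ∈ F) (hs : s ∈ W) {i j : ι}
    (hij : (Vf i).map (MulAut.conj s).toMonoidHom = Vf j) : hD.cd f j = s * hD.cd f i * s⁻¹ := by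
  rw [← hD.cd_conj hne (hP s hs) (h.F_le hf) hij, h.F_cent hf hs]

/-- an element whose coordinates are, orbit by orbit, those of elements of `F`, lies in `F` -/
theorem mem_F_of {v : G} (hv : v ∈ V)
    (hc : ∀ i, ∃ f ∈ F, ∀ j, Rel W Vf i j → hD.cd v j = hD.cd f j) : v ∈ F := by
  refine h.mem_F hv fun t ht => ?_
  refine hD.ext (h.norm t ht v hv) hv fun j => ?_
  obtain ⟨i, hi⟩ := hP t⁻¹ (inv_mem ht) j
  have hij : (Vf i).map (MulAut.conj t).toMonoidHom = Vf j := by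
    have := map_inv hi
    rwa [inv_inv] at this
  obtain ⟨f, hf, h1⟩ := hc i
  rw [hD.cd_conj hne (hP t ht) hv hij, h1 i (Rel.refl _), h1 j ⟨t, ht, hij⟩, h.cd_F hD hP hne hf ht hij]

/-- **(1)** -/
theorem one : ∃ i₀, ¬ Vf i₀ ≤ E ∧ ∀ j, ¬ Rel W Vf i₀ j → Vf j ≤ F := by
  have h0 : ∃ i₀, ¬ Vf i₀ ≤ E := by
    by_contra hcon
    push Not at hcon
    exact h.ne' (hD.sup ▸ iSup_le hcon)
  obtain ⟨i₀, hi₀⟩ := h0
  refine ⟨i₀, hi₀, fun j₁ hj₁ => ?_⟩
  obtain ⟨w, hw, hwE⟩ := SetLike.not_le_iff_exists.1 hi₀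
  have hle : Vf j₁ ≤ E := by
    by_contra hcon
    obtain ⟨w', hw', hwE'⟩ := SetLike.not_le_iff_exists.1 hcon
    apply h.ne
    intro e he
    refine h.mem_F_of hD hP hne (h.le he) fun i => ?_
    by_cases hi : Rel W Vf i₀ i
    · obtain ⟨f, hf, h1⟩ := h.cd_E hD hP hw' hwE' he
      exact ⟨f, hf, fun j hj => h1 j fun h2 => hj₁ ((hi.trans hj).trans h2.symm)⟩
    · obtain ⟨f, hf, h1⟩ := h.cd_E hD hP hw hwE he
      exact ⟨f, hf, fun j hj => h1 j fun h2 => hi (h2.trans hj.symm)⟩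
  intro v hv
  refine h.mem_F_of hD hP hne (hD.le j₁ hv) fun i => ?_
  by_cases hi : Rel W Vf i₀ i
  · refine ⟨1, one_mem F, fun j hj => ?_⟩
    have hjj : j ≠ j₁ := by
      rintro rfl
      exact hj₁ (hi.trans hj)
    rw [hD.cd_one, hD.cd_other hv hjj]
  · obtain ⟨f, hf, h1⟩ := h.cd_E hD hP hw hwE (hle hv)
    exact ⟨f, hf, fun j hj => h1 j fun h2 => hi (h2.trans hj.symm)⟩

/-- `Vf i₀ ∩ E = 1` if it has at least three conjugates -/
theorem inf_eq {i₀ a b : ι} {s t : G} (hs : s ∈ W) (ht : t ∈ W)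
    (ha : (Vf i₀).map (MulAut.conj s).toMonoidHom = Vf a) (hb : (Vf i₀).map (MulAut.conj t).toMonoidHom = Vf b)
    (hab : b ≠ a) (hb0 : b ≠ i₀) (ha0 : a ≠ i₀) {x : G} (hx : x ∈ Vf i₀) (hxE : x ∈ E) : x = 1 := by
  have hxV := hD.le i₀ hx
  have hF := h.EF s hs x hxE
  have h1 := h.cd_F hD hP hne hF ht hb
  have hsx := conj_mem_of_eq ha hx
  have key : ∀ j, hD.cd (x⁻¹ * (s * x * s⁻¹)) j = (hD.cd x j)⁻¹ * hD.cd (s * x * s⁻¹) j := fun j => by
    rw [hD.cd_mul (inv_mem hxV) (h.norm s hs x hxV), hD.cd_inv hxV]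
  rw [key, key, hD.cd_other hx hb0, hD.cd_other hsx hab, hD.cd_self hx, hD.cd_other hsx ha0.symm] at h1
  simp only [inv_one, mul_one] at h1
  have h2 : x⁻¹ = t⁻¹ * (t * x⁻¹ * t⁻¹) * t := by group
  rw [← inv_inj, inv_one, h2, ← h1]
  group

/-- **(2)** -/
theorem two {i₀ a b : ι} {s t : G} (hs : s ∈ W) (ht : t ∈ W)
    (ha : (Vf i₀).map (MulAut.conj s).toMonoidHom = Vf a) (hb : (Vf i₀).map (MulAut.conj t).toMonoidHom = Vf b)
    (hab : b ≠ a) (hb0 : b ≠ i₀) (ha0 : a ≠ i₀) {x y : G} (hx : x ∈ Vf i₀) (hy : y ∈ Vf i₀)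
    (hx1 : x ≠ 1) (hy1 : y ≠ 1) : x = y := by
  have hinj := hD.inj_of_ne hne
  obtain ⟨c, hc⟩ := hP s hs b
  -- distinctness
  have hsinv : ∀ {k l : ι}, (Vf k).map (MulAut.conj s).toMonoidHom = Vf l →
      (Vf l).map (MulAut.conj s).toMonoidHom = Vf k := by
    intro k l hkl
    apply map_eq_of
    · intro x hx
      obtain ⟨y, hy, rfl⟩ := mem_of_conj_mem hkl hx
      rw [h.inv s hs y (hD.le k hy)]
      exact hy
    · intro y hy
      exact ⟨_, conj_mem_of_eq hkl hy, h.inv s hs y (hD.le k hy)⟩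
  have hc0 : c ≠ i₀ := by
    rintro rfl
    have h1 := hsinv hc
    rw [ha] at h1
    exact hab (hinj h1).symm
  have hca : c ≠ a := by
    rintro rfl
    exact hb0 (hinj (Subgroup.map_injective (MulAut.conj s).injective (hc.trans ha.symm)))
  have htc : (Vf a).map (MulAut.conj t).toMonoidHom = Vf c := by
    apply map_eq_of
    · intro x hx
      obtain ⟨y, hy, rfl⟩ := mem_of_conj_mem ha hx
      rw [← h.ab s hs t ht y (hD.le i₀ hy)]
      exact conj_mem_of_eq hc (conj_mem_of_eq hb hy)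
    · intro z hz
      obtain ⟨y, hy, rfl⟩ := mem_of_conj_mem hc hz
      obtain ⟨x, hx, rfl⟩ := mem_of_conj_mem hb hy
      exact ⟨_, conj_mem_of_eq ha hx, (h.ab s hs t ht x (hD.le i₀ hx)).symm⟩
  have hcb : c ≠ b := by
    rintro rfl
    exact ha0 (hinj (Subgroup.map_injective (MulAut.conj t).injective (htc.trans hb.symm)))
  by_contra hxy
  have hxE : x ∉ E := fun hE => hx1 (h.inf_eq hD hP hne hs ht ha hb hab hb0 ha0 hx hE)
  have hxV := hD.le i₀ hx
  have hyV := hD.le i₀ hy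
  obtain ⟨u, hu, f, hf, he⟩ := h.reg x hxV hxE _ (h.VE s hs y hyV)
  obtain ⟨d, hd⟩ := hP u hu i₀
  have hux := conj_mem_of_eq hd hx
  have hsy := conj_mem_of_eq ha hy
  have cf : ∀ j, hD.cd f j = (hD.cd (u * x * u⁻¹) j)⁻¹ * hD.cd x j * (hD.cd y j)⁻¹ * hD.cd (s * y * s⁻¹) j := by
    intro j
    have h1 : hD.cd (y⁻¹ * (s * y * s⁻¹)) j = hD.cd (x⁻¹ * (u * x * u⁻¹) * f) j := by rw [he]
    rw [hD.cd_mul (inv_mem hyV) (h.norm s hs y hyV), hD.cd_inv hyV,
      hD.cd_mul (mul_mem (inv_mem hxV) (h.norm u hu x hxV)) (h.F_le hf),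
      hD.cd_mul (inv_mem hxV) (h.norm u hu x hxV), hD.cd_inv hxV] at h1
    calc hD.cd f j = (hD.cd (u * x * u⁻¹) j)⁻¹ * hD.cd x j *
          ((hD.cd x j)⁻¹ * hD.cd (u * x * u⁻¹) j * hD.cd f j) := by group
      _ = _ := by rw [← h1]; group
  have hfb := h.cd_F hD hP hne hf ht hb
  have hfc := h.cd_F hD hP hne hf (mul_mem hs ht) (map_mul hb hc)
  have hne1 : ∀ (g : G) {z : G}, z ≠ 1 → g * z * g⁻¹ ≠ 1 := by
    intro g z hz h1
    apply hz
    have : z = g⁻¹ * (g * z * g⁻¹) * g := by group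
    rw [this, h1]
    group
  rcases eq_or_ne d i₀ with rfl | hd0
  · -- `u` fixes the member: `[x,u] = 1`
    have h1 : x⁻¹ * (u * x * u⁻¹) = 1 :=
      h.inf_eq hD hP hne hs ht ha hb hab hb0 ha0 (mul_mem (inv_mem hx) hux) (h.VE u hu x hxV)
    have h2 : u * x * u⁻¹ = x := by
      calc u * x * u⁻¹ = x * (x⁻¹ * (u * x * u⁻¹)) := by group
        _ = x := by rw [h1, mul_one]
    rw [cf, cf, hD.cd_other hux hb0, hD.cd_other hx hb0, hD.cd_other hy hb0, hD.cd_other hsy hab, h2,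
      hD.cd_self hx, hD.cd_self hy, hD.cd_other hsy ha0.symm] at hfb
    simp only [inv_one, mul_one, inv_mul_cancel, one_mul] at hfb
    exact hne1 t (inv_ne_one.2 hy1) hfb.symm
  · have h0 : hD.cd f i₀ = x * y⁻¹ := by
      rw [cf, hD.cd_other hux hd0.symm, hD.cd_self hx, hD.cd_self hy, hD.cd_other hsy ha0.symm]
      simp
    have h1 : x * y⁻¹ ≠ 1 := fun h2 => hxy (mul_inv_eq_one.1 h2)
    rw [h0] at hfb hfc
    have hdb : b = d := by
      by_contra hbd
      rw [cf, hD.cd_other hux hbd, hD.cd_other hx hb0, hD.cd_other hy hb0, hD.cd_other hsy hab] at hfb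
      simp only [inv_one, mul_one] at hfb
      exact hne1 t h1 hfb.symm
    have hdc : c = d := by
      by_contra hcd
      rw [cf, hD.cd_other hux hcd, hD.cd_other hx hc0, hD.cd_other hy hc0, hD.cd_other hsy hca] at hfc
      simp only [inv_one, mul_one] at hfc
      exact hne1 (s * t) h1 hfc.symm
    exact hcb (hdc.trans hdb.symm)

/-- **(2)** -/
theorem two' {P : Subgroup G} (hPP : Perm P Vf) (htr : ∀ i j, Rel P Vf i j)
    (hcv : ∀ v ∈ V, (∀ g ∈ P, g * v * g⁻¹ = v) → v = 1) (i₀ : ι) :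
    (∀ s ∈ W, (Vf i₀).map (MulAut.conj s).toMonoidHom = Vf i₀) ∨
      ∃ j₀, j₀ ≠ i₀ ∧ Rel W Vf i₀ j₀ ∧ ∀ s ∈ W, (Vf i₀).map (MulAut.conj s).toMonoidHom = Vf i₀ ∨
        (Vf i₀).map (MulAut.conj s).toMonoidHom = Vf j₀ := by
  by_contra hcon
  rw [not_or] at hcon
  obtain ⟨h1, h2⟩ := hcon
  push Not at h1
  obtain ⟨s, hs, hsi⟩ := h1
  obtain ⟨a, ha⟩ := hP s hs i₀
  have ha0 : a ≠ i₀ := by
    rintro rfl
    exact hsi ha
  have h3 : ∃ t ∈ W, (Vf i₀).map (MulAut.conj t).toMonoidHom ≠ Vf i₀ ∧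
      (Vf i₀).map (MulAut.conj t).toMonoidHom ≠ Vf a := by
    by_contra hcon
    push Not at hcon
    apply h2
    refine ⟨a, ha0, ⟨s, hs, ha⟩, fun t ht => ?_⟩
    by_cases h4 : (Vf i₀).map (MulAut.conj t).toMonoidHom = Vf i₀
    · exact Or.inl h4
    · exact Or.inr (hcon t ht h4)
  obtain ⟨t, ht, ht0, hta⟩ := h3
  obtain ⟨b, hb⟩ := hP t ht i₀
  have hb0 : b ≠ i₀ := by
    rintro rfl
    exact ht0 hb
  have hab : b ≠ a := by
    rintro rfl
    exact hta hb
  have key : ∀ x ∈ Vf i₀, ∀ y ∈ Vf i₀, x ≠ 1 → y ≠ 1 → x = y := fun x hx y hy hx1 hy1 =>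
    h.two hD hP hne hs ht ha hb hab hb0 ha0 hx hy hx1 hy1
  -- all members have order 2
  have key2 : ∀ i, ∀ x ∈ Vf i, ∀ y ∈ Vf i, x ≠ 1 → y ≠ 1 → x = y := by
    intro i x hx y hy hx1 hy1
    obtain ⟨g, hg, hgi⟩ := htr i₀ i
    obtain ⟨x', hx', rfl⟩ := mem_of_conj_mem hgi hx
    obtain ⟨y', hy', rfl⟩ := mem_of_conj_mem hgi hy
    rw [key x' hx' y' hy' (by rintro rfl; exact hx1 (by group)) (by rintro rfl; exact hy1 (by group))]
  have hex : ∀ i, ∃ x ∈ Vf i, x ≠ 1 := by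
    intro i
    by_contra hcon
    push Not at hcon
    exact hne i ((Subgroup.eq_bot_iff_forall _).2 hcon)
  choose x hx hx1 using hex
  obtain ⟨z, hz, hzc⟩ := hD.exists_cd x hx
  have hz1 : z = 1 := by
    apply hcv z hz
    intro g hg
    refine hD.ext (hD.conj_mem (hPP g hg) hz) hz fun j => ?_
    obtain ⟨i, hi⟩ := hPP g⁻¹ (inv_mem hg) j
    have hij : (Vf i).map (MulAut.conj g).toMonoidHom = Vf j := by
      have := map_inv hi
      rwa [inv_inv] at this
    rw [hD.cd_conj hne (hPP g hg) hz hij, hzc, hzc]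
    refine key2 j _ (conj_mem_of_eq hij (hx i)) _ (hx j) (fun h4 => hx1 i ?_) (hx1 j)
    have : x i = g⁻¹ * (g * x i * g⁻¹) * g := by group
    rw [this, h4]
    group
  apply hx1 i₀
  rw [← hzc i₀, hz1, hD.cd_one]

end FlatM

end Cfsg.Agent.Omega.NO1.WRF

end

-- merged: Cfsg.Agent.Mrg.Omega.NO1.WRF.IndecFlat
section

/-!
# THEOREM WRF (bb OMEGA #16078), step (5) on `FlatM`

* `cen_KW` : `C_{V_P}(⟨W^P⟩) = 1` for a 2-subgroup `W` of `P` which does not centralise `V_P`;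
* `dat_of_flat` : `FlatM V E F W` gives `Indec.Dat P V W`;
* `indec_flat` : **`V` is an indecomposable module for `K = ⟨W^P⟩`, or `V ≤ O₂(C_G(FF))`**.
-/

set_option autoImplicit false
set_option linter.unusedSectionVars false

namespace Cfsg.Agent.Omega.NO1.WRF.Indec

open Subgroup Cfsg Cfsg.Agent.ZN Cfsg.Agent.ZN.ChoiceBase Cfsg.Agent.Omega.MinPar Cfsg.Agent.Omega.Frame
open Cfsg.Agent.Omega.NO1 Cfsg.Agent.Omega.NO1.WRF.Single
open Cfsg.Agent.MinSimple.VModule (oddGen oddGen_le_of_sup)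

universe u

variable {G : Type u} [Group G] [Finite G] {S : Sylow 2 G} {P V E F W FF X Y : Subgroup G}

theorem KW_le_P (hWP : W ≤ P) : KW P W ≤ P := by
  refine KW_le fun p hp => ?_
  rintro _ ⟨w, hw, rfl⟩
  exact P.mul_mem (P.mul_mem hp (hWP hw)) (P.inv_mem hp)

theorem KW_sup (h : IsPar (S : Subgroup G) P) (hVn : P ≤ normalizer (V : Set G)) (ho : o2 P ≤ centralizer (V : Set G))
    (hWP : W ≤ P) (hW2 : IsPGroup 2 W) (hWV : ¬ W ≤ centralizer (V : Set G)) : KW P W ⊔ (S : Subgroup G) = P := by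
  have hn : P ≤ normalizer (KW P W : Set G) := fun p hp => mem_normalizer_of_cj_le (cj_KW hp)
  rcases h.sup_eq_or_inf_le S (KW_le_P hWP) hn with h1 | h1
  · exact h1
  · exfalso
    have hS : ChoiceSit.Syl (S : Subgroup G) P := ⟨h.le, S.isPGroup', fun R _ hR hSR => S.is_maximal' hR hSR⟩
    obtain ⟨R, hR, hWR⟩ := ChoiceSit.exists_syl hW2 hWP
    obtain ⟨p, hp, hpR⟩ := ChoiceSit.syl_conj hR hS
    have h2 : cj p W ≤ (S : Subgroup G) ⊓ KW P W := by
      refine le_inf ?_ (cj_le_KW hp)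
      rw [← hpR]; exact cj_mono p hWR
    have h3 : cj p W ≤ centralizer (V : Set G) := (h2.trans h1).trans ho
    apply hWV
    have h4 := cj_mono p⁻¹ h3
    rw [cj_cj, inv_mul_cancel, cj_one, cj_centralizer, cj_eq_of_mem_normalizer (inv_mem (hVn hp))] at h4
    exact h4

theorem oddGen_le_KW (h : IsPar (S : Subgroup G) P) (hVn : P ≤ normalizer (V : Set G))
    (ho : o2 P ≤ centralizer (V : Set G)) (hWP : W ≤ P) (hW2 : IsPGroup 2 W)
    (hWV : ¬ W ≤ centralizer (V : Set G)) : oddGen P ≤ KW P W :=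
  oddGen_le_of_sup (fun _ hp => mem_normalizer_of_cj_le (cj_KW hp)) (KW_sup h hVn ho hWP hW2 hWV).ge h.le
    (KW_le_P hWP) S.isPGroup'

theorem cen_KW (h : Cfg S P) (hWP : W ≤ P) (hW2 : IsPGroup 2 W)
    (hWV : ¬ W ≤ centralizer (zl (S : Subgroup G) P : Set G)) :
    zl (S : Subgroup G) P ⊓ centralizer (KW P W : Set G) = ⊥ := by
  rw [eq_bot_iff, ← h.one.cen]
  exact inf_le_inf_left _ (centralizer_le (oddGen_le_KW h.par h.sit.norm h.sit.o2_le hWP hW2 hWV))

theorem two_of_flat (h : FlatM V E F W) (hc : V ≤ centralizer (V : Set G)) (d : Dec W V X Y) :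
    W ≤ centralizer (X : Set G) ∨ W ≤ centralizer (Y : Set G) := by
  by_cases hX : X = ⊥
  · left; rw [hX]; intro w _; rw [mem_centralizer_iff]
    intro x hx; rw [mem_bot.mp hx]; simp
  by_cases hY : Y = ⊥
  · right; rw [hY]; intro w _; rw [mem_centralizer_iff]
    intro x hx; rw [mem_bot.mp hx]; simp
  let Vf : Bool → Subgroup G := fun b => cond b X Y
  have hXY : X ≠ Y := by
    intro e
    have := d.inf
    rw [← e, inf_idem] at this
    exact hX this
  have hD : WRF.Dec V Vf := by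
    refine ⟨fun a ha b hb => mem_centralizer_iff.1 (hc hb) a ha, ?_, ?_⟩
    · rw [iSupIndep_pair (i := true) (j := false) (by simp) (by decide)]
      rw [disjoint_iff]
      exact d.inf
    · rw [iSup_bool_eq]
      exact d.sup
  have hfix : ∀ s ∈ W, ∀ b, (Vf b).map (MulAut.conj s).toMonoidHom = Vf b := by
    intro s hs b
    cases b
    · exact cj_eq_of_mem_normalizer (d.nY hs)
    · exact cj_eq_of_mem_normalizer (d.nX hs)
  have hne : ∀ b, Vf b ≠ ⊥ := by
    intro b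
    cases b
    · exact hY
    · exact hX
  have hinj : ∀ a b, Vf a = Vf b → a = b := by
    intro a b hab
    cases a <;> cases b
    · rfl
    · exact absurd hab.symm hXY
    · exact absurd hab hXY
    · rfl
  obtain ⟨b₀, -, h1⟩ := h.one hD (fun s hs b => ⟨b, hfix s hs b⟩) hne
  have h2 : ∀ b, b ≠ b₀ → W ≤ centralizer (Vf b : Set G) := by
    intro b hb
    have h3 : Vf b ≤ F := by
      refine h1 b ?_
      rintro ⟨s, hs, e⟩
      rw [hfix s hs b₀] at e
      exact hb (hinj _ _ e).symm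
    rw [h.F_eq] at h3
    exact Subgroup.le_centralizer_iff.mp (h3.trans inf_le_right)
  cases b₀
  · exact Or.inl (h2 true (by decide))
  · exact Or.inr (h2 false (by decide))

theorem dat_of_flat (h : FlatM V E F W) (hc : V ≤ centralizer (V : Set G)) (hn : P ≤ normalizer (V : Set G))
    (hcen : V ⊓ centralizer (KW P W : Set G) = ⊥) : Dat P V W :=
  ⟨hc, hn, fun _ _ d => two_of_flat h hc d, hcen⟩

/-- **(5)** on `FlatM` -/
theorem indec_flat (hS : Sit S P V) (h : FlatM V E F W) (hWP : W ≤ P) (hW2 : IsPGroup 2 W)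
    (hcen : V ⊓ centralizer (KW P W : Set G) = ⊥) (hFF : F ≤ FF) (hFV : V ≤ centralizer (FF : Set G))
    (hFc : FF ≤ centralizer (FF : Set G)) (hF2 : IsPGroup 2 FF) (hZF : V ⊓ zc (S : Subgroup G) ≤ FF)
    (hbad : ¬ V ≤ o2 (centralizer (FF : Set G))) (d : Dec (KW P W) V X Y) : X = ⊥ ∨ Y = ⊥ :=
  indec hS (dat_of_flat h hS.comm hS.norm hcen) hWP hW2 (h.F_eq ▸ hFF) hFV hFc hF2 hZF hbad d

end Cfsg.Agent.Omega.NO1.WRF.Indec

end

-- merged: Cfsg.Agent.Mrg.Omega.NO1.WRF.Irr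
section

section


/-!
# (IRR) (bb OMEGA #16754, helper2; referee #16960)

`V = V_P`, `FlatM V E F W` with `|V : E| < |E : F|`, `W` a 2-subgroup of `P`, `Z = Ω₁(Z(S)) ≤ F`;
`V₁ = [V, O²(P)]`.

* `FDat.le_of` : every `P`-invariant `1 ≠ V' ≤ V` contains `V₁`; so `V₁` is an irreducible `P`-module;
* `FDat.sup_eq` : `V = V₁ Z`;
* `FDat.sit1`, `FDat.flat1` : `Sit`, `FlatM` for `V₁`;
* `FDat.irr_K` : `V₁` is an irreducible module for `K = ⟨W^P⟩` if `V ≰ O₂(C_G(FF))`, `F ≤ FF`.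
-/

set_option autoImplicit false
set_option linter.unusedSectionVars false

namespace Cfsg.Agent.Omega.NO1.WRF.Irr

open Subgroup Cfsg Cfsg.Agent.ZN Cfsg.Agent.ZN.ChoiceBase Cfsg.Agent.Omega.MinPar Cfsg.Agent.Omega.Frame
open Cfsg.Agent.Omega.NO1 Cfsg.Agent.Omega.NO1.WRF.Single Cfsg.Agent.Omega.NO1.WRF.Indec
open Cfsg.Agent.MinSimple.VModule (oddGen oddGen_le_of_sup oddGen_le le_normalizer_oddGen)
open scoped commutatorElement

universe u

variable {G : Type u} [Group G] [Finite G]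

/-- `V₁ = [V_P, O²(P)]` -/
def V1 (S : Sylow 2 G) (P : Subgroup G) : Subgroup G := ⁅zl (S : Subgroup G) P, oddGen P⁆

/-- The data of (IRR). -/
structure FDat (S : Sylow 2 G) (P E F W : Subgroup G) : Prop where
  cfg : Cfg S P
  flat : FlatM (zl (S : Subgroup G) P) E F W
  lt : E.relIndex (zl (S : Subgroup G) P) < F.relIndex E
  WP : W ≤ P
  W2 : IsPGroup 2 W
  Z_le : zc (S : Subgroup G) ≤ F

/-- `|E : F| ≤ |W : W ∩ C|` if `C` centralises `V`. -/
theorem relIndex_le_of_flat {V E F W C : Subgroup G} (h : FlatM V E F W) (hc : V ≤ centralizer (V : Set G))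
    (hC : C ≤ centralizer (V : Set G)) : F.relIndex E ≤ C.relIndex W := by
  obtain ⟨w, hw, hwE⟩ := SetLike.not_le_iff_exists.1 h.ne'
  -- a surjection `W / (W ∩ C) → E / F`
  have hsurj : ∀ e : E, ∃ s : W, (w⁻¹ * (s * w * (s : G)⁻¹))⁻¹ * e ∈ F := by
    intro e
    obtain ⟨s, hs, f, hf, he⟩ := h.reg w hw hwE e e.2
    exact ⟨⟨s, hs⟩, by rw [he]; simpa [mul_assoc] using hf⟩
  choose σ hσ using hsurj
  have hF : ∀ f ∈ F, ∀ v ∈ V, f * v = v * f := fun f hf v hv =>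
    (mem_centralizer_iff.1 (hc (h.F_eq ▸ hf : f ∈ V ⊓ centralizer (W : Set G)).1) v hv).symm
  let φ : E → W ⧸ C.subgroupOf W := fun e => (σ e : W ⧸ C.subgroupOf W)
  have hφ : ∀ e e' : E, φ e = φ e' → (e : G)⁻¹ * e' ∈ F := by
    intro e e' hee
    have h1 : (σ e)⁻¹ * σ e' ∈ C.subgroupOf W := QuotientGroup.eq.mp hee
    have h2 : ((σ e : G))⁻¹ * (σ e' : G) ∈ C := h1
    have h3 := mem_centralizer_iff.1 (hC h2) w hw
    have h4 : (σ e : G) * w * (σ e : G)⁻¹ = (σ e' : G) * w * (σ e' : G)⁻¹ := by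
      have h5 : (σ e : G) * (w * ((σ e : G)⁻¹ * (σ e' : G))) * (σ e' : G)⁻¹ =
          (σ e : G) * ((σ e : G)⁻¹ * (σ e' : G) * w) * (σ e' : G)⁻¹ := by rw [h3]
      calc (σ e : G) * w * (σ e : G)⁻¹ = (σ e : G) * (w * ((σ e : G)⁻¹ * (σ e' : G))) * (σ e' : G)⁻¹ := by group
        _ = (σ e : G) * ((σ e : G)⁻¹ * (σ e' : G) * w) * (σ e' : G)⁻¹ := h5
        _ = (σ e' : G) * w * (σ e' : G)⁻¹ := by group
    have h6 := hσ e
    have h7 := hσ e'
    rw [h4] at h6
    have h8 := F.mul_mem (F.inv_mem h6) h7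
    have e1 : ((w⁻¹ * ((σ e' : G) * w * (σ e' : G)⁻¹))⁻¹ * (e : G))⁻¹ * ((w⁻¹ * ((σ e' : G) * w * (σ e' : G)⁻¹))⁻¹ * e')
        = (e : G)⁻¹ * e' := by group
    rwa [e1] at h8
  let ψ : E ⧸ F.subgroupOf E → W ⧸ C.subgroupOf W := fun q => φ q.out
  have hψ : Function.Injective ψ := by
    intro q q' hq
    have h1 := hφ _ _ hq
    have h2 : ((q.out : E) : E ⧸ F.subgroupOf E) = ((q'.out : E) : E ⧸ F.subgroupOf E) := QuotientGroup.eq.mpr h1
    rwa [QuotientGroup.out_eq', QuotientGroup.out_eq'] at h2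
  exact Nat.card_le_card_of_injective ψ hψ

theorem relIndex_sup_of_norm {H N : Subgroup G} (h : H ≤ normalizer (N : Set G)) :
    N.relIndex (H ⊔ N) = N.relIndex H := by
  have hN : (N.subgroupOf (H ⊔ N)).Normal :=
    normal_subgroupOf_of_le_normalizer (sup_le h le_normalizer)
  have h1 := relIndex_sup_right (H.subgroupOf (H ⊔ N)) (N.subgroupOf (H ⊔ N))
  rw [← Subgroup.subgroupOf_sup le_sup_left le_sup_right, Subgroup.subgroupOf_self,
    Subgroup.relIndex_subgroupOf le_sup_left, relIndex_top_right] at h1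
  exact h1

namespace FDat

variable {S : Sylow 2 G} {P E F W FF : Subgroup G} (h : FDat S P E F W)
include h

theorem F_le_V : F ≤ zl (S : Subgroup G) P := h.flat.F_le

theorem E_le_V : E ≤ zl (S : Subgroup G) P := h.flat.le

theorem F_le_E : F ≤ E := by
  obtain ⟨w, hw, hwE⟩ := SetLike.not_le_iff_exists.1 h.flat.ne'
  obtain ⟨e, he, heF⟩ := SetLike.not_le_iff_exists.1 h.flat.ne
  by_contra hcon
  obtain ⟨f, hf, hfE⟩ := SetLike.not_le_iff_exists.1 hcon
  apply heF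
  obtain ⟨s, hs, f', hf', he'⟩ := h.flat.reg f (h.F_le_V hf) hfE e he
  have h1 := h.flat.F_cent hf hs
  rw [he', h1]
  simpa using hf'

theorem syl : ChoiceSit.Syl (S : Subgroup G) P :=
  ⟨h.cfg.S_le, S.isPGroup', fun _ _ hR hSR => S.is_maximal' hR hSR⟩

theorem V_comm' : ∀ x ∈ zl (S : Subgroup G) P, ∀ y ∈ zl (S : Subgroup G) P, x * y = y * x :=
  fun x hx _ hy => mem_centralizer_iff.1 (h.cfg.V_comm hy) x hx

theorem V_sq' : ∀ x ∈ zl (S : Subgroup G) P, x * x = 1 := fun x hx => by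
  rw [← pow_two]; exact h.cfg.V_sq x hx

theorem relIndex_le : F.relIndex E ≤ (o2 P).relIndex W :=
  relIndex_le_of_flat h.flat h.cfg.V_comm h.cfg.sit.o2_le

/-- `[f, s] = 1` -/
theorem comm_F {f s : G} (hf : f ∈ F) (hs : s ∈ W) : f * s * f⁻¹ * s⁻¹ = 1 := by
  have h1 := h.flat.F_cent hf hs
  have h2 : s * f = f * s := by
    calc s * f = s * f * s⁻¹ * s := by group
      _ = f * s := by rw [h1]
  rw [← h2]
  group

/-- **(IRR)** -/
theorem le_of {V' : Subgroup G} (hV' : V' ≤ zl (S : Subgroup G) P) (hn : P ≤ normalizer (V' : Set G))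
    (hne : V' ≠ ⊥) : V1 S P ≤ V' := by
  by_contra hcon
  have hPV : P ≤ normalizer (zl (S : Subgroup G) P : Set G) := h.cfg.sit.norm
  have hWc : ∀ s ∈ W, ∀ v ∈ V', v * s * v⁻¹ * s⁻¹ ∈ V' := by
    intro s hs v hv
    have h1 := (mem_normalizer_iff.mp (hn (h.WP hs)) v⁻¹).mp (V'.inv_mem hv)
    have e : v * s * v⁻¹ * s⁻¹ = v * (s * v⁻¹ * s⁻¹) := by group
    rw [e]
    exact V'.mul_mem hv h1
  -- `O²(P)` acts nontrivially on `V / V'`
  have hnt : ∃ c ∈ zl (S : Subgroup G) P, ∃ x ∈ oddGen P, c * x * c⁻¹ * x⁻¹ ∉ V' := by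
    by_contra hc
    push Not at hc
    apply hcon
    rw [V1, commutator_le]
    intro c hc' x hx
    exact hc c hc' x hx
  have hkey : ∀ K : Subgroup G, V' ≤ K → K ≤ zl (S : Subgroup G) P →
      (∀ b ∈ K, ∀ s ∈ W, b * s * b⁻¹ * s⁻¹ ∈ V') → (o2 P).relIndex W ≤ K.relIndex (zl (S : Subgroup G) P) := by
    intro K hK1 hK2 hK3
    exact NoOvQ.noOvQ h.syl h.cfg.par.toIsMinPar h.V_comm' h.V_sq' hK1 hK2 le_rfl hn hPV hnt h.WP h.W2
      h.flat.ab h.flat.inv hK3
  by_cases hVE : V' ≤ E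
  · -- `V' ≤ E`
    have hnt' : ∃ c ∈ V', ∃ x ∈ oddGen P, c * x * c⁻¹ * x⁻¹ ∉ (⊥ : Subgroup G) := by
      by_contra hc
      push Not at hc
      apply hne
      rw [eq_bot_iff, ← h.cfg.one.cen]
      refine le_inf hV' fun v hv => mem_centralizer_iff.mpr fun x hx => ?_
      have h1 := mem_bot.mp (hc v hv x hx)
      have h2 : v * x = x * v := by
        calc v * x = (v * x * v⁻¹ * x⁻¹) * (x * v) := by group
          _ = x * v := by rw [h1, one_mul]
      exact h2.symm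
    have h1 : (o2 P).relIndex W ≤ (V' ⊓ F).relIndex V' := by
      refine NoOvQ.noOvQ h.syl h.cfg.par.toIsMinPar h.V_comm' h.V_sq' bot_le inf_le_left hV' ?_ hn hnt' h.WP h.W2
        (fun s hs t ht v hv => h.flat.ab s hs t ht v (hV' hv)) (fun s hs v hv => h.flat.inv s hs v (hV' hv)) ?_
      · intro x _
        rw [mem_normalizer_iff]
        intro y
        rw [mem_bot, mem_bot]
        constructor
        · rintro rfl; group
        · intro h1
          have : y = x⁻¹ * (x * y * x⁻¹) * x := by group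
          rw [this, h1]; group
      · intro b hb s hs
        rw [h.comm_F hb.2 hs]
        exact one_mem _
    rw [inf_relIndex_left] at h1
    -- `|V' : V' ∩ F| = |V' F : F|`
    have hFE := h.F_le_E
    have hVF : V' ⊔ F ≤ E := sup_le hVE hFE
    have hnF : V' ≤ normalizer (F : Set G) := by
      refine le_trans ?_ (centralizer_le_normalizer _)
      exact hV'.trans (h.cfg.V_comm.trans (centralizer_le h.F_le_V))
    have h2 : F.relIndex (V' ⊔ F) = F.relIndex V' := relIndex_sup_of_norm hnF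
    have h3 : F.relIndex (V' ⊔ F) * (V' ⊔ F).relIndex E = F.relIndex E := relIndex_mul_relIndex F _ E le_sup_right hVF
    have h4 : (V' ⊔ F).relIndex E = 1 := by
      have h5 := h.relIndex_le
      have hpos : 0 < (V' ⊔ F).relIndex E := Nat.pos_of_ne_zero Subgroup.index_ne_zero_of_finite
      have hpos' : 0 < F.relIndex (V' ⊔ F) := Nat.pos_of_ne_zero Subgroup.index_ne_zero_of_finite
      rw [← h3, h2] at h5
      have h6 : F.relIndex V' * (V' ⊔ F).relIndex E ≤ F.relIndex V' := h5.trans h1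
      rw [h2] at hpos'
      have h7 : (V' ⊔ F).relIndex E ≤ 1 := by
        by_contra hlt
        push Not at hlt
        have := Nat.mul_lt_mul_of_pos_left hlt hpos'
        omega
      omega
    have hEV : E ≤ V' ⊔ F := relIndex_eq_one.1 h4
    have h5 := hkey E hVE h.E_le_V (by
      intro b hb s hs
      obtain ⟨v, hv, f, hf, rfl⟩ := exists_mul_of_mem_sup h.cfg.V_comm hV' h.F_le_V (hEV hb)
      have h6 := h.comm_F hf hs
      have e : v * f * s * (v * f)⁻¹ * s⁻¹ = v * (f * s * f⁻¹ * s⁻¹) * (s * v⁻¹ * s⁻¹) := by group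
      rw [e, h6, mul_one]
      have e2 : v * (s * v⁻¹ * s⁻¹) = v * s * v⁻¹ * s⁻¹ := by group
      rw [e2]
      exact hWc s hs v hv)
    exact absurd (lt_of_lt_of_le h.lt (h.relIndex_le.trans h5)) (lt_irrefl _)
  · -- `V' ≰ E`
    obtain ⟨v, hv, hvE⟩ := SetLike.not_le_iff_exists.1 hVE
    have hEK : E ≤ V' ⊔ F := by
      intro e he
      obtain ⟨s, hs, f, hf, he'⟩ := h.flat.reg v (hV' hv) hvE e he
      rw [he']
      refine mul_mem_sup ?_ hf
      exact V'.mul_mem (V'.inv_mem hv) ((mem_normalizer_iff.mp (hn (h.WP hs)) v).mp hv)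
    have h1 := hkey (V' ⊔ F) le_sup_left (sup_le hV' h.F_le_V) (by
      intro b hb s hs
      obtain ⟨v, hv, f, hf, rfl⟩ := exists_mul_of_mem_sup h.cfg.V_comm hV' h.F_le_V hb
      have h6 := h.comm_F hf hs
      have e : v * f * s * (v * f)⁻¹ * s⁻¹ = v * (f * s * f⁻¹ * s⁻¹) * (s * v⁻¹ * s⁻¹) := by group
      rw [e, h6, mul_one]
      have e2 : v * (s * v⁻¹ * s⁻¹) = v * s * v⁻¹ * s⁻¹ := by group
      rw [e2]
      exact hWc s hs v hv)
    have h2 : (V' ⊔ F).relIndex (zl (S : Subgroup G) P) ≤ E.relIndex (zl (S : Subgroup G) P) :=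
      relIndex_le_of_le_left hEK Subgroup.index_ne_zero_of_finite
    exact absurd (lt_of_lt_of_le h.lt (h.relIndex_le.trans (h1.trans h2))) (lt_irrefl _)

theorem V1_le : V1 S P ≤ zl (S : Subgroup G) P := by
  rw [V1, commutator_le]
  intro v hv x hx
  have h1 := (mem_normalizer_iff.mp (h.cfg.sit.norm (oddGen_le P hx)) v⁻¹).mp (inv_mem hv)
  have e : ⁅v, x⁆ = v * (x * v⁻¹ * x⁻¹) := by rw [commutatorElement_def]; group
  rw [e]
  exact mul_mem hv h1

/-- `P` normalises `V₁` -/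
theorem P_norm_V1 : P ≤ normalizer (V1 S P : Set G) := by
  intro p hp
  refine mem_normalizer_of_cj_le ?_
  rw [V1, cj, Subgroup.map_commutator]
  exact commutator_mono (cj_eq_of_mem_normalizer (h.cfg.sit.norm hp)).le
    (cj_eq_of_mem_normalizer (le_normalizer_oddGen P hp)).le

theorem V1_ne : V1 S P ≠ ⊥ := by
  intro h0
  have h1 : zl (S : Subgroup G) P ≤ centralizer (oddGen P : Set G) := by
    rw [V1, commutator_eq_bot_iff_le_centralizer] at h0
    exact h0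
  have h2 := h.cfg.one.cen
  rw [inf_eq_left.2 h1] at h2
  have h3 := h.flat.ne'
  rw [h2] at h3
  exact h3 bot_le

/-- `V = V₁ Z` -/
theorem sup_eq : V1 S P ⊔ zc (S : Subgroup G) = zl (S : Subgroup G) P := by
  refine le_antisymm (sup_le h.V1_le h.cfg.Z_le_V) ?_
  -- `O²(P)` centralises `V / V₁`
  have hodd : ∀ x ∈ oddGen P, ∀ v ∈ zl (S : Subgroup G) P, x * v * x⁻¹ * v⁻¹ ∈ V1 S P := by
    intro x hx v hv
    have h1 : ⁅v, x⁆ ∈ V1 S P := commutator_mem_commutator hv hx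
    have e : x * v * x⁻¹ * v⁻¹ = ⁅v, x⁆⁻¹ := by rw [commutatorElement_def]; group
    rw [e]
    exact inv_mem h1
  have hP : oddGen P ⊔ (S : Subgroup G) = P :=
    NoFF.LinesPlug.oddGen_sup h.cfg.S_le (MinSimple.Basic.not_dvd_relIndex S h.cfg.S_le)
  have hdec : ∀ p ∈ P, ∃ x ∈ oddGen P, ∃ s ∈ (S : Subgroup G), x * s = p := by
    intro p hp
    have h1 : p ∈ (((S : Subgroup G) ⊔ oddGen P : Subgroup G) : Set G) := by
      rw [sup_comm, hP]; exact hp
    have hn := h.cfg.S_le.trans (le_normalizer_oddGen P)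
    rw [coe_mul_of_left_le_normalizer_right _ _ hn] at h1
    obtain ⟨s, hs, k, hk, rfl⟩ := h1
    refine ⟨s * k * s⁻¹, (mem_normalizer_iff.mp (hn hs) k).mp hk, s, hs, ?_⟩
    change s * k * s⁻¹ * s = s * k
    group
  refine h.cfg.sit.gen _ fun p hp z hzV hz => ?_
  obtain ⟨x, hx, s, hs, rfl⟩ := hdec p hp
  have h1 : s * z * s⁻¹ = z := by
    have h0 := (ChoiceBase.mem_zc.1 hz).2.2 s hs
    calc s * z * s⁻¹ = z * s * s⁻¹ := by rw [h0]
      _ = z := by group
  have e : x * s * z * (x * s)⁻¹ = (x * z * x⁻¹ * z⁻¹) * z := by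
    calc x * s * z * (x * s)⁻¹ = x * (s * z * s⁻¹) * x⁻¹ := by group
      _ = (x * z * x⁻¹ * z⁻¹) * z := by rw [h1]; group
  rw [e]
  exact mul_mem_sup (hodd x hx z hzV) hz

/-- `V₁` is an irreducible `P`-module. -/
theorem irr {V' : Subgroup G} (hV' : V' ≤ V1 S P) (hn : P ≤ normalizer (V' : Set G)) : V' = ⊥ ∨ V' = V1 S P := by
  by_cases hne : V' = ⊥
  · exact Or.inl hne
  · exact Or.inr (le_antisymm hV' (h.le_of (hV'.trans h.V1_le) hn hne))

theorem V1_inf_zc : V1 S P ⊓ zc (S : Subgroup G) ≠ ⊥ := by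
  obtain ⟨x, hx, hx1, hxS⟩ := NoFF.LinesPlug.exists_fixed S.isPGroup' (h.V1_le.trans h.cfg.V_le_S)
    (h.cfg.S_le.trans h.P_norm_V1) h.V1_ne
  intro h0
  have h1 : x ∈ V1 S P ⊓ zc (S : Subgroup G) :=
    ⟨hx, ChoiceBase.mem_zc.2 ⟨h.cfg.V_le_S (h.V1_le hx), h.cfg.V_sq x (h.V1_le hx), hxS⟩⟩
  rw [h0, mem_bot] at h1
  exact hx1 h1

/-- the situation of `Single` for `V₁` -/
theorem sit1 : Sit S P (V1 S P) where
  char2 := h.cfg.ctx.char2
  par := h.cfg.par
  le := h.V1_le.trans h.cfg.V_le_S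
  comm := h.V1_le.trans (h.cfg.V_comm.trans (centralizer_le h.V1_le))
  norm := h.P_norm_V1
  o2_le := h.cfg.sit.o2_le.trans (centralizer_le h.V1_le)
  gen := fun X hX => by
    let Y : Subgroup G := ⨆ p ∈ P, cj p (V1 S P ⊓ zc (S : Subgroup G))
    have hYX : Y ≤ X := by
      refine iSup₂_le fun p hp => ?_
      rintro _ ⟨z, hz, rfl⟩
      exact hX p hp z hz.1 hz.2
    have hYV : Y ≤ V1 S P := by
      refine iSup₂_le fun p hp => ?_
      refine (cj_mono p inf_le_left).trans ?_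
      exact (cj_eq_of_mem_normalizer (h.P_norm_V1 hp)).le
    have hYn : P ≤ normalizer (Y : Set G) := fun p hp => mem_normalizer_of_cj_le (cj_KW hp)
    have hYne : Y ≠ ⊥ := by
      intro h0
      apply h.V1_inf_zc
      rw [eq_bot_iff, ← h0]
      exact le_KW
    have := (h.irr hYV hYn).resolve_left hYne
    rw [← this]
    exact hYX

/-- `FlatM` for `V₁` -/
theorem flat1 : FlatM (V1 S P) (E ⊓ V1 S P) (F ⊓ V1 S P) W where
  le := inf_le_right
  F_eq := by
    rw [h.flat.F_eq, inf_assoc, inf_comm _ (V1 S P), ← inf_assoc, inf_eq_right.2 h.V1_le]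
  norm := fun s hs v hv => (mem_normalizer_iff.mp (h.P_norm_V1 (h.WP hs)) v).mp hv
  VE := fun s hs v hv => ⟨h.flat.VE s hs v (h.V1_le hv), (V1 S P).mul_mem ((V1 S P).inv_mem hv)
    ((mem_normalizer_iff.mp (h.P_norm_V1 (h.WP hs)) v).mp hv)⟩
  EF := fun s hs v hv => ⟨h.flat.EF s hs v hv.1, (V1 S P).mul_mem ((V1 S P).inv_mem hv.2)
    ((mem_normalizer_iff.mp (h.P_norm_V1 (h.WP hs)) v).mp hv.2)⟩
  reg := fun w hw hwE e he => by
    have hwE' : w ∉ E := fun h1 => hwE ⟨h1, hw⟩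
    obtain ⟨s, hs, f, hf, he'⟩ := h.flat.reg w (h.V1_le hw) hwE' e he.1
    refine ⟨s, hs, f, ⟨hf, ?_⟩, he'⟩
    have h1 : w⁻¹ * (s * w * s⁻¹) ∈ V1 S P := mul_mem (inv_mem hw)
      ((mem_normalizer_iff.mp (h.P_norm_V1 (h.WP hs)) w).mp hw)
    have e1 : f = (w⁻¹ * (s * w * s⁻¹))⁻¹ * e := by rw [he']; group
    rw [e1]
    exact (V1 S P).mul_mem ((V1 S P).inv_mem h1) he.2
  ab := fun s hs t ht v hv => h.flat.ab s hs t ht v (h.V1_le hv)
  inv := fun s hs v hv => h.flat.inv s hs v (h.V1_le hv)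
  ne := by
    intro hle
    apply h.flat.ne
    intro e he
    have h1 : e ∈ V1 S P ⊔ zc (S : Subgroup G) := by rw [h.sup_eq]; exact h.E_le_V he
    obtain ⟨v, hv, z, hz, rfl⟩ := exists_mul_of_mem_sup h.cfg.V_comm h.V1_le h.cfg.Z_le_V h1
    have hzF := h.Z_le hz
    have h2 : v ∈ E := by
      have := E.mul_mem he (E.inv_mem (h.F_le_E hzF))
      rwa [mul_inv_cancel_right] at this
    exact F.mul_mem (hle ⟨h2, hv⟩).1 hzF
  ne' := by
    intro hle
    apply h.flat.ne'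
    rw [← h.sup_eq]
    exact sup_le (hle.trans inf_le_left) (h.Z_le.trans h.F_le_E)

theorem W_not_le : ¬ W ≤ centralizer (zl (S : Subgroup G) P : Set G) := by
  intro hc
  apply h.flat.ne
  refine h.E_le_V.trans ?_
  rw [h.flat.F_eq]
  exact le_inf le_rfl (Subgroup.le_centralizer_iff.mp hc)

theorem cen_KW1 : V1 S P ⊓ centralizer (KW P W : Set G) = ⊥ := by
  rw [eq_bot_iff, ← cen_KW h.cfg h.WP h.W2 h.W_not_le]
  exact inf_le_inf_right _ h.V1_le

/-- **`V₁` is an indecomposable module for `K = ⟨W^P⟩`** -/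
theorem indec1 {X Y : Subgroup G} (hFF : F ≤ FF) (hFV : zl (S : Subgroup G) P ≤ centralizer (FF : Set G))
    (hFc : FF ≤ centralizer (FF : Set G)) (hF2 : IsPGroup 2 FF)
    (hbad : ¬ zl (S : Subgroup G) P ≤ o2 (centralizer (FF : Set G))) (d : Indec.Dec (KW P W) (V1 S P) X Y) :
    X = ⊥ ∨ Y = ⊥ := by
  have hFo : FF ≤ o2 (centralizer (FF : Set G)) := le_o2 hFc hF2 (centralizer_le_normalizer _)
  refine indec_flat h.sit1 h.flat1 h.WP h.W2 h.cen_KW1 (inf_le_left.trans hFF) (h.V1_le.trans hFV) hFc hF2 ?_ ?_ d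
  · exact inf_le_right.trans (h.Z_le.trans hFF)
  · intro h1
    apply hbad
    rw [← h.sup_eq]
    exact sup_le h1 ((h.Z_le.trans hFF).trans hFo)

/-- **`V₁` is an irreducible module for `K = ⟨W^P⟩`** -/
theorem irr_K {X : Subgroup G} (hFF : F ≤ FF) (hFV : zl (S : Subgroup G) P ≤ centralizer (FF : Set G))
    (hFc : FF ≤ centralizer (FF : Set G)) (hF2 : IsPGroup 2 FF)
    (hbad : ¬ zl (S : Subgroup G) P ≤ o2 (centralizer (FF : Set G))) (hX : X ≤ V1 S P)
    (hn : KW P W ≤ normalizer (X : Set G)) : X = ⊥ ∨ X = V1 S P := by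
  by_cases hX0 : X = ⊥
  · exact Or.inl hX0
  right
  have hV1c := h.sit1.comm
  -- a minimal submodule
  obtain ⟨X₀, hmin⟩ := (Set.toFinite {Z : Subgroup G | KW P W ≤ normalizer (Z : Set G) ∧ Z ≠ ⊥ ∧ Z ≤ X}).exists_minimal
    ⟨X, hn, hX0, le_rfl⟩
  obtain ⟨⟨hn0, hne0, hle0⟩, hmin⟩ := hmin
  have hmin' : ∀ Z : Subgroup G, KW P W ≤ normalizer (Z : Set G) → Z ≤ X₀ → Z = ⊥ ∨ Z = X₀ := by
    intro Z hZn hZ
    by_cases hZ0 : Z = ⊥
    · exact Or.inl hZ0
    · exact Or.inr (le_antisymm hZ (hmin ⟨hZn, hZ0, hZ.trans hle0⟩ hZ))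
  have hX0V : X₀ ≤ V1 S P := hle0.trans hX
  have hconjn : ∀ p ∈ P, ∀ Z : Subgroup G, KW P W ≤ normalizer (Z : Set G) → KW P W ≤ normalizer (cj p Z : Set G) := by
    intro p hp Z hZ
    rw [← cj_normalizer, ← cj_KW_eq (W := W) hp]
    exact cj_mono p hZ
  have hinfn : ∀ Z Z' : Subgroup G, KW P W ≤ normalizer (Z : Set G) → KW P W ≤ normalizer (Z' : Set G) →
      KW P W ≤ normalizer ((Z ⊓ Z' : Subgroup G) : Set G) := by
    intro Z Z' h1 h2 k hk
    refine mem_normalizer_of_cj_le ?_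
    rw [cj_inf, cj_eq_of_mem_normalizer (h1 hk), cj_eq_of_mem_normalizer (h2 hk)]
  have hsupn : ∀ Z Z' : Subgroup G, KW P W ≤ normalizer (Z : Set G) → KW P W ≤ normalizer (Z' : Set G) →
      KW P W ≤ normalizer ((Z ⊔ Z' : Subgroup G) : Set G) := by
    intro Z Z' h1 h2 k hk
    refine mem_normalizer_of_cj_le ?_
    rw [cj, Subgroup.map_sup]
    exact sup_le_sup (cj_eq_of_mem_normalizer (h1 hk)).le (cj_eq_of_mem_normalizer (h2 hk)).le
  -- a maximal complement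
  obtain ⟨Y, hmax⟩ := (Set.toFinite {Z : Subgroup G | KW P W ≤ normalizer (Z : Set G) ∧ Z ≤ V1 S P ∧
    X₀ ⊓ Z = ⊥}).exists_maximal ⟨⊥, by
      refine ⟨?_, bot_le, inf_bot_eq _⟩
      intro k _
      exact mem_normalizer_of_cj_le (cj_bot k).le⟩
  obtain ⟨⟨hYn, hYV, hY0⟩, hmax⟩ := hmax
  have hsup : X₀ ⊔ Y = V1 S P := by
    refine le_antisymm (sup_le hX0V hYV) ?_
    have hT : ⨆ p ∈ P, cj p X₀ = V1 S P := by
      refine (h.irr ?_ fun p hp => mem_normalizer_of_cj_le (cj_KW hp)).resolve_left ?_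
      · refine iSup₂_le fun p hp => (cj_mono p hX0V).trans ?_
        exact (cj_eq_of_mem_normalizer (h.P_norm_V1 hp)).le
      · intro h0
        apply hne0
        rw [eq_bot_iff, ← h0]
        exact le_KW
    rw [← hT]
    refine iSup₂_le fun p hp => ?_
    have hcV : cj p X₀ ≤ V1 S P := by
      rw [← hT]; exact cj_le_KW hp
    by_contra hcon
    have hcn := hconjn p hp X₀ hn0
    have h1 : cj p X₀ ⊓ (X₀ ⊔ Y) = ⊥ := by
      have h2 := hmin' (cj p⁻¹ (cj p X₀ ⊓ (X₀ ⊔ Y))) (hconjn _ (inv_mem hp) _ (hinfn _ _ hcn (hsupn _ _ hn0 hYn))) (by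
        have := cj_mono p⁻¹ (inf_le_left : cj p X₀ ⊓ (X₀ ⊔ Y) ≤ cj p X₀)
        rwa [cj_cj, inv_mul_cancel, cj_one] at this)
      rcases h2 with h2 | h2
      · have := congrArg (cj p) h2
        rwa [cj_cj_inv, cj_bot] at this
      · exfalso
        have := congrArg (cj p) h2
        rw [cj_cj_inv] at this
        exact hcon (inf_eq_left.mp this)
    have h2 : X₀ ⊓ (Y ⊔ cj p X₀) = ⊥ := by
      rw [eq_bot_iff]
      rintro x ⟨hx, hx'⟩
      obtain ⟨y, hy, c, hc, rfl⟩ := exists_mul_of_mem_sup hV1c hYV hcV hx'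
      have h3 : c ∈ cj p X₀ ⊓ (X₀ ⊔ Y) := by
        refine ⟨hc, ?_⟩
        have e : c = y⁻¹ * (y * c) := by group
        rw [e]
        exact (X₀ ⊔ Y).mul_mem ((X₀ ⊔ Y).inv_mem ((le_sup_right : Y ≤ X₀ ⊔ Y) hy)) ((le_sup_left : X₀ ≤ X₀ ⊔ Y) hx)
      rw [h1, mem_bot] at h3
      subst h3
      change y * 1 ∈ _ at hx
      rw [mul_one] at hx ⊢
      rw [← hY0]
      exact ⟨hx, hy⟩
    have h3 := hmax ⟨hsupn _ _ hYn hcn, sup_le hYV hcV, h2⟩ le_sup_left
    exact hcon ((le_sup_right.trans h3).trans le_sup_right)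
  have hY := (h.indec1 hFF hFV hFc hF2 hbad ⟨hsup, hY0, hn0, hYn⟩).resolve_left hne0
  rw [hY, sup_bot_eq] at hsup
  exact le_antisymm hX (hsup ▸ hle0)

end FDat

end Cfsg.Agent.Omega.NO1.WRF.Irr

end

section


/-!
# TEXT B4 #15506, step (10): back to `V_P`

`Hyp V F` (THEOREM FLAT for the big module `V`), `V_P ≤ V`, `W = W_F ≤ S`, `V_P ≰ E_F`:

* `flat_of_hyp` : `FlatM V_P (V_P ∩ E_F) (V_P ∩ F) W_F`;
* `fdat_of_hyp` : `FDat S P (V_P ∩ E_F) (V_P ∩ F) W_F`, so (IRR) holds: `irr_of_hyp`, `irrK_of_hyp`.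
-/

set_option autoImplicit false
set_option linter.unusedSectionVars false

namespace Cfsg.Agent.Omega.NO1.WRF.Irr

open Subgroup Cfsg Cfsg.Agent.ZN Cfsg.Agent.ZN.ChoiceBase Cfsg.Agent.Omega.MinPar Cfsg.Agent.Omega.Frame
open Cfsg.Agent.Omega.NO1 Cfsg.Agent.Omega.NO1.WRF.Single Cfsg.Agent.Omega.NO1.WRF.Indec
open Cfsg.Agent.Omega.NOne.Flat (Hyp WW)
open Cfsg.Agent.Omega.NOne.NearFF (c c_def)

universe u

variable {G : Type u} [Group G] [Finite G] {S : Sylow 2 G} {P V F V₀ : Subgroup G}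

section

variable (H : Hyp V F)
include H

theorem hyp_VE {v s : G} (hv : v ∈ V) (hs : s ∈ WW V F) : v⁻¹ * (s * v * s⁻¹) ∈ NOne.Flat.EE V F := by
  have h1 := H.c_memE (inv_mem hv) hs
  have e : c v⁻¹ s = v⁻¹ * (s * v * s⁻¹) := by rw [c_def]; group
  rwa [e] at h1

theorem hyp_EF {v s : G} (hv : v ∈ NOne.Flat.EE V F) (hs : s ∈ WW V F) : v⁻¹ * (s * v * s⁻¹) ∈ F := by
  have h1 := H.comm_EW (inv_mem hv) hs
  have e : c v⁻¹ s = v⁻¹ * (s * v * s⁻¹) := by rw [c_def]; group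
  rwa [e] at h1

theorem hyp_fix {f v : G} (hf : f ∈ F) (hv : v ∈ V) : f * v * f⁻¹ = v := by
  rw [H.V_comm (H.F_le_V hf) hv, mul_inv_cancel_right]

theorem hyp_norm {v s : G} (hv : v ∈ V) (hs : s ∈ WW V F) : s * v * s⁻¹ ∈ V :=
  (mem_normalizer_iff.mp (H.W_norm_V hs) v).mp hv

/-- `E_F ≤ V₀ F` for `V₀ ≰ E_F` normalised by `W` -/
theorem hyp_EE_le (h0V : V₀ ≤ V) (hn : WW V F ≤ normalizer (V₀ : Set G)) (hnot : ¬ V₀ ≤ NOne.Flat.EE V F) :
    NOne.Flat.EE V F ≤ (V₀ ⊓ NOne.Flat.EE V F) ⊔ F := by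
  obtain ⟨w, hw, hwE⟩ := SetLike.not_le_iff_exists.1 hnot
  intro e he
  obtain ⟨s, hs, hse⟩ := H.surj (h0V hw) hwE he
  have h1 : c w s ∈ V₀ := by
    have h2 := (mem_normalizer_iff.mp (hn hs) w⁻¹).mp (inv_mem hw)
    have e1 : c w s = w * (s * w⁻¹ * s⁻¹) := by rw [c_def]; group
    rw [e1]
    exact V₀.mul_mem hw h2
  have e2 : e = c w s * (c w s * e⁻¹)⁻¹ := by
    have h3 : (c w s * e⁻¹)⁻¹ = e * (c w s)⁻¹ := by group
    rw [h3, H.V_comm he.1 (inv_mem (H.c_memV (h0V hw) hs))]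
    group
  rw [e2]
  exact mul_mem_sup ⟨h1, H.c_memE (h0V hw) hs⟩ (inv_mem hse)

/-- **(10)** -/
theorem flat_of_hyp (h0V : V₀ ≤ V) (hn : WW V F ≤ normalizer (V₀ : Set G)) (hnot : ¬ V₀ ≤ NOne.Flat.EE V F) :
    FlatM V₀ (V₀ ⊓ NOne.Flat.EE V F) (V₀ ⊓ F) (WW V F) where
  le := inf_le_left
  F_eq := by
    conv_lhs => rw [← H.cent_VW]
    rw [← inf_assoc, inf_eq_left.2 h0V]
  norm := fun s hs v hv => (mem_normalizer_iff.mp (hn hs) v).mp hv
  VE := fun s hs v hv => ⟨V₀.mul_mem (V₀.inv_mem hv) ((mem_normalizer_iff.mp (hn hs) v).mp hv),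
    hyp_VE H (h0V hv) hs⟩
  EF := fun s hs v hv => ⟨V₀.mul_mem (V₀.inv_mem hv.1) ((mem_normalizer_iff.mp (hn hs) v).mp hv.1),
    hyp_EF H hv.2 hs⟩
  reg := fun w hw hwE e he => by
    have hwE' : w ∉ NOne.Flat.EE V F := fun h1 => hwE ⟨hw, h1⟩
    have hwV := h0V hw
    have hw' : w⁻¹ ∉ NOne.Flat.EE V F := fun h1 => hwE' (by simpa using inv_mem h1)
    obtain ⟨s, hs, hse⟩ := H.surj (inv_mem hwV) hw' he.2
    have e1 : c w⁻¹ s = w⁻¹ * (s * w * s⁻¹) := by rw [c_def]; group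
    rw [e1] at hse
    have hm : w⁻¹ * (s * w * s⁻¹) ∈ V₀ := V₀.mul_mem (V₀.inv_mem hw) ((mem_normalizer_iff.mp (hn hs) w).mp hw)
    refine ⟨s, hs, (w⁻¹ * (s * w * s⁻¹))⁻¹ * e, ⟨V₀.mul_mem (V₀.inv_mem hm) he.1, ?_⟩, by group⟩
    have h2 := F.inv_mem hse
    have e2 : (w⁻¹ * (s * w * s⁻¹) * e⁻¹)⁻¹ = e * (w⁻¹ * (s * w * s⁻¹))⁻¹ := by group
    rw [e2, H.V_comm (h0V he.1) (inv_mem (h0V hm))] at h2
    exact h2
  ab := fun s hs t ht v hv => by
    have hx : t * (s * v * s⁻¹) * t⁻¹ ∈ V := hyp_norm H (hyp_norm H (h0V hv) hs) ht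
    have h1 := hyp_fix H (H.comm_WW hs ht) hx
    rw [← h1, c_def]
    group
  inv := fun s hs v hv => by
    have h1 := hyp_fix H (H.sq_W hs) (h0V hv)
    calc s * (s * v * s⁻¹) * s⁻¹ = s * s * v * (s * s)⁻¹ := by group
      _ = v := h1
  ne := by
    intro hle
    have h1 := hyp_EE_le H h0V hn hnot
    have h2 : NOne.Flat.EE V F ≤ F := h1.trans (sup_le (hle.trans inf_le_right) le_rfl)
    exact absurd (lt_of_lt_of_le H.F_lt_E h2) (lt_irrefl _)
  ne' := fun hle => hnot (hle.trans inf_le_right)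

theorem hyp_lt (h0V : V₀ ≤ V) (hn : WW V F ≤ normalizer (V₀ : Set G)) (hnot : ¬ V₀ ≤ NOne.Flat.EE V F) :
    (V₀ ⊓ NOne.Flat.EE V F).relIndex V₀ < (V₀ ⊓ F).relIndex (V₀ ⊓ NOne.Flat.EE V F) := by
  have h1 : (V₀ ⊓ NOne.Flat.EE V F).relIndex V₀ ≤ (NOne.Flat.EE V F).relIndex V := by
    rw [inf_relIndex_left]
    exact relIndex_le_of_le_right h0V Subgroup.index_ne_zero_of_finite
  have h2 : (V₀ ⊓ F).relIndex (V₀ ⊓ NOne.Flat.EE V F) = F.relIndex (NOne.Flat.EE V F) := by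
    have h3 : (V₀ ⊓ NOne.Flat.EE V F) ⊔ F = NOne.Flat.EE V F :=
      le_antisymm (sup_le inf_le_right H.F_lt_E.le) (hyp_EE_le H h0V hn hnot)
    have h4 : V₀ ⊓ NOne.Flat.EE V F ≤ normalizer (F : Set G) :=
      ((inf_le_left.trans h0V).trans (H.comm.trans (centralizer_le H.F_le_V))).trans (centralizer_le_normalizer _)
    have h5 := relIndex_sup_of_norm h4
    rw [h3] at h5
    rw [h5, ← inf_relIndex_right F, ← inf_relIndex_right (V₀ ⊓ F)]
    congr 1
    refine le_antisymm (le_inf (inf_le_left.trans inf_le_right) inf_le_right)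
      (le_inf (le_inf (inf_le_right.trans inf_le_left) inf_le_left) inf_le_right)
  rw [h2]
  exact lt_of_le_of_lt h1 H.relIndex_lt

/-- **(10)** for `V_P` -/
theorem fdat_of_hyp (h : Cfg S P) (h0V : zl (S : Subgroup G) P ≤ V) (hWS : WW V F ≤ S)
    (hnot : ¬ zl (S : Subgroup G) P ≤ NOne.Flat.EE V F) :
    FDat S P (zl (S : Subgroup G) P ⊓ NOne.Flat.EE V F) (zl (S : Subgroup G) P ⊓ F) (WW V F) := by
  have hWP : WW V F ≤ P := hWS.trans h.S_le
  have hn : WW V F ≤ normalizer (zl (S : Subgroup G) P : Set G) := hWP.trans h.sit.norm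
  refine ⟨h, flat_of_hyp H h0V hn hnot, hyp_lt H h0V hn hnot, hWP, S.isPGroup'.to_le hWS, ?_⟩
  refine le_inf h.Z_le_V ?_
  rw [← H.cent_VW]
  refine le_inf (h.Z_le_V.trans h0V) fun z hz => mem_centralizer_iff.mpr fun s hs => ?_
  exact (ChoiceBase.mem_zc.1 hz).2.2 s (hWS hs)

/-- `V_P ≰ O₂(C_G(F))` -/
theorem hyp_bad (h0V : V₀ ≤ V) (hnot : ¬ V₀ ≤ NOne.Flat.EE V F) : ¬ V₀ ≤ o2 (centralizer (F : Set G)) :=
  fun h1 => hnot (le_inf h0V h1)

/-- **(IRR)** : every `P`-invariant `1 ≠ V' ≤ V_P` contains `V₁`. -/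
theorem irr_of_hyp (h : Cfg S P) (h0V : zl (S : Subgroup G) P ≤ V) (hWS : WW V F ≤ S)
    (hnot : ¬ zl (S : Subgroup G) P ≤ NOne.Flat.EE V F) {V' : Subgroup G} (hV' : V' ≤ zl (S : Subgroup G) P)
    (hn : P ≤ normalizer (V' : Set G)) (hne : V' ≠ ⊥) : V1 S P ≤ V' :=
  (fdat_of_hyp H h h0V hWS hnot).le_of hV' hn hne

/-- **(IRR)** : `V₁` is an irreducible module for `K = ⟨W_F^P⟩`. -/
theorem irrK_of_hyp (h : Cfg S P) (h0V : zl (S : Subgroup G) P ≤ V) (hWS : WW V F ≤ S)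
    (hnot : ¬ zl (S : Subgroup G) P ≤ NOne.Flat.EE V F) {X : Subgroup G} (hX : X ≤ V1 S P)
    (hn : KW P (WW V F) ≤ normalizer (X : Set G)) : X = ⊥ ∨ X = V1 S P := by
  have hV2 : IsPGroup 2 F := S.isPGroup'.to_le (H.F_le_E.trans (NOne.Flat.Hyp.E_le_W.trans hWS))
  exact (fdat_of_hyp H h h0V hWS hnot).irr_K inf_le_right
    (h0V.trans (H.comm.trans (centralizer_le H.F_le_V)))
    (H.F_le_V.trans (H.comm.trans (centralizer_le H.F_le_V))) hV2 (hyp_bad H h0V hnot) hX hn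

end

end Cfsg.Agent.Omega.NO1.WRF.Irr

end

section


/-!
# THEOREM WRF (bb OMEGA #16078), first part of step (3): `|O| = 2`

`TwoS V E F W Vf i j s` : `FlatM V E F W`, `V = ⊕ Vf k` permuted by `W`, `Vf i ≰ E`, `W` maps `Vf i` to `Vf i` or
`Vf j = (Vf i)ˢ`, the other members are in `F`; no offender in `W`; `|V/E| < |E/F|`.
Then `|Vf i| = 4` (`TwoS.card_four`) and `N_W(Vf i)` is nontrivial on `V` (`TwoS.exists_a`).
-/

set_option autoImplicit false
set_option linter.unusedSectionVars false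

namespace Cfsg.Agent.Omega.NO1.WRF

open Subgroup
open Cfsg.Agent.Omega.FFThm (ElemM OffM)
open Cfsg.Agent.Omega.NOne.Flat (Cos)

universe u v

variable {G : Type u} [Group G] {ι : Type v}

theorem relIndex_le_two' {H K : Subgroup G}
    (h : ∀ a ∈ K, ∀ b ∈ K, a ∉ H → b ∉ H → a⁻¹ * b ∈ H) : H.relIndex K ≤ 2 := by
  by_cases hle : K ≤ H
  · rw [relIndex_eq_one.mpr hle]; norm_num
  obtain ⟨a, ha, haH⟩ := SetLike.not_le_iff_exists.1 hle
  have : H.relIndex K = 2 := by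
    rw [relIndex_eq_two_iff_exists_notMem_and]
    refine ⟨a⁻¹, inv_mem ha, fun h1 => haH (by simpa using inv_mem h1), fun b hb => ?_⟩
    by_cases hbH : b ∈ H
    · exact Or.inr hbH
    · left
      have h1 := h b⁻¹ (inv_mem hb) a⁻¹ (inv_mem ha) (fun h1 => hbH (by simpa using inv_mem h1))
        (fun h1 => haH (by simpa using inv_mem h1))
      rwa [inv_inv] at h1
  rw [this]

namespace FlatM

variable {V E F W : Subgroup G} (h : FlatM V E F W) (hVc : ∀ a ∈ V, ∀ b ∈ V, a * b = b * a)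
include h hVc

/-- `[w,a] ∈ F` for one `w ∈ V - E` implies `[E,a] = 1`. -/
theorem cent_E {w a : G} (hw : w ∈ V) (hwE : w ∉ E) (ha : a ∈ W) (hc : w⁻¹ * (a * w * a⁻¹) ∈ F) {e : G}
    (he : e ∈ E) : a * e * a⁻¹ = e := by
  obtain ⟨t, ht, f, hf, rfl⟩ := h.reg w hw hwE e he
  obtain ⟨g, hg, hgd⟩ : ∃ g ∈ F, a * w * a⁻¹ = w * g := ⟨_, hc, by group⟩
  have htw := h.norm t ht w hw
  have e1 : a * (t * w * t⁻¹) * a⁻¹ = (t * w * t⁻¹) * g := by
    rw [h.ab a ha t ht w hw, hgd]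
    calc t * (w * g) * t⁻¹ = (t * w * t⁻¹) * (t * g * t⁻¹) := by group
      _ = _ := by rw [h.F_cent hg ht]
  have c1 := hVc g (h.F_le hg) (w⁻¹ * (t * w * t⁻¹)) (mul_mem (inv_mem hw) htw)
  calc a * (w⁻¹ * (t * w * t⁻¹) * f) * a⁻¹ = (a * w * a⁻¹)⁻¹ * (a * (t * w * t⁻¹) * a⁻¹) * (a * f * a⁻¹) := by
        group
    _ = (w * g)⁻¹ * ((t * w * t⁻¹) * g) * f := by rw [hgd, e1, h.F_cent hf ha]
    _ = g⁻¹ * (w⁻¹ * (t * w * t⁻¹) * g) * f := by group
    _ = g⁻¹ * (g * (w⁻¹ * (t * w * t⁻¹))) * f := by rw [c1]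
    _ = _ := by group

/-- `[w,a] ∈ F` for one `w ∈ V - E` implies `[V,a] ≤ F`. -/
theorem comm_F {w a : G} (hw : w ∈ V) (hwE : w ∉ E) (ha : a ∈ W) (hc : w⁻¹ * (a * w * a⁻¹) ∈ F) {v : G}
    (hv : v ∈ V) : v⁻¹ * (a * v * a⁻¹) ∈ F := by
  have hav := h.norm a ha v hv
  refine h.mem_F (mul_mem (inv_mem hv) hav) fun t ht => ?_
  have he := h.VE t ht v hv
  obtain ⟨e, he, hed⟩ : ∃ e ∈ E, t * v * t⁻¹ = v * e := ⟨_, he, by group⟩
  have h1 := h.cent_E hVc hw hwE ha hc he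
  have c1 := hVc e (h.le he) (v⁻¹ * (a * v * a⁻¹)) (mul_mem (inv_mem hv) hav)
  calc t * (v⁻¹ * (a * v * a⁻¹)) * t⁻¹ = (t * v * t⁻¹)⁻¹ * (t * (a * v * a⁻¹) * t⁻¹) := by group
    _ = (t * v * t⁻¹)⁻¹ * (a * (t * v * t⁻¹) * a⁻¹) := by rw [h.ab t ht a ha v hv]
    _ = (v * e)⁻¹ * ((a * v * a⁻¹) * (a * e * a⁻¹)) := by rw [hed]; group
    _ = e⁻¹ * (v⁻¹ * (a * v * a⁻¹) * e) := by rw [h1]; group
    _ = e⁻¹ * (e * (v⁻¹ * (a * v * a⁻¹))) := by rw [c1]
    _ = _ := by group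

omit hVc in
/-- `W` acts as an elementary abelian group -/
theorem elemM {A : Subgroup G} (hA : A ≤ W) : ElemM V A := by
  refine ⟨?_, ?_⟩
  · intro u hu
    rw [mem_centralizer_iff]
    intro v hv
    have h4 := h.inv u (hA hu) v hv
    have e : u * (u * v * u⁻¹) * u⁻¹ = u ^ 2 * v * (u ^ 2)⁻¹ := by rw [pow_two]; group
    rw [e, mul_inv_eq_iff_eq_mul] at h4
    exact h4.symm
  · intro u hu t ht
    rw [mem_centralizer_iff]
    intro v hv
    have h4 := h.ab u (hA hu) t (hA ht) (t⁻¹ * (u⁻¹ * v * u) * t) (by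
      have e : t⁻¹ * (u⁻¹ * v * u) * t = t⁻¹ * (u⁻¹ * v * u⁻¹⁻¹) * t⁻¹⁻¹ := by group
      rw [e]
      exact h.norm _ (inv_mem (hA ht)) _ (h.norm _ (inv_mem (hA hu)) v hv))
    have e1 : u * (t * (t⁻¹ * (u⁻¹ * v * u) * t) * t⁻¹) * u⁻¹ = v := by group
    have e2 : t * (u * (t⁻¹ * (u⁻¹ * v * u) * t) * u⁻¹) * t⁻¹ =
        (u * t * u⁻¹ * t⁻¹)⁻¹ * v * (u * t * u⁻¹ * t⁻¹) := by group
    rw [e1, e2] at h4
    conv_rhs => rw [h4]
    group

end FlatM

/-- The configuration `|O| = 2`. -/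
structure TwoS (V E F W : Subgroup G) (Vf : ι → Subgroup G) (i j : ι) (s : G) : Prop where
  flat : FlatM V E F W
  dec : Dec V Vf
  perm : Perm W Vf
  ne : ∀ k, Vf k ≠ ⊥
  lt : E.relIndex V < F.relIndex E
  hij : j ≠ i
  sW : s ∈ W
  sij : (Vf i).map (MulAut.conj s).toMonoidHom = Vf j
  two : ∀ u ∈ W, (Vf i).map (MulAut.conj u).toMonoidHom = Vf i ∨ (Vf i).map (MulAut.conj u).toMonoidHom = Vf j
  nE : ¬ Vf i ≤ E
  hF : ∀ k, k ≠ i → k ≠ j → Vf k ≤ F
  noff : ∀ A : Subgroup G, A ≤ W → ¬ OffM V A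
  pg : IsPGroup 2 V

namespace TwoS

variable {V E F W : Subgroup G} {Vf : ι → Subgroup G} {i j : ι} {s : G} (h : TwoS V E F W Vf i j s)
include h

/-- the stabiliser of `Vf i` in `W` -/
abbrev AA (W : Subgroup G) (Vf : ι → Subgroup G) (i : ι) : Subgroup G := W ⊓ normalizer (Vf i : Set G)

omit h in
theorem map_of_mem {u : G} (hu : u ∈ AA W Vf i) : (Vf i).map (MulAut.conj u).toMonoidHom = Vf i := by
  refine map_eq_of (fun x hx => (mem_normalizer_iff.mp hu.2 x).mp hx) fun y hy => ?_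
  refine ⟨u⁻¹ * y * u, ?_, by group⟩
  have h1 := (mem_normalizer_iff.mp (inv_mem hu.2) y).mp hy
  rwa [inv_inv] at h1

omit h in
theorem mem_of_map {u : G} (hu : u ∈ W) (h1 : (Vf i).map (MulAut.conj u).toMonoidHom = Vf i) : u ∈ AA W Vf i := by
  refine ⟨hu, mem_normalizer_iff.mpr fun x => ⟨fun hx => conj_mem_of_eq h1 hx, fun hx => ?_⟩⟩
  have h2 := conj_mem_of_eq (map_inv h1) hx
  have e : u⁻¹ * (u * x * u⁻¹) * u⁻¹⁻¹ = x := by group
  rwa [e] at h2

theorem conj_i {u x : G} (hu : u ∈ AA W Vf i) (hx : x ∈ Vf i) : u * x * u⁻¹ ∈ Vf i :=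
  (mem_normalizer_iff.mp hu.2 x).mp hx

theorem map_j {u : G} (hu : u ∈ AA W Vf i) : (Vf j).map (MulAut.conj u).toMonoidHom = Vf j := by
  have hle := h.dec.le i
  apply map_eq_of
  · intro y hy
    obtain ⟨x, hx, rfl⟩ := mem_of_conj_mem h.sij hy
    rw [h.flat.ab u hu.1 s h.sW x (hle hx)]
    exact conj_mem_of_eq h.sij (conj_i h hu hx)
  · intro y hy
    obtain ⟨x, hx, rfl⟩ := mem_of_conj_mem h.sij hy
    obtain ⟨z, hz, rfl⟩ := mem_of_conj_mem (map_of_mem hu) hx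
    exact ⟨s * z * s⁻¹, conj_mem_of_eq h.sij hz, h.flat.ab u hu.1 s h.sW z (hle hz)⟩

theorem map_k {u : G} (hu : u ∈ W) {k : ι} (hki : k ≠ i) (hkj : k ≠ j) :
    (Vf k).map (MulAut.conj u).toMonoidHom = Vf k := by
  have hk := h.hF k hki hkj
  apply map_eq_of
  · intro y hy
    rw [h.flat.F_cent (hk hy) hu]
    exact hy
  · intro y hy
    exact ⟨y, hy, h.flat.F_cent (hk hy) hu⟩

variable [Finite ι]

/-- `F ∩ Vf i = 1` -/
theorem F_inf {x : G} (hx : x ∈ Vf i) (hxF : x ∈ F) : x = 1 := by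
  have h1 := conj_mem_of_eq h.sij hx
  rw [h.flat.F_cent hxF h.sW] at h1
  have h2 := h.dec.cd_self h1
  rw [h.dec.cd_other hx h.hij] at h2
  exact h2.symm

/-- an element of `N_W(Vf i)` which centralises some `w ∈ Vf i - E` centralises `V` -/
theorem cent {u w : G} (hu : u ∈ AA W Vf i) (hw : w ∈ Vf i) (hwE : w ∉ E) (hc : u * w * u⁻¹ = w) :
    u ∈ centralizer (V : Set G) := by
  have hle := h.dec.le i
  have h0 : w⁻¹ * (u * w * u⁻¹) ∈ F := by rw [hc, inv_mul_cancel]; exact one_mem _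
  have h1 : ∀ x ∈ Vf i, u * x * u⁻¹ = x := by
    intro x hx
    have h2 := h.flat.comm_F h.dec.comm (hle hw) hwE hu.1 h0 (hle hx)
    have h3 := h.F_inf (mul_mem (inv_mem hx) (conj_i h hu hx)) h2
    exact (inv_mul_eq_one.mp h3).symm
  have h2 : V ≤ centralizer ({u} : Set G) := by
    rw [← h.dec.sup]
    refine iSup_le fun k x hx => ?_
    rw [mem_centralizer_singleton_iff, eq_comm, ← mul_inv_eq_iff_eq_mul]
    by_cases hki : k = i
    · subst hki
      exact h1 x hx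
    by_cases hkj : k = j
    · subst hkj
      obtain ⟨y, hy, rfl⟩ := mem_of_conj_mem h.sij hx
      rw [h.flat.ab u hu.1 s h.sW y (hle hy), h1 y hy]
    · exact h.flat.F_cent (h.hF k hki hkj hx) hu.1
  rw [mem_centralizer_iff]
  intro v hv
  exact mem_centralizer_singleton_iff.mp (h2 hv)

/-- `N_W(Vf i)` is nontrivial on `V` -/
theorem exists_a [Finite G] : ∃ a ∈ AA W Vf i, a ∉ centralizer (V : Set G) := by
  by_contra hcon
  push Not at hcon
  obtain ⟨w, hw, hwE⟩ := SetLike.not_le_iff_exists.1 h.nE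
  have hle := h.dec.le i
  have hwV := hle hw
  have hA : ∀ u ∈ AA W Vf i, u * w * u⁻¹ = w := fun u hu => by
    rw [← mem_centralizer_iff.mp (hcon u hu) w hwV, mul_assoc, mul_inv_cancel, mul_one]
  have hW : ∀ u ∈ W, u * w * u⁻¹ = w ∨ u * w * u⁻¹ = s * w * s⁻¹ := by
    intro u hu
    rcases h.two u hu with h1 | h1
    · exact Or.inl (hA u (mem_of_map hu h1))
    · right
      have h2 : s⁻¹ * u ∈ AA W Vf i := mem_of_map (mul_mem (inv_mem h.sW) hu) (map_mul h1 (map_inv h.sij))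
      have h3 := hA _ h2
      calc u * w * u⁻¹ = s * (s⁻¹ * u * w * (s⁻¹ * u)⁻¹) * s⁻¹ := by group
        _ = _ := by rw [h3]
  have h2 : F.relIndex E ≤ 2 := by
    refine relIndex_le_two' fun a ha b hb haF hbF => ?_
    have key : ∀ e ∈ E, e ∉ F → w⁻¹ * (s * w * s⁻¹) * e⁻¹ ∈ F := by
      intro e he heF
      obtain ⟨u, hu, f, hf, rfl⟩ := h.flat.reg w hwV hwE e he
      rcases hW u hu with h3 | h3
      · exfalso
        apply heF
        rw [h3, inv_mul_cancel, one_mul]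
        exact hf
      · rw [h3]
        have c1 := h.dec.comm (w⁻¹ * (s * w * s⁻¹)) (mul_mem (inv_mem hwV) (h.flat.norm s h.sW w hwV)) _
          (h.flat.F_le hf)
        rw [c1, mul_inv_rev]
        have e1 : w⁻¹ * (s * w * s⁻¹) * ((w⁻¹ * (s * w * s⁻¹))⁻¹ * f⁻¹) = f⁻¹ := by group
        rw [e1]
        exact inv_mem hf
    have h3 := mul_mem (inv_mem (key a ha haF)) (key b hb hbF)
    have e1 : (w⁻¹ * (s * w * s⁻¹) * a⁻¹)⁻¹ * (w⁻¹ * (s * w * s⁻¹) * b⁻¹) = a * b⁻¹ := by group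
    rw [e1] at h3
    have c1 := h.dec.comm a⁻¹ (inv_mem (h.flat.le ha)) b (h.flat.le hb)
    rw [c1]
    have h4 := inv_mem h3
    rwa [mul_inv_rev, inv_inv] at h4
  have h3 : 2 ≤ E.relIndex V := by
    have h4 : E.relIndex V ≠ 1 := fun h4 => h.flat.ne' (relIndex_eq_one.mp h4)
    have h5 : E.relIndex V ≠ 0 := Subgroup.index_ne_zero_of_finite
    omega
  have := h.lt
  omega

/-- `E ∩ Vf i = C_{Vf i}(N_W(Vf i))` -/
theorem mem_E_iff [Finite G] {x : G} (hx : x ∈ Vf i) : x ∈ E ↔ ∀ u ∈ AA W Vf i, u * x * u⁻¹ = x := by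
  have hle := h.dec.le i
  constructor
  · intro hxE u hu
    have hf := h.flat.EF s h.sW x hxE
    have hsx := conj_mem_of_eq h.sij hx
    have hxV := hle hx
    have h1 := h.flat.cd_F h.dec h.perm h.ne hf hu.1 (map_of_mem hu)
    rw [h.dec.cd_mul (inv_mem hxV) (h.flat.norm s h.sW x hxV), h.dec.cd_inv hxV, h.dec.cd_self hx,
      h.dec.cd_other hsx h.hij.symm, mul_one] at h1
    have h2 : u * x * u⁻¹ = (u * x⁻¹ * u⁻¹)⁻¹ := by group
    rw [h2, ← h1, inv_inv]
  · intro h1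
    by_contra hxE
    obtain ⟨a, ha, haC⟩ := h.exists_a
    exact haC (h.cent ha hx hxE (h1 a ha))

/-- the `i`-coordinate of an element of `F` is in `E` -/
theorem cd_mem_E [Finite G] {f : G} (hf : f ∈ F) : h.dec.cd f i ∈ E := by
  rw [h.mem_E_iff (h.dec.cd_mem (h.flat.F_le hf) i)]
  intro u hu
  exact (h.flat.cd_F h.dec h.perm h.ne hf hu.1 (map_of_mem hu)).symm

/-- coordinates of `[w,u]f` -/
theorem cd_reg {w u f : G} (hw : w ∈ Vf i) (hu : u ∈ W) (hf : f ∈ F) :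
    (u ∈ AA W Vf i ∧ h.dec.cd (w⁻¹ * (u * w * u⁻¹) * f) i = w⁻¹ * (u * w * u⁻¹) * h.dec.cd f i) ∨
      h.dec.cd (w⁻¹ * (u * w * u⁻¹) * f) i = w⁻¹ * h.dec.cd f i := by
  have hwV := h.dec.le i hw
  have huw := h.flat.norm u hu w hwV
  have e : h.dec.cd (w⁻¹ * (u * w * u⁻¹) * f) i = w⁻¹ * h.dec.cd (u * w * u⁻¹) i * h.dec.cd f i := by
    rw [h.dec.cd_mul (mul_mem (inv_mem hwV) huw) (h.flat.F_le hf), h.dec.cd_mul (inv_mem hwV) huw,
      h.dec.cd_inv hwV, h.dec.cd_self hw]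
  rcases h.two u hu with h1 | h1
  · left
    have hu' := mem_of_map hu h1
    refine ⟨hu', ?_⟩
    rw [e, h.dec.cd_self (conj_i h hu' hw)]
  · right
    rw [e, h.dec.cd_other (conj_mem_of_eq h1 hw) h.hij.symm, mul_one]

/-- `|Vf i : Vf i ∩ E| = 2` -/
theorem index_mem [Finite G] {w w' : G} (hw : w ∈ Vf i) (hw' : w' ∈ Vf i) (hwE : w ∉ E) (hwE' : w' ∉ E) :
    w⁻¹ * w' ∈ E := by
  have hwV := h.dec.le i hw
  have hwV' := h.dec.le i hw'
  have hsw := conj_mem_of_eq h.sij hw'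
  obtain ⟨u, hu, f, hf, he⟩ := h.flat.reg w hwV hwE _ (h.flat.VE s h.sW w' hwV')
  have h1 : h.dec.cd (w'⁻¹ * (s * w' * s⁻¹)) i = w'⁻¹ := by
    rw [h.dec.cd_mul (inv_mem hwV') (h.flat.norm s h.sW w' hwV'), h.dec.cd_inv hwV', h.dec.cd_self hw',
      h.dec.cd_other hsw h.hij.symm, mul_one]
  have hfE := h.cd_mem_E hf
  rcases h.cd_reg hw hu hf with ⟨hu', h2⟩ | h2
  · exfalso
    apply hwE'
    rw [he, h2] at h1
    have h3 : w'⁻¹ ∈ E := by
      rw [← h1]
      exact mul_mem (h.flat.VE u hu w hwV) hfE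
    simpa using inv_mem h3
  · rw [he, h2] at h1
    have h3 : w⁻¹ * w' = (h.dec.cd f i)⁻¹ := by
      have e1 : w' = (h.dec.cd f i)⁻¹ * w := by rw [← inv_inj, ← h1]; group
      rw [h.dec.comm _ (inv_mem hwV) _ hwV', e1, mul_assoc, mul_inv_cancel, mul_one]
    rw [h3]
    exact inv_mem hfE

/-- `a ↦ [w,a]` is onto `Vf i ∩ E` -/
theorem surj [Finite G] {w e : G} (hw : w ∈ Vf i) (hwE : w ∉ E) (he : e ∈ Vf i) (heE : e ∈ E) :
    ∃ a ∈ AA W Vf i, w⁻¹ * (a * w * a⁻¹) = e := by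
  have hwV := h.dec.le i hw
  obtain ⟨u, hu, f, hf, hef⟩ := h.flat.reg w hwV hwE e heE
  have h1 := h.dec.cd_self he
  rcases h.cd_reg hw hu hf with ⟨hu', h2⟩ | h2
  · refine ⟨u, hu', ?_⟩
    have h3 : f ∈ Vf i := by
      have : f = (w⁻¹ * (u * w * u⁻¹))⁻¹ * e := by rw [hef]; group
      rw [this]
      exact mul_mem (inv_mem (mul_mem (inv_mem hw) (conj_i h hu' hw))) he
    have h4 := h.F_inf h3 hf
    rw [hef, h4, mul_one]
  · exfalso
    apply hwE
    have h1' : w⁻¹ * h.dec.cd f i = e := by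
      rw [← h2, ← hef]
      exact h1
    have h3 : w = h.dec.cd f i * e⁻¹ := by
      rw [← h1']
      group
    rw [h3]
    exact mul_mem (h.cd_mem_E hf) (inv_mem heE)

theorem card_A [Finite G] : Nat.card (AA W Vf i) =
    Nat.card ↥(Vf i ⊓ E) * Nat.card ↥(AA W Vf i ⊓ centralizer (V : Set G)) := by
  obtain ⟨w, hw, hwE⟩ := SetLike.not_le_iff_exists.1 h.nE
  have hwV := h.dec.le i hw
  have hc : Cos (fun a => w⁻¹ * (a * w * a⁻¹)) (AA W Vf i) (AA W Vf i ⊓ centralizer (V : Set G)) (Vf i ⊓ E) ⊥ := by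
    constructor
    · intro a ha
      exact mem_inf.mpr ⟨mul_mem (inv_mem hw) (conj_i h ha hw), h.flat.VE a ha.1 w hwV⟩
    · intro a ha b hb
      have hab : a⁻¹ * b ∈ AA W Vf i := mul_mem (inv_mem ha) hb
      rw [mem_bot]
      have e1 : (w⁻¹ * (a * w * a⁻¹))⁻¹ * (w⁻¹ * (b * w * b⁻¹)) = (a * w * a⁻¹)⁻¹ * (b * w * b⁻¹) := by group
      simp only [e1]
      rw [inv_mul_eq_one]
      constructor
      · intro h1
        refine ⟨hab, h.cent hab hw hwE ?_⟩
        have e2 : a⁻¹ * b * w * (a⁻¹ * b)⁻¹ = a⁻¹ * (b * w * b⁻¹) * a := by group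
        rw [e2, ← h1]
        group
      · intro h1
        have h2 := mem_centralizer_iff.mp h1.2 w hwV
        have e2 : b * w * b⁻¹ = a * (a⁻¹ * b * w) * b⁻¹ := by group
        rw [e2, ← h2]
        group
  have h1 := hc.eq_of_surj (fun e he => by
    obtain ⟨a, ha, h1⟩ := h.surj hw hwE he.1 he.2
    refine ⟨a, ha, ?_⟩
    rw [mem_bot]
    simp only [h1, inv_mul_cancel])
  have h2 := Cfsg.Agent.Omega.NOne.Flat.card_mul_relIndex'
    (inf_le_left : AA W Vf i ⊓ centralizer (V : Set G) ≤ AA W Vf i)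
  rw [h1, relIndex_bot_left] at h2
  rw [← h2, mul_comm]

/-- the subgroup `{v ∈ V : v_i ∈ E}` -/
def X1 (h : TwoS V E F W Vf i j s) : Subgroup G where
  carrier := {v | v ∈ V ∧ h.dec.cd v i ∈ E}
  one_mem' := ⟨one_mem V, by rw [h.dec.cd_one]; exact one_mem E⟩
  mul_mem' := fun {a b} ha hb => ⟨mul_mem ha.1 hb.1, by rw [h.dec.cd_mul ha.1 hb.1]; exact mul_mem ha.2 hb.2⟩
  inv_mem' := fun {a} ha => ⟨inv_mem ha.1, by rw [h.dec.cd_inv ha.1]; exact inv_mem ha.2⟩

/-- the subgroup `{v ∈ V : v_j ∈ Eˢ}` -/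
def X2 (h : TwoS V E F W Vf i j s) : Subgroup G where
  carrier := {v | v ∈ V ∧ s⁻¹ * h.dec.cd v j * s ∈ E}
  one_mem' := ⟨one_mem V, by rw [h.dec.cd_one]; simp⟩
  mul_mem' := fun {a b} ha hb => ⟨mul_mem ha.1 hb.1, by
    rw [h.dec.cd_mul ha.1 hb.1]
    have e : s⁻¹ * (h.dec.cd a j * h.dec.cd b j) * s = (s⁻¹ * h.dec.cd a j * s) * (s⁻¹ * h.dec.cd b j * s) := by
      group
    rw [e]
    exact mul_mem ha.2 hb.2⟩
  inv_mem' := fun {a} ha => ⟨inv_mem ha.1, by
    rw [h.dec.cd_inv ha.1]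
    have e : s⁻¹ * (h.dec.cd a j)⁻¹ * s = (s⁻¹ * h.dec.cd a j * s)⁻¹ := by group
    rw [e]
    exact inv_mem ha.2⟩

theorem X_le [Finite G] : h.X1 ⊓ h.X2 ≤ V ⊓ centralizer (AA W Vf i : Set G) := by
  rintro v ⟨⟨hv, h1⟩, -, h2⟩
  refine mem_inf.mpr ⟨hv, mem_centralizer_iff.mpr fun u hu => ?_⟩
  rw [← mul_inv_eq_iff_eq_mul]
  have hle := h.dec.le i
  refine h.dec.ext (h.flat.norm u hu.1 v hv) hv fun k => ?_
  by_cases hki : k = i
  · subst hki
    rw [h.dec.cd_conj h.ne (h.perm u hu.1) hv (map_of_mem hu)]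
    exact (h.mem_E_iff (h.dec.cd_mem hv k)).mp h1 u hu
  by_cases hkj : k = j
  · subst hkj
    rw [h.dec.cd_conj h.ne (h.perm u hu.1) hv (map_j h hu)]
    obtain ⟨y, hy, hys⟩ := mem_of_conj_mem h.sij (h.dec.cd_mem hv k)
    have e : s⁻¹ * h.dec.cd v k * s = y := by rw [← hys]; group
    rw [e] at h2
    rw [← hys, h.flat.ab u hu.1 s h.sW y (hle hy), (h.mem_E_iff hy).mp h2 u hu]
  · rw [h.dec.cd_conj h.ne (h.perm u hu.1) hv (map_k h hu.1 hki hkj)]
    exact h.flat.F_cent (h.hF k hki hkj (h.dec.cd_mem hv k)) hu.1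

theorem relIndex_X1 [Finite G] : h.X1.relIndex V ≤ 2 := by
  refine relIndex_le_two' fun a ha b hb ha' hb' => ?_
  refine ⟨mul_mem (inv_mem ha) hb, ?_⟩
  rw [h.dec.cd_mul (inv_mem ha) hb, h.dec.cd_inv ha]
  exact h.index_mem (h.dec.cd_mem ha i) (h.dec.cd_mem hb i) (fun h1 => ha' ⟨ha, h1⟩) fun h1 => hb' ⟨hb, h1⟩

theorem relIndex_X2 [Finite G] : h.X2.relIndex V ≤ 2 := by
  refine relIndex_le_two' fun a ha b hb ha' hb' => ?_
  refine ⟨mul_mem (inv_mem ha) hb, ?_⟩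
  rw [h.dec.cd_mul (inv_mem ha) hb, h.dec.cd_inv ha]
  obtain ⟨x, hx, hxs⟩ := mem_of_conj_mem h.sij (h.dec.cd_mem ha j)
  obtain ⟨y, hy, hys⟩ := mem_of_conj_mem h.sij (h.dec.cd_mem hb j)
  have ex : s⁻¹ * h.dec.cd a j * s = x := by rw [← hxs]; group
  have ey : s⁻¹ * h.dec.cd b j * s = y := by rw [← hys]; group
  have e : s⁻¹ * ((h.dec.cd a j)⁻¹ * h.dec.cd b j) * s = x⁻¹ * y := by
    rw [← hxs, ← hys]; group
  rw [e]
  refine h.index_mem hx hy (fun h1 => ha' ⟨ha, ?_⟩) fun h1 => hb' ⟨hb, ?_⟩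
  · rw [ex]; exact h1
  · rw [ey]; exact h1

/-- `|V : C_V(N_W(Vf i))| ≤ 4` -/
theorem card_V_le [Finite G] : Nat.card V ≤ 4 * Nat.card ↥(V ⊓ centralizer (AA W Vf i : Set G)) := by
  have h1 : (h.X1 ⊓ h.X2).relIndex V ≤ 4 :=
    relIndex_inf_le.trans (Nat.mul_le_mul h.relIndex_X1 h.relIndex_X2)
  have hle : h.X1 ⊓ h.X2 ≤ V := h.X_le.trans inf_le_left
  have h2 := Cfsg.Agent.Omega.NOne.Flat.card_mul_relIndex' hle
  rw [← h2, mul_comm]
  exact Nat.mul_le_mul h1 (Subgroup.card_le_of_le h.X_le)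

/-- `|Vf i| = 4` -/
theorem card_four [Finite G] : Nat.card (Vf i) = 4 := by
  have h1 : (Vf i ⊓ E).relIndex (Vf i) = 2 := by
    have h2 : (Vf i ⊓ E).relIndex (Vf i) ≤ 2 := relIndex_le_two' fun a ha b hb ha' hb' =>
      mem_inf.mpr ⟨mul_mem (inv_mem ha) hb, h.index_mem ha hb (fun h1 => ha' ⟨ha, h1⟩) fun h1 => hb' ⟨hb, h1⟩⟩
    have h3 : (Vf i ⊓ E).relIndex (Vf i) ≠ 1 := fun h3 => h.nE ((relIndex_eq_one.mp h3).trans inf_le_right)
    have h4 : (Vf i ⊓ E).relIndex (Vf i) ≠ 0 := Subgroup.index_ne_zero_of_finite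
    omega
  have h2 := Cfsg.Agent.Omega.NOne.Flat.card_mul_relIndex' (inf_le_left : Vf i ⊓ E ≤ Vf i)
  rw [h1] at h2
  have h3 : Nat.card ↥(Vf i ⊓ E) < 4 := by
    by_contra hcon
    obtain ⟨a, ha, haC⟩ := h.exists_a
    refine h.noff (AA W Vf i) inf_le_left ⟨h.flat.elemM inf_le_left, fun h1 => haC (h1 ha), ?_⟩
    · rw [h.card_A]
      calc Nat.card V * Nat.card ↥(AA W Vf i ⊓ centralizer (V : Set G))
          ≤ 4 * Nat.card ↥(V ⊓ centralizer (AA W Vf i : Set G)) *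
            Nat.card ↥(AA W Vf i ⊓ centralizer (V : Set G)) := Nat.mul_le_mul_right _ h.card_V_le
        _ ≤ Nat.card ↥(Vf i ⊓ E) * Nat.card ↥(V ⊓ centralizer (AA W Vf i : Set G)) *
            Nat.card ↥(AA W Vf i ⊓ centralizer (V : Set G)) :=
            Nat.mul_le_mul_right _ (Nat.mul_le_mul_right _ (not_lt.mp hcon))
        _ = _ := by ring
  have h5 : Nat.card ↥(Vf i ⊓ E) ≠ 1 := by
    intro h6
    obtain ⟨a, ha, haC⟩ := h.exists_a
    have h7 := h.card_A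
    rw [h6, one_mul] at h7
    have h8 : AA W Vf i ⊓ centralizer (V : Set G) = AA W Vf i := eq_of_le_of_card_ge inf_le_left h7.le
    exact haC (inf_eq_left.mp h8 ha)
  have hp : IsPGroup 2 ↥(Vf i ⊓ E) := h.pg.to_le (inf_le_left.trans (h.dec.le i))
  have : Fact (Nat.Prime 2) := ⟨Nat.prime_two⟩
  obtain ⟨n, hn⟩ := IsPGroup.iff_card.1 hp
  rw [hn] at h3 h5 h2
  rcases n with _ | _ | n
  · exact absurd (pow_zero 2) h5
  · rw [← h2]; norm_num
  · exfalso
    have : 2 ^ (n + 1 + 1) = 4 * 2 ^ n := by ring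
    have h9 : 1 ≤ 2 ^ n := Nat.one_le_two_pow
    omega

end TwoS

end Cfsg.Agent.Omega.NO1.WRF

end

section


/-!
# THEOREM WRF (bb OMEGA #16078): step (3) and the theorem for a transitive family

* `three` : step (3), `|O| = 2` (either the classes of `i ~ j ⟺ (i j) ∈ P^ι` give a coarser decomposition on which
  `W` moves one member only, or `P^ι` is the symmetric group, `|ι| = 2`, `|V| = 16`);
* `wrf` : a transitive decomposition `V = ⊕ Vf i`, `|ι| ≥ 2`, forces `V ≤ O₂(C_G(FF))`.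
-/

set_option autoImplicit false
set_option linter.unusedSectionVars false

namespace Cfsg.Agent.Omega.NO1.WRF

open Subgroup Cfsg Cfsg.Agent.ZN Cfsg.Agent.ZN.ChoiceBase Cfsg.Agent.Omega.MinPar Cfsg.Agent.Omega.Frame
open Cfsg.Agent.Omega.NO1 Cfsg.Agent.Omega.NO1.WRF.Single
open Cfsg.Agent.Omega.FFThm (ElemM OffM)

universe u v

variable {G : Type u} [Group G] {ι : Type v}

/-- The permutation representation. -/
theorem exists_perm {P : Subgroup G} {Vf : ι → Subgroup G} (hinj : Function.Injective Vf)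
    (hperm : ∀ p ∈ P, ∀ i, ∃ j, cj p (Vf i) = Vf j) :
    ∃ ρ : P →* Equiv.Perm ι, ∀ (p : P) (i : ι), cj (p : G) (Vf i) = Vf (ρ p i) := by
  choose f hf using fun (p : P) i => hperm p p.2 i
  have h1 : ∀ i, f 1 i = i := by
    intro i
    apply hinj
    rw [← hf, OneMemClass.coe_one, cj_one]
  have h2 : ∀ p q i, f (p * q) i = f p (f q i) := by
    intro p q i
    apply hinj
    rw [← hf, ← hf, ← hf, cj_cj]
    rfl
  let A : MulAction P ι := { smul := f, one_smul := h1, mul_smul := h2 }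
  exact ⟨MulAction.toPermHom P ι, fun p i => hf p i⟩

/-- **(3)** `|O| = 2` is impossible. -/
theorem three [Finite G] [Finite ι] {S : Sylow 2 G} {P V E F W FF : Subgroup G} {Vf : ι → Subgroup G} {i j : ι}
    {s : G} (hs : Sit S P V) (hoff : ∀ A : Subgroup G, A ≤ P → ¬ OffM V A) (h : TwoS V E F W Vf i j s)
    (hperm : ∀ p ∈ P, ∀ i, ∃ j, cj p (Vf i) = Vf j) (htr : ∀ i j, ∃ p ∈ P, cj p (Vf i) = Vf j)
    (hWP : W ≤ P) (hW2 : IsPGroup 2 W) (hFV : V ≤ centralizer (FF : Set G))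
    (hFc : FF ≤ centralizer (FF : Set G)) (hF2 : IsPGroup 2 FF) (hFF : F ≤ FF)
    (hZF : V ⊓ zc (S : Subgroup G) ≤ FF) : V ≤ o2 (centralizer (FF : Set G)) := by
  classical
  have := Fintype.ofFinite ι
  have hinj := h.dec.inj_of_ne h.ne
  have hle : ∀ k, Vf k ≤ V := h.dec.le
  have hVc : V ≤ centralizer (V : Set G) := hs.comm
  obtain ⟨ρ, hρ⟩ := exists_perm hinj hperm
  have hρ' : ∀ (p : P) (k l : ι), cj (p : G) (Vf k) = Vf l → ρ p k = l := fun p k l h1 =>
    hinj ((hρ p k).symm.trans h1)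
  have hji := h.hij
  -- `s` induces the transposition
  have hsP : s ∈ P := hWP h.sW
  have hsk : ∀ k, k ≠ i → k ≠ j → ρ ⟨s, hsP⟩ k = k := fun k h1 h2 => hρ' _ _ _ (h.map_k h.sW h1 h2)
  have hsi : ρ ⟨s, hsP⟩ i = j := hρ' _ _ _ h.sij
  have hsj : ρ ⟨s, hsP⟩ j = i := by
    by_contra h1
    by_cases h2 : ρ ⟨s, hsP⟩ j = j
    · exact hji ((ρ ⟨s, hsP⟩).injective (h2.trans hsi.symm))
    · have h3 := hsk _ h1 h2
      exact h2 ((ρ ⟨s, hsP⟩).injective h3)
  have hsw : ρ ⟨s, hsP⟩ = Equiv.swap i j := by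
    apply Equiv.ext
    intro k
    by_cases hki : k = i
    · subst hki; rw [hsi, Equiv.swap_apply_left]
    by_cases hkj : k = j
    · subst hkj; rw [hsj, Equiv.swap_apply_right]
    · rw [hsk k hki hkj, Equiv.swap_apply_of_ne_of_ne hki hkj]
  -- the relation
  let r : Setoid ι :=
    { r := fun a b => Equiv.swap a b ∈ ρ.range
      iseqv := by
        refine ⟨fun a => ?_, fun {a b} h1 => ?_, fun {a b c} h1 h2 => ?_⟩
        · rw [Equiv.swap_self]; exact one_mem _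
        · rw [Equiv.swap_comm]; exact h1
        · by_cases hab : a = b
          · subst hab; exact h2
          by_cases hac : a = c
          · subst hac; rw [Equiv.swap_self]; exact one_mem _
          have h3 := mul_mem (mul_mem h2 h1) h2
          rw [Equiv.swap_mul_swap_mul_swap hab hac, Equiv.swap_comm] at h3
          exact h3 }
  have hr : ∀ a b, r a b ↔ Equiv.swap a b ∈ ρ.range := fun a b => Iff.rfl
  have hrg : ∀ (p : P) (a b : ι), r a b → r (ρ p a) (ρ p b) := by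
    intro p a b h1
    rw [hr, Equiv.swap_apply_apply]
    exact mul_mem (mul_mem ⟨p, rfl⟩ h1) (inv_mem ⟨p, rfl⟩)
  have hrij : r i j := ⟨_, hsw⟩
  obtain ⟨a, ha, haC⟩ := h.exists_a
  by_cases hconn : ∀ a b, r a b
  · exfalso
    have hSP : (S : Subgroup G) ≤ P := hs.par.le
    set K : Subgroup G := (ρ.ker).map P.subtype with hK
    have memK : ∀ p : P, (p : G) ∈ K ↔ ρ p = 1 := by
      intro p
      constructor
      · rintro ⟨q, hq, e⟩
        have : q = p := Subtype.ext e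
        subst this
        exact hq
      · intro h1
        exact ⟨p, h1, rfl⟩
    have hKP : K ≤ P := map_subtype_le _
    have hPK : P ≤ normalizer (K : Set G) := by
      intro p hp
      refine mem_normalizer_of_cj_le ?_
      rintro _ ⟨k, hk, rfl⟩
      have hk' : k ∈ P := hKP hk
      have h1 := (memK ⟨k, hk'⟩).mp hk
      refine (memK (⟨p, hp⟩ * ⟨k, hk'⟩ * ⟨p, hp⟩⁻¹)).mpr ?_
      rw [_root_.map_mul, _root_.map_mul, h1, mul_one, _root_.map_inv, mul_inv_cancel]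
    have hAK : TwoS.AA W Vf i ≤ K := by
      intro u hu
      refine (memK ⟨u, hWP hu.1⟩).mpr (Equiv.ext fun k => ?_)
      rw [Equiv.Perm.one_apply]
      apply hρ'
      by_cases hki : k = i
      · subst hki; exact TwoS.map_of_mem hu
      by_cases hkj : k = j
      · subst hkj; exact h.map_j hu
      · exact h.map_k hu.1 hki hkj
    -- a conjugate of `W` in `S`
    have hS : ChoiceSit.Syl (S : Subgroup G) P := ⟨hSP, S.isPGroup', fun R _ hR hSR => S.is_maximal' hR hSR⟩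
    obtain ⟨R, hR, hWR⟩ := ChoiceSit.exists_syl hW2 hWP
    obtain ⟨p₀, hp₀, hpR⟩ := ChoiceSit.syl_conj hR hS
    have hWS : ∀ w ∈ W, p₀ * w * p₀⁻¹ ∈ (S : Subgroup G) := by
      intro w hw
      rw [← hpR]
      exact ⟨w, hWR hw, rfl⟩
    have hCp : ∀ x : G, x ∈ centralizer (V : Set G) → p₀ * x * p₀⁻¹ ∈ centralizer (V : Set G) := by
      intro x hx
      have h1 := cj_centralizer p₀ V
      rw [cj_eq_of_mem_normalizer (hs.norm hp₀)] at h1
      rw [← h1]
      exact ⟨x, hx, rfl⟩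
    have hCp' : ∀ x : G, p₀ * x * p₀⁻¹ ∈ centralizer (V : Set G) → x ∈ centralizer (V : Set G) := by
      intro x hx
      have h1 := cj_centralizer p₀ V
      rw [cj_eq_of_mem_normalizer (hs.norm hp₀)] at h1
      rw [← h1, mem_cj] at hx
      have e : p₀⁻¹ * (p₀ * x * p₀⁻¹) * p₀ = x := by group
      rwa [e] at hx
    have haK' : p₀ * a * p₀⁻¹ ∈ K := by
      have h1 := cj_eq_of_mem_normalizer (hPK hp₀)
      rw [← h1]
      exact ⟨a, hAK ha, rfl⟩
    rcases hs.par.sup_eq_or_inf_le S hKP hPK with h1 | h1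
    swap
    · exact haC (hCp' a (hs.o2_le (h1 ⟨hWS a ha.1, haK'⟩)))
    have hdec : ∀ p ∈ P, ∃ k ∈ K, ∃ x ∈ (S : Subgroup G), k * x = p := by
      intro p hp
      have h2 : p ∈ (((S : Subgroup G) ⊔ K : Subgroup G) : Set G) := by
        rw [sup_comm, h1]; exact hp
      rw [coe_mul_of_left_le_normalizer_right _ _ (hSP.trans hPK)] at h2
      obtain ⟨x, hx, k, hk, rfl⟩ := h2
      refine ⟨x * k * x⁻¹, (mem_normalizer_iff.mp (hPK (hSP hx)) k).mp hk, x, hx, ?_⟩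
      change x * k * x⁻¹ * x = x * k
      group
    -- `ι = {i, j}`
    have hι : ∀ k, k ≠ i → k = j := by
      intro k hki
      by_contra hkj
      have h3 : (Equiv.swap i j * Equiv.swap i k).IsThreeCycle :=
        Equiv.Perm.isThreeCycle_swap_mul_swap_same (Ne.symm hji) (Ne.symm hki) (Ne.symm hkj)
      obtain ⟨p, hp⟩ : Equiv.swap i j * Equiv.swap i k ∈ ρ.range := mul_mem (hconn i j) (hconn i k)
      obtain ⟨k', hk', x, hx, hkx⟩ := hdec p p.2
      have h4 : ρ ⟨x, hSP hx⟩ = Equiv.swap i j * Equiv.swap i k := by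
        rw [← hp]
        have e : p = ⟨k', hKP hk'⟩ * ⟨x, hSP hx⟩ := Subtype.ext hkx.symm
        rw [e, _root_.map_mul, (memK ⟨k', hKP hk'⟩).mp hk', one_mul]
      have h5 : (Equiv.swap i j * Equiv.swap i k) ^ 3 = 1 := by
        rw [← h3.orderOf]; exact pow_orderOf_eq_one _
      obtain ⟨n, hn⟩ := S.isPGroup' ⟨x, hx⟩
      have hn1 : x ^ 2 ^ n = 1 := congrArg Subtype.val hn
      have hn' : (⟨x, hSP hx⟩ : P) ^ 2 ^ n = 1 := Subtype.ext hn1
      have h6 := Four.eq_one_of_pow (n := n) h5 (by rw [← h4, ← map_pow, hn', map_one])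
      have h7 := h3.orderOf
      rw [h6, orderOf_one] at h7
      omega
    have hsup : Vf i ⊔ Vf j = V := by
      refine le_antisymm (sup_le (hle i) (hle j)) ?_
      rw [← h.dec.sup]
      refine iSup_le fun k => ?_
      by_cases hki : k = i
      · subst hki; exact le_sup_left
      · rw [hι k hki]; exact le_sup_right
    have hinf : Vf i ⊓ Vf j = ⊥ := (h.dec.indep.pairwiseDisjoint (Ne.symm hji)).eq_bot
    have hcard := h.card_four
    have hcard2 : Nat.card (Vf j) = 4 := by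
      rw [← h.sij]
      have := card_cj s (Vf i)
      rw [hcard] at this
      exact this
    have hfix : ∀ p : P, (ρ p i = i ∧ ρ p j = j) ∨ (ρ p i = j ∧ ρ p j = i) := by
      intro p
      by_cases h2 : ρ p i = i
      · left
        refine ⟨h2, hι _ fun h3 => hji ((ρ p).injective (h3.trans h2.symm))⟩
      · right
        have h3 := hι _ h2
        refine ⟨h3, ?_⟩
        by_contra h4
        exact hji ((ρ p).injective ((hι _ h4).trans h3.symm))
    have hcomm : ∀ u ∈ W, ∀ t ∈ W, u * t * u⁻¹ * t⁻¹ ∈ centralizer (V : Set G) :=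
      (h.flat.elemM le_rfl).comm
    have hsq : ∀ u ∈ W, u ^ 2 ∈ centralizer (V : Set G) := (h.flat.elemM le_rfl).sq
    refine Four.Conf.false (S := S) (P := P) (V := V) (V₁ := Vf i) (V₂ := Vf j) (a := p₀ * a * p₀⁻¹)
      (s := p₀ * s * p₀⁻¹) ⟨hs, hoff, hcard, hcard2, hsup, hinf, ?_, ?_, hWS a ha.1, ?_, ?_, hWS s h.sW, ?_, ?_, ?_⟩
    · intro p hp
      rcases hfix ⟨p, hp⟩ with ⟨h2, h3⟩ | ⟨h2, h3⟩
      · left
        exact ⟨by rw [hρ ⟨p, hp⟩, h2], by rw [hρ ⟨p, hp⟩, h3]⟩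
      · right
        exact ⟨by rw [hρ ⟨p, hp⟩, h2], by rw [hρ ⟨p, hp⟩, h3]⟩
    · intro p hp
      obtain ⟨k, hk, x, hx, hkx⟩ := hdec p hp
      refine ⟨k, hKP hk, ?_, x, hx, hkx⟩
      rw [hρ ⟨k, hKP hk⟩, (memK ⟨k, hKP hk⟩).mp hk, Equiv.Perm.one_apply]
    · rw [hρ ⟨_, hKP haK'⟩, (memK ⟨_, hKP haK'⟩).mp haK', Equiv.Perm.one_apply]
    · exact fun h2 => haC (hCp' a h2)
    · intro h2
      have h3 : ρ ⟨p₀ * s * p₀⁻¹, P.mul_mem (P.mul_mem hp₀ hsP) (P.inv_mem hp₀)⟩ i = i := hρ' _ _ _ h2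
      have e : (⟨p₀ * s * p₀⁻¹, P.mul_mem (P.mul_mem hp₀ hsP) (P.inv_mem hp₀)⟩ : P) =
        ⟨p₀, hp₀⟩ * ⟨s, hsP⟩ * ⟨p₀, hp₀⟩⁻¹ := rfl
      rw [e, _root_.map_mul, _root_.map_mul, _root_.map_inv, Equiv.Perm.mul_apply, Equiv.Perm.mul_apply] at h3
      set l := (ρ ⟨p₀, hp₀⟩)⁻¹ i with hl
      have h4 : ρ ⟨s, hsP⟩ l = l := by
        apply (ρ ⟨p₀, hp₀⟩).injective
        rw [h3, hl, ← Equiv.Perm.mul_apply, mul_inv_cancel, Equiv.Perm.one_apply]
      by_cases hli : l = i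
      · rw [hli, hsi] at h4; exact hji h4
      · rw [hι l hli, hsj] at h4; exact hji h4.symm
    · have e : p₀ * a * p₀⁻¹ * (p₀ * s * p₀⁻¹) * (p₀ * a * p₀⁻¹)⁻¹ * (p₀ * s * p₀⁻¹)⁻¹ =
          p₀ * (a * s * a⁻¹ * s⁻¹) * p₀⁻¹ := by group
      rw [e]
      exact hCp _ (hcomm a ha.1 s h.sW)
    · rw [conj_pow]
      exact hCp _ (hsq s h.sW)
  · -- the coarser decomposition
    push Not at hconn
    let κ := Quotient r
    let Wf : κ → Subgroup G := fun c => Vs Vf {k | (Quotient.mk r k) = c}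
    have hκ : Nontrivial κ := by
      obtain ⟨a, b, hab⟩ := hconn
      exact ⟨Quotient.mk r a, Quotient.mk r b, fun h1 => hab (Quotient.exact h1)⟩
    have hmkeq : ∀ a b : ι, Quotient.mk r a = Quotient.mk r b ↔ r a b := fun a b => Quotient.eq
    have hWfV : ∀ c, Wf c ≤ V := fun c => Vs_le fun k _ => hle k
    have hmv : ∀ (p : P) (k : ι), cj (p : G) (Wf (Quotient.mk r k)) ≤ Wf (Quotient.mk r (ρ p k)) := by
      intro p k
      refine cj_Vs_le fun l hl => ⟨ρ p l, ?_, hρ p l⟩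
      have h1 : r l k := (hmkeq l k).mp hl
      exact (hmkeq _ _).mpr (hrg p l k h1)
    have hmv' : ∀ (p : P) (k : ι), cj (p : G) (Wf (Quotient.mk r k)) = Wf (Quotient.mk r (ρ p k)) := by
      intro p k
      refine le_antisymm (hmv p k) ?_
      have h1 := hmv p⁻¹ (ρ p k)
      rw [_root_.map_inv, ← Equiv.Perm.mul_apply, inv_mul_cancel, Equiv.Perm.one_apply] at h1
      have h2 := cj_mono (p : G) h1
      have e : ((p⁻¹ : P) : G) = (p : G)⁻¹ := rfl
      rwa [e, cj_cj_inv] at h2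
    have hij' : ∀ (c : κ), c ≠ Quotient.mk r i → ∀ k, Quotient.mk r k = c → Vf k ≤ F := by
      intro c hc k hk
      refine h.hF k ?_ ?_
      · rintro rfl; exact hc hk.symm
      · rintro rfl
        apply hc
        rw [← hk]
        exact ((hmkeq _ _).mpr hrij).symm
    refine single_fam (ι := κ) (Vf := Wf) hs ?_ ?_ ?_ ?_ hWP hW2 ?_ (i₀ := Quotient.mk r i) ?_ hFV hFc hF2 ?_ hZF
    · intro c
      rw [disjoint_iff, eq_bot_iff, ← Vs_inf_Vs hVc hle h.dec.indep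
        (I := {k | Quotient.mk r k = c}) (J := {k | Quotient.mk r k ≠ c}) (by
          rw [Set.disjoint_left]; intro k hk hk'; exact hk' hk)]
      refine inf_le_inf_left _ (iSup₂_le fun d hd => Vs_le fun k hk => le_Vs ?_)
      intro h1
      apply hd
      rw [← h1]
      exact hk.symm
    · refine le_antisymm (iSup_le hWfV) ?_
      rw [← h.dec.sup]
      refine iSup_le fun k => ?_
      exact (le_Vs (Vf := Vf) (I := {l | Quotient.mk r l = Quotient.mk r k}) rfl).trans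
        (le_iSup Wf (Quotient.mk r k))
    · intro p hp c
      induction c using Quotient.inductionOn with
      | h k => exact ⟨_, hmv' ⟨p, hp⟩ k⟩
    · intro c d
      induction c using Quotient.inductionOn with
      | h k =>
        induction d using Quotient.inductionOn with
        | h l =>
          obtain ⟨p, hp, hpkl⟩ := htr k l
          refine ⟨p, hp, ?_⟩
          rw [hmv' ⟨p, hp⟩ k, hρ' ⟨p, hp⟩ k l hpkl]
    · exact fun h1 => haC (h1 ha.1)
    · intro c hc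
      rw [Subgroup.le_centralizer_iff]
      refine Vs_le fun k hk => ?_
      refine (hij' c hc k hk).trans ?_
      rw [h.flat.F_eq]
      exact inf_le_right
    · intro c hc
      exact Vs_le fun k hk => (hij' c hc k hk).trans hFF

/-- **THEOREM WRF**, transitive case. -/
theorem wrf [Finite G] [Finite ι] [Nontrivial ι] {S : Sylow 2 G} {P V E F W FF : Subgroup G}
    {Vf : ι → Subgroup G} (hs : Sit S P V) (hoff : ∀ A : Subgroup G, A ≤ P → ¬ OffM V A)
    (h : FlatM V E F W) (hlt : E.relIndex V < F.relIndex E)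
    (hcv : ∀ v ∈ V, (∀ g ∈ P, g * v * g⁻¹ = v) → v = 1)
    (hind : iSupIndep Vf) (hsup : ⨆ i, Vf i = V)
    (hperm : ∀ p ∈ P, ∀ i, ∃ j, cj p (Vf i) = Vf j) (htr : ∀ i j, ∃ p ∈ P, cj p (Vf i) = Vf j)
    (hWP : W ≤ P) (hW2 : IsPGroup 2 W) (hFV : V ≤ centralizer (FF : Set G))
    (hFc : FF ≤ centralizer (FF : Set G)) (hF2 : IsPGroup 2 FF) (hFF : F ≤ FF)
    (hZF : V ⊓ zc (S : Subgroup G) ≤ FF) : V ≤ o2 (centralizer (FF : Set G)) := by
  have hVc : ∀ a ∈ V, ∀ b ∈ V, a * b = b * a := fun a ha b hb => mem_centralizer_iff.mp (hs.comm hb) a ha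
  have hD : Dec V Vf := ⟨hVc, hind, hsup⟩
  have hle := hD.le
  have hPW : Perm W Vf := fun w hw i => hperm w (hWP hw) i
  have hne : ∀ k, Vf k ≠ ⊥ := by
    intro k hk
    apply h.ne'
    have h1 : V ≤ ⊥ := by
      rw [← hsup]
      refine iSup_le fun l => ?_
      obtain ⟨p, -, hp⟩ := htr k l
      rw [← hp, hk, cj, Subgroup.map_bot]
    exact h1.trans bot_le
  have hinj := hD.inj_of_ne hne
  obtain ⟨i, hi, hiF⟩ := h.one hD hPW hne
  rcases h.two' hD hPW hne (P := P) (fun p hp k => hperm p hp k) (fun k l => htr k l) hcv i with h1 | ⟨j, hji, hrel, h1⟩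
  · -- `W` fixes `Vf i`
    have hjF : ∀ j, j ≠ i → Vf j ≤ F := by
      intro j hj
      refine hiF j fun h2 => ?_
      obtain ⟨s, hs, h3⟩ := h2
      rw [h1 s hs] at h3
      exact hj (hinj h3).symm
    refine single_fam hs hind hsup hperm htr hWP hW2 ?_ (i₀ := i) ?_ hFV hFc hF2 (fun j hj => (hjF j hj).trans hFF) hZF
    · intro h2
      apply h.ne
      rw [h.F_eq]
      refine le_inf h.le (h.le.trans ?_)
      rw [Subgroup.le_centralizer_iff]
      exact h2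
    · intro j hj
      rw [Subgroup.le_centralizer_iff]
      refine (hjF j hj).trans ?_
      rw [h.F_eq]
      exact inf_le_right
  · obtain ⟨s, hsW, hsij⟩ := hrel
    have hV2 : IsPGroup 2 V := S.isPGroup'.to_le hs.le
    refine three hs hoff (i := i) (j := j) (s := s) (E := E) (F := F) ⟨h, hD, hPW, hne, hlt, hji, hsW, hsij, h1, hi,
      ?_, fun A hA => hoff A (hA.trans hWP), hV2⟩ hperm htr hWP hW2 hFV hFc hF2 hFF hZF
    intro k hki hkj
    refine hiF k fun h2 => ?_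
    obtain ⟨t, ht, h3⟩ := h2
    rcases h1 t ht with h4 | h4
    · rw [h4] at h3; exact hki (hinj h3).symm
    · rw [h4] at h3; exact hkj (hinj h3).symm

end Cfsg.Agent.Omega.NO1.WRF

end

section


/-!
# THEOREM WRF (bb OMEGA #16078) on `FDat`, transitive families

`FDat S P E F W`, `P` without offender on `V_P`, `F ≤ FF`, `V_P ≰ O₂(C_G(FF))`:

* `FDat.wrf` : `V_P` is not the sum of `|ι| ≥ 2` subgroups permuted transitively by `P`;
* `FDat.wrf1` : the same for `V₁ = [V_P, O²(P)]`;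
* `wrf_of_hyp`, `wrf1_of_hyp` : from THEOREM FLAT (`Hyp V F`, `V_P ≤ V`, `W_F ≤ S`, `V_P ≰ E_F`).
-/

set_option autoImplicit false
set_option linter.unusedSectionVars false

namespace Cfsg.Agent.Omega.NO1.WRF.Irr

open Subgroup Cfsg Cfsg.Agent.ZN Cfsg.Agent.ZN.ChoiceBase Cfsg.Agent.Omega.MinPar Cfsg.Agent.Omega.Frame
open Cfsg.Agent.Omega.NO1 Cfsg.Agent.Omega.NO1.WRF.Single
open Cfsg.Agent.Omega.FFThm (ElemM OffM)
open Cfsg.Agent.Omega.NOne.Flat (Hyp WW)
open Cfsg.Agent.MinSimple.VModule (oddGen)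

universe u v

variable {G : Type u} [Group G] [Finite G]

/-- offenders under conjugation by `g ∈ N(V)` -/
theorem offM_cj' {V A : Subgroup G} (h : OffM V A) {g : G} (hg : g ∈ normalizer (V : Set G)) : OffM V (cj g A) := by
  have hW : cj g V = V := cj_eq_of_mem_normalizer hg
  have hc : ∀ x, x ∈ centralizer (V : Set G) → g * x * g⁻¹ ∈ centralizer (V : Set G) := by
    intro x hx
    have h1 := cj_centralizer g V
    rw [hW] at h1
    rw [← h1]
    exact ⟨x, hx, rfl⟩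
  refine ⟨⟨?_, ?_⟩, fun h0 => h.ne ?_, ?_⟩
  · rintro _ ⟨a, ha, rfl⟩
    have h1 := hc _ (h.sq a ha)
    change (g * a * g⁻¹) ^ 2 ∈ _
    have e : (g * a * g⁻¹) ^ 2 = g * a ^ 2 * g⁻¹ := by rw [pow_two, pow_two]; group
    rwa [e]
  · rintro _ ⟨a, ha, rfl⟩ _ ⟨b, hb, rfl⟩
    have h1 := hc _ (h.comm a ha b hb)
    change g * a * g⁻¹ * (g * b * g⁻¹) * (g * a * g⁻¹)⁻¹ * (g * b * g⁻¹)⁻¹ ∈ _
    have e : g * a * g⁻¹ * (g * b * g⁻¹) * (g * a * g⁻¹)⁻¹ * (g * b * g⁻¹)⁻¹ =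
      g * (a * b * a⁻¹ * b⁻¹) * g⁻¹ := by group
    rwa [e]
  · rw [← hW, ← cj_centralizer, cj_le_iff, cj_inv_cj] at h0
    exact h0
  · have e1 : cj g A ⊓ centralizer (V : Set G) = cj g (A ⊓ centralizer (V : Set G)) := by
      conv_lhs => rw [← hW, ← cj_centralizer, ← cj_inf]
    have e2 : V ⊓ centralizer (cj g A : Set G) = cj g (V ⊓ centralizer (A : Set G)) := by
      conv_lhs => rw [← hW, ← cj_centralizer, ← cj_inf]
    rw [e1, e2, card_cj, card_cj, card_cj]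
    exact h.le

namespace FDat

variable {S : Sylow 2 G} {P E F W FF : Subgroup G} (h : FDat S P E F W)
include h

theorem cv {v : G} (hv : v ∈ zl (S : Subgroup G) P) (hc : ∀ g ∈ P, g * v * g⁻¹ = v) : v = 1 := by
  have h1 : v ∈ zl (S : Subgroup G) P ⊓ centralizer (oddGen P : Set G) := by
    refine ⟨hv, mem_centralizer_iff.mpr fun x hx => ?_⟩
    rw [← mul_inv_eq_iff_eq_mul]
    exact hc x (MinSimple.VModule.oddGen_le P hx)
  rw [h.cfg.one.cen, mem_bot] at h1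
  exact h1

/-- no offender on `V₁` -/
theorem noff1 (hoff : ∀ A : Subgroup G, A ≤ P → ¬ OffM (zl (S : Subgroup G) P) A) :
    ∀ A : Subgroup G, A ≤ P → ¬ OffM (V1 S P) A := by
  intro A hA ho
  obtain ⟨B, hBA, hB2, hoB⟩ := Cfsg.Agent.Omega.NO1.JMin.exists_two ho
  obtain ⟨R, hR, hBR⟩ := ChoiceSit.exists_syl hB2 (hBA.trans hA)
  obtain ⟨p, hp, hpR⟩ := ChoiceSit.syl_conj hR h.syl
  have hX := offM_cj' hoB (h.P_norm_V1 hp)
  have hXS : cj p B ≤ (S : Subgroup G) := by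
    rw [← hpR]; exact cj_mono p hBR
  set X := cj p B with hXd
  have hXC : ∀ x : G, x ∈ (S : Subgroup G) → x ∈ centralizer (V1 S P : Set G) →
      x ∈ centralizer (zl (S : Subgroup G) P : Set G) := by
    intro x hxS hx
    have h1 : zl (S : Subgroup G) P ≤ centralizer ({x} : Set G) := by
      rw [← h.sup_eq]
      refine sup_le ?_ ?_
      · intro v hv
        rw [mem_centralizer_singleton_iff]
        exact mem_centralizer_iff.mp hx v hv
      · intro z hz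
        rw [mem_centralizer_singleton_iff]
        exact ((ChoiceBase.mem_zc.1 hz).2.2 x hxS).symm
    rw [mem_centralizer_iff]
    intro v hv
    exact mem_centralizer_singleton_iff.mp (h1 hv)
  have hXP : X ≤ P := hXS.trans h.cfg.S_le
  refine hoff X hXP ⟨⟨fun a ha => hXC _ (Subgroup.pow_mem _ (hXS ha) 2) (hX.sq a ha), fun a ha b hb => hXC _ ?_
    (hX.comm a ha b hb)⟩, fun h1 => hX.ne (h1.trans (centralizer_le h.V1_le)), ?_⟩
  · exact Subgroup.mul_mem _ (Subgroup.mul_mem _ (Subgroup.mul_mem _ (hXS ha) (hXS hb)) (Subgroup.inv_mem _ (hXS ha)))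
      (Subgroup.inv_mem _ (hXS hb))
  · have e1 : X ⊓ centralizer (zl (S : Subgroup G) P : Set G) = X ⊓ centralizer (V1 S P : Set G) :=
      le_antisymm (inf_le_inf_left _ (centralizer_le h.V1_le)) (le_inf inf_le_left fun x hx => hXC x (hXS hx.1) hx.2)
    rw [e1]
    have hZ : zc (S : Subgroup G) ≤ zl (S : Subgroup G) P ⊓ centralizer (X : Set G) := by
      refine le_inf h.cfg.Z_le_V fun z hz => mem_centralizer_iff.mpr fun x hx => ?_
      exact (ChoiceBase.mem_zc.1 hz).2.2 x (hXS hx)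
    have e2 : V1 S P ⊔ (zl (S : Subgroup G) P ⊓ centralizer (X : Set G)) = zl (S : Subgroup G) P := by
      refine le_antisymm (sup_le h.V1_le inf_le_left) ?_
      conv_lhs => rw [← h.sup_eq]
      exact sup_le_sup_left hZ _
    have e3 : V1 S P ⊓ (zl (S : Subgroup G) P ⊓ centralizer (X : Set G)) = V1 S P ⊓ centralizer (X : Set G) := by
      rw [← inf_assoc, inf_eq_left.mpr h.V1_le]
    have e4 := Cfsg.Agent.PLocal.ElemAbSup.card_sup_mul_card_inf (A := V1 S P)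
      (B := zl (S : Subgroup G) P ⊓ centralizer (X : Set G))
      (inf_le_left.trans (h.cfg.V_comm.trans (centralizer_le h.V1_le)))
    rw [e2, e3] at e4
    have hpos : 0 < Nat.card ↥(V1 S P ⊓ centralizer (X : Set G)) := Nat.card_pos
    refine Nat.le_of_mul_le_mul_right ?_ hpos
    calc Nat.card (zl (S : Subgroup G) P) * Nat.card ↥(X ⊓ centralizer (V1 S P : Set G)) *
          Nat.card ↥(V1 S P ⊓ centralizer (X : Set G))
        = Nat.card (V1 S P) * Nat.card ↥(X ⊓ centralizer (V1 S P : Set G)) *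
          Nat.card ↥(zl (S : Subgroup G) P ⊓ centralizer (X : Set G)) := by
          rw [mul_right_comm, e4]; ring
      _ ≤ Nat.card X * Nat.card ↥(V1 S P ⊓ centralizer (X : Set G)) *
          Nat.card ↥(zl (S : Subgroup G) P ⊓ centralizer (X : Set G)) := Nat.mul_le_mul_right _ hX.le
      _ = _ := by ring

theorem lt1 : (E ⊓ V1 S P).relIndex (V1 S P) < (F ⊓ V1 S P).relIndex (E ⊓ V1 S P) := by
  have hFE := h.F_le_E
  have hVn : ∀ {A B : Subgroup G}, A ≤ zl (S : Subgroup G) P → B ≤ zl (S : Subgroup G) P →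
      A ≤ normalizer (B : Set G) := fun hA hB =>
    (hA.trans (h.cfg.V_comm.trans (centralizer_le hB))).trans (centralizer_le_normalizer _)
  have e1 : (E ⊓ V1 S P).relIndex (V1 S P) = E.relIndex (zl (S : Subgroup G) P) := by
    rw [inf_relIndex_right]
    have h1 := relIndex_sup_of_norm (hVn h.V1_le h.E_le_V)
    have h2 : V1 S P ⊔ E = zl (S : Subgroup G) P := by
      refine le_antisymm (sup_le h.V1_le h.E_le_V) ?_
      conv_lhs => rw [← h.sup_eq]
      exact sup_le_sup_left (h.Z_le.trans hFE) _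
    rw [h2] at h1
    exact h1.symm
  have e2 : (F ⊓ V1 S P).relIndex (E ⊓ V1 S P) = F.relIndex E := by
    have h1 := relIndex_sup_of_norm (hVn (inf_le_left.trans h.E_le_V : E ⊓ V1 S P ≤ _) h.F_le_V)
    have h2 : (E ⊓ V1 S P) ⊔ F = E := by
      refine le_antisymm (sup_le inf_le_left hFE) ?_
      intro e he
      have h3 : e ∈ V1 S P ⊔ zc (S : Subgroup G) := by rw [h.sup_eq]; exact h.E_le_V he
      obtain ⟨v, hv, z, hz, rfl⟩ := exists_mul_of_mem_sup h.cfg.V_comm h.V1_le h.cfg.Z_le_V h3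
      have hzF := h.Z_le hz
      refine mul_mem_sup ⟨?_, hv⟩ hzF
      have := E.mul_mem he (E.inv_mem (hFE hzF))
      rwa [mul_inv_cancel_right] at this
    rw [h2] at h1
    rw [h1, ← inf_relIndex_right F, ← inf_relIndex_right (F ⊓ V1 S P)]
    congr 1
    refine le_antisymm (le_inf (inf_le_left.trans inf_le_left) inf_le_right)
      (le_inf (le_inf inf_le_left (inf_le_right.trans inf_le_right)) inf_le_right)
  rw [e1, e2]
  exact h.lt

/-- **WRF** for `V_P` -/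
theorem wrf {ι : Type v} [Finite ι] [Nontrivial ι] {Vf : ι → Subgroup G}
    (hoff : ∀ A : Subgroup G, A ≤ P → ¬ OffM (zl (S : Subgroup G) P) A)
    (hFF : F ≤ FF) (hFV : zl (S : Subgroup G) P ≤ centralizer (FF : Set G))
    (hFc : FF ≤ centralizer (FF : Set G)) (hF2 : IsPGroup 2 FF)
    (hbad : ¬ zl (S : Subgroup G) P ≤ o2 (centralizer (FF : Set G)))
    (hind : iSupIndep Vf) (hsup : ⨆ i, Vf i = zl (S : Subgroup G) P)
    (hperm : ∀ p ∈ P, ∀ i, ∃ j, cj p (Vf i) = Vf j) (htr : ∀ i j, ∃ p ∈ P, cj p (Vf i) = Vf j) : False :=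
  hbad (WRF.wrf h.cfg.sit hoff h.flat h.lt (fun _ hv hc => h.cv hv hc) hind hsup hperm htr h.WP h.W2 hFV hFc hF2 hFF
    (inf_le_right.trans (h.Z_le.trans hFF)))

/-- **WRF** for `V₁` -/
theorem wrf1 {ι : Type v} [Finite ι] [Nontrivial ι] {Vf : ι → Subgroup G}
    (hoff : ∀ A : Subgroup G, A ≤ P → ¬ OffM (zl (S : Subgroup G) P) A)
    (hFF : F ≤ FF) (hFV : zl (S : Subgroup G) P ≤ centralizer (FF : Set G))
    (hFc : FF ≤ centralizer (FF : Set G)) (hF2 : IsPGroup 2 FF)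
    (hbad : ¬ zl (S : Subgroup G) P ≤ o2 (centralizer (FF : Set G)))
    (hind : iSupIndep Vf) (hsup : ⨆ i, Vf i = V1 S P)
    (hperm : ∀ p ∈ P, ∀ i, ∃ j, cj p (Vf i) = Vf j) (htr : ∀ i j, ∃ p ∈ P, cj p (Vf i) = Vf j) : False := by
  have hFo : FF ≤ o2 (centralizer (FF : Set G)) := le_o2 hFc hF2 (centralizer_le_normalizer _)
  have h1 := WRF.wrf h.sit1 (h.noff1 hoff) h.flat1 h.lt1 (fun _ hv hc => h.cv (h.V1_le hv) hc) hind hsup hperm htr
    h.WP h.W2 (h.V1_le.trans hFV) hFc hF2 (inf_le_left.trans hFF) (inf_le_right.trans (h.Z_le.trans hFF))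
  apply hbad
  rw [← h.sup_eq]
  exact sup_le h1 ((h.Z_le.trans hFF).trans hFo)

end FDat

section hyp

variable {S : Sylow 2 G} {P V F : Subgroup G} (H : Hyp V F)
include H

/-- **WRF** for `V_P`, from THEOREM FLAT -/
theorem wrf_of_hyp (h : Cfg S P) (hoff : ∀ A : Subgroup G, A ≤ P → ¬ OffM (zl (S : Subgroup G) P) A)
    (h0V : zl (S : Subgroup G) P ≤ V) (hWS : WW V F ≤ S)
    (hnot : ¬ zl (S : Subgroup G) P ≤ NOne.Flat.EE V F) {ι : Type v} [Finite ι] [Nontrivial ι]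
    {Vf : ι → Subgroup G} (hind : iSupIndep Vf) (hsup : ⨆ i, Vf i = zl (S : Subgroup G) P)
    (hperm : ∀ p ∈ P, ∀ i, ∃ j, cj p (Vf i) = Vf j) (htr : ∀ i j, ∃ p ∈ P, cj p (Vf i) = Vf j) : False := by
  have hV2 : IsPGroup 2 F := S.isPGroup'.to_le (H.F_le_E.trans (NOne.Flat.Hyp.E_le_W.trans hWS))
  exact (fdat_of_hyp H h h0V hWS hnot).wrf hoff inf_le_right
    (h0V.trans (H.comm.trans (centralizer_le H.F_le_V)))
    (H.F_le_V.trans (H.comm.trans (centralizer_le H.F_le_V))) hV2 (hyp_bad H h0V hnot) hind hsup hperm htr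

/-- **WRF** for `V₁`, from THEOREM FLAT -/
theorem wrf1_of_hyp (h : Cfg S P) (hoff : ∀ A : Subgroup G, A ≤ P → ¬ OffM (zl (S : Subgroup G) P) A)
    (h0V : zl (S : Subgroup G) P ≤ V) (hWS : WW V F ≤ S)
    (hnot : ¬ zl (S : Subgroup G) P ≤ NOne.Flat.EE V F) {ι : Type v} [Finite ι] [Nontrivial ι]
    {Vf : ι → Subgroup G} (hind : iSupIndep Vf) (hsup : ⨆ i, Vf i = V1 S P)
    (hperm : ∀ p ∈ P, ∀ i, ∃ j, cj p (Vf i) = Vf j) (htr : ∀ i j, ∃ p ∈ P, cj p (Vf i) = Vf j) : False := by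
  have hV2 : IsPGroup 2 F := S.isPGroup'.to_le (H.F_le_E.trans (NOne.Flat.Hyp.E_le_W.trans hWS))
  exact (fdat_of_hyp H h h0V hWS hnot).wrf1 hoff inf_le_right
    (h0V.trans (H.comm.trans (centralizer_le H.F_le_V)))
    (H.F_le_V.trans (H.comm.trans (centralizer_le H.F_le_V))) hV2 (hyp_bad H h0V hnot) hind hsup hperm htr

end hyp

end Cfsg.Agent.Omega.NO1.WRF.Irr

end

section


/-!
# THEOREM COMP (bb OMEGA #17539): FLAT for a representation `Rep`

`R : Rep S P V Y M T Mx` (`M` is `V` additively, `Y` the group induced by `P`).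

* `R.ag B : AddSubgroup M`, `R.im X : Subgroup Y` for `B, X ≤ G`; `R.faithfulSMul`;
* `R.flatA` : `FlatM V E F W`, `W ≤ P` imply `FlatA (R.im W) (R.ag E) (R.ag F)`;
* `R.four`, `R.pf`, `R.rk` : the cardinalities of `KFlat`;
* `hyp_pf`, `hyp_nine`, `hyp_index_V1` : (PF), (9), `|V₁ : V₁ ∩ E| = |V_P : V_P ∩ E|` from 970's `Hyp V F`;
* `flatA_of_hyp` : everything for `V₀ ≤ V`, `V₀ ≰ E_F`.
-/

set_option autoImplicit false
set_option linter.unusedSectionVars false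

namespace Cfsg.Agent.Omega.NO1

open Subgroup Cfsg Cfsg.Agent.ZN Cfsg.Agent.Omega.MinPar Cfsg.Agent.Omega.Frame
open Cfsg.Agent.Omega.NO1.WRF (FlatM)
open Cfsg.Agent.Omega.NO1.Comp (FlatA)

universe u

namespace Rep

variable {G Y M : Type u} [Group G] {S P V : Subgroup G} [Group Y] [AddCommGroup M]
  [DistribMulAction Y M] {T : Sylow 2 Y} {Mx : Subgroup Y} (R : Rep S P V Y M T Mx)

theorem el_neg (m : M) : R.el (-m) = (R.el m)⁻¹ := by
  have h := R.add (-m) m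
  rw [neg_add_cancel, R.el_zero] at h
  exact (inv_eq_of_mul_eq_one_left h.symm).symm

theorem el_comm (m n : M) : R.el m * R.el n = R.el n * R.el m := by rw [← R.add, add_comm, R.add]

/-- the subgroup of the module -/
def ag (B : Subgroup G) : AddSubgroup M where
  carrier := {m | R.el m ∈ B}
  zero_mem' := by
    change R.el 0 ∈ B
    rw [R.el_zero]
    exact B.one_mem
  add_mem' := fun {a b} ha hb => by
    change R.el (a + b) ∈ B
    rw [R.add]
    exact B.mul_mem ha hb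
  neg_mem' := fun {a} ha => by
    change R.el (-a) ∈ B
    rw [R.el_neg]
    exact B.inv_mem ha

theorem mem_ag {B : Subgroup G} {m : M} : m ∈ R.ag B ↔ R.el m ∈ B := Iff.rfl

theorem im_isPGroup {X : Subgroup G} (hX : IsPGroup 2 X) : IsPGroup 2 (R.im X) := by
  rintro ⟨_, p, hp, rfl⟩
  obtain ⟨k, hk⟩ := hX ⟨p, hp⟩
  refine ⟨k, Subtype.ext ?_⟩
  have h1 : p ^ 2 ^ k = 1 := Subtype.ext (show (p : G) ^ 2 ^ k = 1 from congrArg Subtype.val hk)
  change R.ac p ^ 2 ^ k = 1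
  rw [← map_pow, h1, map_one]

theorem im_le_T {X : Subgroup G} (hX : X ≤ S) : R.im X ≤ T := by
  rintro _ ⟨p, hp, rfl⟩
  exact (R.mem_T _).2 ⟨p, hX hp, rfl⟩

include R in
theorem faithfulSMul : FaithfulSMul Y M where
  eq_of_smul_eq_smul := by
    intro a b h
    have h1 : b⁻¹ * a = 1 := R.faith _ fun m => by rw [mul_smul, h m, inv_smul_smul]
    exact (inv_mul_eq_one.1 h1).symm

include R in
theorem finite [Finite G] : Finite M := Finite.of_injective R.el R.inj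

include R in
theorem finiteY [Finite G] : Finite Y := Finite.of_surjective R.ac R.acs

/-- `FlatM` to `FlatA` -/
theorem flatA {E F W : Subgroup G} (h : FlatM V E F W) (hWP : W ≤ P) :
    FlatA (R.im W) (R.ag E) (R.ag F) where
  two := R.two
  F_iff v := by
    rw [mem_ag]
    constructor
    · rintro hv _ ⟨p, hp, rfl⟩
      refine R.inj ?_
      rw [R.smul]
      exact h.F_cent hv hp
    · intro hv
      refine h.mem_F (R.mem v) fun s hs => ?_
      have h1 := congrArg R.el (hv _ ⟨⟨s, hWP hs⟩, hs, rfl⟩)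
      rw [R.smul] at h1
      exact h1
  VE := by
    rintro _ ⟨p, hp, rfl⟩ v
    rw [mem_ag, add_comm, R.add, R.smul]
    have h1 := h.VE p hp _ (R.mem v)
    rwa [R.el_inv] at h1
  EF := by
    rintro _ ⟨p, hp, rfl⟩ v hv
    rw [mem_ag, add_comm, R.add, R.smul]
    have h1 := h.EF p hp _ hv
    rwa [R.el_inv] at h1
  reg w hw e he := by
    obtain ⟨s, hs, f, hf, h1⟩ := h.reg (R.el w) (R.mem w) hw (R.el e) he
    obtain ⟨f', rfl⟩ := R.surj f (h.F_le hf)
    refine ⟨R.ac ⟨s, hWP hs⟩, ⟨⟨s, hWP hs⟩, hs, rfl⟩, ?_⟩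
    have h2 : R.el e = R.el (w + R.ac ⟨s, hWP hs⟩ • w + f') := by
      rw [R.add, R.add, R.smul, h1, R.el_inv]
    have h3 := R.inj h2
    have h4 : R.ac ⟨s, hWP hs⟩ • w + w + e = f' := by
      rw [h3, add_comm (R.ac ⟨s, hWP hs⟩ • w) w, ← add_assoc, R.two, zero_add]
    rw [h4]
    exact hf
  ab := by
    rintro _ ⟨p, hp, rfl⟩ _ ⟨q, hq, rfl⟩ v
    refine R.inj ?_
    rw [R.smul, R.smul, R.smul, R.smul]
    exact h.ab p hp q hq _ (R.mem v)
  inv := by
    rintro _ ⟨p, hp, rfl⟩ v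
    refine R.inj ?_
    rw [R.smul, R.smul]
    exact h.inv p hp _ (R.mem v)
  ne := by
    intro hle
    apply h.ne
    intro e he
    obtain ⟨m, rfl⟩ := R.surj e (h.le he)
    exact hle (show m ∈ R.ag E from he)
  ne' := by
    obtain ⟨w, hw, hwE⟩ := SetLike.not_le_iff_exists.1 h.ne'
    obtain ⟨m, rfl⟩ := R.surj w hw
    exact ⟨m, hwE⟩

theorem card_ag {B : Subgroup G} (hB : B ≤ V) : Nat.card (R.ag B) = Nat.card B := by
  refine Nat.card_congr (Equiv.ofBijective (fun m : R.ag B => (⟨R.el m, m.2⟩ : B)) ⟨?_, ?_⟩)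
  · intro a b hab
    exact Subtype.ext (R.inj (congrArg Subtype.val hab))
  · rintro ⟨x, hx⟩
    obtain ⟨m, rfl⟩ := R.surj x (hB hx)
    exact ⟨⟨m, hx⟩, rfl⟩

end Rep

section card

variable {G : Type u} [Group G] [Finite G] {A B : Subgroup G}

theorem card_eq_mul (h : A ≤ B) : Nat.card B = Nat.card A * A.relIndex B := by
  have h1 := relIndex_mul_relIndex ⊥ A B bot_le h
  rw [relIndex_bot_left, relIndex_bot_left] at h1
  exact h1.symm

end card

namespace Rep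

variable {G Y M : Type u} [Group G] [Finite G] {S P V : Subgroup G} [Group Y] [AddCommGroup M]
  [DistribMulAction Y M] {T : Sylow 2 Y} {Mx : Subgroup Y} (R : Rep S P V Y M T Mx) {E F W : Subgroup G}

theorem four (hE : E ≤ V) (h4 : 4 ≤ E.relIndex V) : 4 * Nat.card (R.ag E) ≤ Nat.card M := by
  rw [R.card_ag hE, R.card_M, card_eq_mul hE, mul_comm]
  exact Nat.mul_le_mul_left _ h4

theorem pf (hE : E ≤ V) (hF : F ≤ E) (h : E.relIndex V ^ 2 ≤ F.relIndex E) :
    Nat.card M ^ 2 * Nat.card (R.ag F) ≤ Nat.card (R.ag E) ^ 3 := by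
  rw [R.card_ag hE, R.card_ag (hF.trans hE), R.card_M, card_eq_mul hE]
  have h1 := card_eq_mul hF
  calc (Nat.card E * E.relIndex V) ^ 2 * Nat.card F = Nat.card E ^ 2 * (Nat.card F * E.relIndex V ^ 2) := by ring
    _ ≤ Nat.card E ^ 2 * (Nat.card F * F.relIndex E) := Nat.mul_le_mul_left _ (Nat.mul_le_mul_left _ h)
    _ = Nat.card E ^ 3 := by rw [← h1]; ring

theorem rk (hE : E ≤ V) (hF : F ≤ E)
    (h : ∀ s ∈ W, (centralizer {s}).relIndex V ≤ F.relIndex E) :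
    ∀ u ∈ R.im W, Nat.card {v : M | ∃ w, v = u • w - w} * Nat.card (R.ag F) ≤ Nat.card (R.ag E) := by
  have := R.finite
  rintro _ ⟨p, hp, rfl⟩
  -- the commutator map
  let D : M →+ M :=
    { toFun := fun w => R.ac p • w - w
      map_zero' := by rw [smul_zero, sub_zero]
      map_add' := fun a b => by rw [smul_add]; abel }
  have h1 : Nat.card {v : M | ∃ w, v = R.ac p • w - w} = Nat.card D.range := by
    refine Nat.card_congr (Equiv.setCongr ?_)
    ext v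
    constructor
    · rintro ⟨w, rfl⟩
      exact ⟨w, rfl⟩
    · rintro ⟨w, rfl⟩
      exact ⟨w, rfl⟩
  have h2 : Nat.card M = Nat.card D.ker * Nat.card D.range := by
    rw [← AddSubgroup.card_mul_index D.ker, AddSubgroup.index_ker]
  have h3 : Nat.card D.ker = Nat.card (V ⊓ centralizer {(p : G)} : Subgroup G) := by
    rw [← R.card_ag inf_le_left]
    refine Nat.card_congr (Equiv.setCongr ?_)
    ext v
    change D v = 0 ↔ R.el v ∈ V ⊓ centralizer {(p : G)}
    constructor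
    · intro h4
      have h5 : R.ac p • v = v := sub_eq_zero.1 h4
      have h6 := congrArg R.el h5
      rw [R.smul, mul_inv_eq_iff_eq_mul] at h6
      exact ⟨R.mem v, mem_centralizer_singleton_iff.2 h6.symm⟩
    · rintro ⟨-, h4⟩
      replace h4 := mem_centralizer_singleton_iff.1 h4
      refine sub_eq_zero.2 (R.inj ?_)
      rw [R.smul, ← h4, mul_inv_cancel_right]
  have h4 := card_eq_mul (A := V ⊓ centralizer {(p : G)}) (B := V) inf_le_left
  rw [inf_relIndex_left, ← R.card_M, h2, ← h3] at h4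
  have h5 : 0 < Nat.card D.ker := Nat.card_pos
  have h6 := Nat.eq_of_mul_eq_mul_left h5 h4
  rw [h1, h6, R.card_ag hE, R.card_ag (hF.trans hE), card_eq_mul hF, mul_comm]
  exact Nat.mul_le_mul_left _ (h p hp)

end Rep

namespace WRF.Irr

open Cfsg.Agent.Omega.NOne.Flat (Hyp WW)

variable {G : Type u} [Group G] [Finite G] {S : Sylow 2 G} {P V F V₀ : Subgroup G} (H : Hyp V F)
include H

theorem hyp_relIndex (h0V : V₀ ≤ V) (hn : WW V F ≤ normalizer (V₀ : Set G)) (hnot : ¬ V₀ ≤ NOne.Flat.EE V F) :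
    (V₀ ⊓ F).relIndex (V₀ ⊓ NOne.Flat.EE V F) = F.relIndex (NOne.Flat.EE V F) := by
  have h3 : (V₀ ⊓ NOne.Flat.EE V F) ⊔ F = NOne.Flat.EE V F :=
    le_antisymm (sup_le inf_le_right H.F_lt_E.le) (hyp_EE_le H h0V hn hnot)
  have h4 : V₀ ⊓ NOne.Flat.EE V F ≤ normalizer (F : Set G) :=
    ((inf_le_left.trans h0V).trans (H.comm.trans (centralizer_le H.F_le_V))).trans (centralizer_le_normalizer _)
  have h5 := relIndex_sup_of_norm h4
  rw [h3] at h5
  rw [h5, ← inf_relIndex_right F, ← inf_relIndex_right (V₀ ⊓ F)]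
  congr 1
  refine le_antisymm (le_inf (inf_le_left.trans inf_le_right) inf_le_right)
    (le_inf (le_inf (inf_le_right.trans inf_le_left) inf_le_left) inf_le_right)

theorem hyp_index_le (h0V : V₀ ≤ V) : (V₀ ⊓ NOne.Flat.EE V F).relIndex V₀ ≤ (NOne.Flat.EE V F).relIndex V := by
  rw [inf_relIndex_left]
  exact relIndex_le_of_le_right h0V Subgroup.index_ne_zero_of_finite

/-- **(PF)** for `V₀` -/
theorem hyp_pf (h0V : V₀ ≤ V) (hn : WW V F ≤ normalizer (V₀ : Set G)) (hnot : ¬ V₀ ≤ NOne.Flat.EE V F) :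
    (V₀ ⊓ NOne.Flat.EE V F).relIndex V₀ ^ 2 ≤ (V₀ ⊓ F).relIndex (V₀ ⊓ NOne.Flat.EE V F) := by
  rw [hyp_relIndex H h0V hn hnot]
  exact (Nat.pow_le_pow_left (hyp_index_le H h0V) 2).trans H.sq_le

/-- **(9)** for `V₀` -/
theorem hyp_nine (h0V : V₀ ≤ V) (hn : WW V F ≤ normalizer (V₀ : Set G)) (hnot : ¬ V₀ ≤ NOne.Flat.EE V F)
    {s : G} (hs : s ∈ WW V F) :
    (centralizer {s}).relIndex V₀ ≤ (V₀ ⊓ F).relIndex (V₀ ⊓ NOne.Flat.EE V F) := by
  by_cases hsN : s ∈ NOne.Flat.NN V F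
  · have h1 : V₀ ⊓ NOne.Flat.EE V F ≤ centralizer {s} := by
      intro e he
      rw [mem_centralizer_singleton_iff]
      exact mem_centralizer_iff.1 (mem_inf.1 hsN).2 e he.2
    exact (relIndex_le_of_le_left h1 Subgroup.index_ne_zero_of_finite).trans (hyp_lt H h0V hn hnot).le
  · rw [hyp_relIndex H h0V hn hnot]
    exact (relIndex_le_of_le_right h0V Subgroup.index_ne_zero_of_finite).trans (H.relIndex_cent_le hs hsN)

/-- `|V₁ : V₁ ∩ E| = |V_P : V_P ∩ E|` -/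
theorem hyp_index_V1 (h : Cfg S P) (h0V : zl (S : Subgroup G) P ≤ V) (hWS : WW V F ≤ S)
    (hnot : ¬ zl (S : Subgroup G) P ≤ NOne.Flat.EE V F) :
    (V1 S P ⊓ NOne.Flat.EE V F).relIndex (V1 S P) =
      (zl (S : Subgroup G) P ⊓ NOne.Flat.EE V F).relIndex (zl (S : Subgroup G) P) := by
  have hd := fdat_of_hyp H h h0V hWS hnot
  have h1 : V1 S P ⊔ (zl (S : Subgroup G) P ⊓ NOne.Flat.EE V F) = zl (S : Subgroup G) P := by
    refine le_antisymm (sup_le hd.V1_le inf_le_left) ?_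
    conv_lhs => rw [← hd.sup_eq]
    exact sup_le_sup_left (hd.Z_le.trans (inf_le_inf_left _ H.F_lt_E.le)) _
  have h2 : V1 S P ≤ normalizer ((zl (S : Subgroup G) P ⊓ NOne.Flat.EE V F : Subgroup G) : Set G) :=
    (hd.V1_le.trans (h.V_comm.trans (centralizer_le inf_le_left))).trans (centralizer_le_normalizer _)
  have h3 := relIndex_sup_of_norm h2
  rw [h1] at h3
  have e : V1 S P ⊓ (zl (S : Subgroup G) P ⊓ NOne.Flat.EE V F) = V1 S P ⊓ NOne.Flat.EE V F := by
    rw [← inf_assoc, inf_eq_left.2 hd.V1_le]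
  rw [h3, ← inf_relIndex_left (V1 S P) (zl (S : Subgroup G) P ⊓ NOne.Flat.EE V F), e]

theorem hyp_not_V1 (h : Cfg S P) (h0V : zl (S : Subgroup G) P ≤ V) (hWS : WW V F ≤ S)
    (hnot : ¬ zl (S : Subgroup G) P ≤ NOne.Flat.EE V F) : ¬ V1 S P ≤ NOne.Flat.EE V F := by
  intro hle
  apply hnot
  have hd := fdat_of_hyp H h h0V hWS hnot
  rw [← hd.sup_eq]
  exact sup_le hle ((hd.Z_le.trans inf_le_right).trans H.F_lt_E.le)

variable {Y M : Type u} [Group Y] [AddCommGroup M] [DistribMulAction Y M] {T : Sylow 2 Y} {Mx : Subgroup Y}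

/-- FLAT for a representation of `V₀` -/
theorem rep_flat (R : Rep (S : Subgroup G) P V₀ Y M T Mx) (hWP : WW V F ≤ P) (h0V : V₀ ≤ V)
    (hn : WW V F ≤ normalizer (V₀ : Set G)) (hnot : ¬ V₀ ≤ NOne.Flat.EE V F)
    (h4 : 4 ≤ (V₀ ⊓ NOne.Flat.EE V F).relIndex V₀) :
    FlatA (R.im (WW V F)) (R.ag (V₀ ⊓ NOne.Flat.EE V F)) (R.ag (V₀ ⊓ F)) ∧
      4 * Nat.card (R.ag (V₀ ⊓ NOne.Flat.EE V F)) ≤ Nat.card M ∧
      Nat.card M ^ 2 * Nat.card (R.ag (V₀ ⊓ F)) ≤ Nat.card (R.ag (V₀ ⊓ NOne.Flat.EE V F)) ^ 3 ∧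
      ∀ u ∈ R.im (WW V F), Nat.card {v : M | ∃ w, v = u • w - w} * Nat.card (R.ag (V₀ ⊓ F)) ≤
        Nat.card (R.ag (V₀ ⊓ NOne.Flat.EE V F)) :=
  ⟨R.flatA (flat_of_hyp H h0V hn hnot) hWP, R.four inf_le_left h4,
    R.pf inf_le_left (inf_le_inf_left _ H.F_lt_E.le) (hyp_pf H h0V hn hnot),
    R.rk inf_le_left (inf_le_inf_left _ H.F_lt_E.le) fun _ hs => hyp_nine H h0V hn hnot hs⟩

/-- **(1)** : `U` centralises the normal subgroups of odd order -/
theorem rep_odd (R : Rep (S : Subgroup G) P V₀ Y M T Mx) (hWP : WW V F ≤ P) (h0V : V₀ ≤ V)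
    (hn : WW V F ≤ normalizer (V₀ : Set G)) (hnot : ¬ V₀ ≤ NOne.Flat.EE V F)
    (h4 : 4 ≤ (V₀ ⊓ NOne.Flat.EE V F).relIndex V₀) {O : Subgroup Y} (hO : Odd (Nat.card O))
    (hOn : ∀ u ∈ R.im (WW V F), ∀ x ∈ O, u * x * u⁻¹ ∈ O) : R.im (WW V F) ≤ centralizer (O : Set Y) := by
  have := R.finite
  have := R.finiteY
  have := R.faithfulSMul
  obtain ⟨h1, h2, -, -⟩ := rep_flat H R hWP h0V hn hnot h4
  exact Subgroup.le_centralizer_iff.mp (h1.odd_comm (Comp.four_of_card h2) hO hOn)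

end WRF.Irr

end Cfsg.Agent.Omega.NO1

end

end

-- merged: Cfsg.Agent.Mrg.Omega.NO1.Fr
section

/-!
# N1, (BT), `V_P` without offender: the frame of TEXT B4 (#15506) and the new cut of `BTNot`

* `Fr S P M F` : `V = zl S M` (LEMMA J, `JMin.Inv`), no offender on `V`, `F` a maximal bad subgroup of `V`
  (`Flat.Hyp`), `W_F ≤ S`, `W_F ≰ O₂(P)`, `V_P ≰ E_F`;
* `exists_fr` : `Cfg S P`, `NoOff S P` give a frame;
* `PlusAt S P E` : (+) : `p ∈ P`, `1 ≠ z ∈ Z`, `z^p ∈ E` imply that `⟨S, p⟩ ≠ P` (`p` fixes the point of `S`);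
* `FrPlus`, `FrFour`, `FrTwo` and `btNot_of_fr : FrPlus → FrFour → FrTwo → BTNot`.
-/

set_option autoImplicit false
set_option linter.unusedSectionVars false

namespace Cfsg.Agent.Omega.NO1

open Subgroup Cfsg Cfsg.Agent.ZN Cfsg.Agent.Omega.MinPar Cfsg.Agent.Omega.Frame
open Cfsg.Agent.Omega.FFThm (OffM)
open Cfsg.Agent.Omega.NOne.Flat (Hyp Bad WW)
open Cfsg.Agent.Omega.NO1.WRF.Irr (FDat fdat_of_hyp)

universe u

/-- A frame of TEXT B4. -/
structure Fr {G : Type u} [Group G] [Finite G] (S : Sylow 2 G) (P M F : Subgroup G) : Prop where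
  cfg : Cfg S P
  noff : NoOff (S : Subgroup G) P
  /-- LEMMA J -/
  inv : JMin.Inv (S : Subgroup G) P M
  noffV : ∀ A : Subgroup G, A ≤ normalizer (zl (S : Subgroup G) M : Set G) → ¬ OffM (zl (S : Subgroup G) M) A
  hyp : Hyp (zl (S : Subgroup G) M) F
  W_le_S : WW (zl (S : Subgroup G) M) F ≤ S
  W_not : ¬ WW (zl (S : Subgroup G) M) F ≤ o2 P
  /-- THEOREM OFF -/
  not_le : ¬ zl (S : Subgroup G) P ≤ NOne.Flat.EE (zl (S : Subgroup G) M) F

section

variable {G : Type u} [Group G] [Finite G] {S : Sylow 2 G} {P M F : Subgroup G}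

theorem bad_zc (h : Cfg S P) {V : Subgroup G} (hV : zl (S : Subgroup G) P ≤ V) :
    Bad V (zc (S : Subgroup G)) := by
  refine ⟨fun h1 => ?_, h.Z_le_V.trans hV, fun h1 => h.one.not_le (hV.trans h1)⟩
  have h2 := MinSimple.Basic.zc_ne_bot S.isPGroup' (h.ctx.sylow_ne_bot S)
  exact h2 h1

/-- **The frame exists.** -/
theorem exists_fr (h : Cfg S P) (hoff : NoOff (S : Subgroup G) P) : ∃ M F : Subgroup G, Fr S P M F := by
  obtain ⟨M, hM, hnoV, hF⟩ := JMin.exists_flat h.ctx.char2 h.one.star hoff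
  have hVP : zl (S : Subgroup G) P ≤ zl (S : Subgroup G) M := JMin.zl_mono hM.PM
  obtain ⟨F, hy, hWS, hWP⟩ := hF ⟨_, bad_zc h hVP⟩
  refine ⟨M, F, h, hoff, hM, hnoV, hy, hWS, hWP, ?_⟩
  refine hy.not_le_EE (fun _ h1 h2 => hy.off_all h1 h2) (hoff _ (hWS.trans h.S_le)) fun h1 => hWP ?_
  exact (le_inf hWS h1).trans h.S_inf_centralizer.le

namespace Fr

variable (h : Fr S P M F)
include h

theorem VP_le : zl (S : Subgroup G) P ≤ zl (S : Subgroup G) M := JMin.zl_mono h.inv.PM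

/-- The frame `(V_P; V_P ∩ E_F, V_P ∩ F, W_F)`. -/
theorem fdat : FDat S P (zl (S : Subgroup G) P ⊓ NOne.Flat.EE (zl (S : Subgroup G) M) F)
    (zl (S : Subgroup G) P ⊓ F) (WW (zl (S : Subgroup G) M) F) :=
  fdat_of_hyp h.hyp h.cfg h.VP_le h.W_le_S h.not_le

end Fr

end

/-- **(+)** for the subgroup `E` of `V_P`: `z^p ∈ E` for some `1 ≠ z ∈ Z` implies that `p` fixes the point of
`S`. -/
def PlusAt {G : Type u} [Group G] (S P E : Subgroup G) : Prop :=
  ∀ p ∈ P, ∀ z ∈ zc S, z ≠ 1 → p * z * p⁻¹ ∈ E → S ⊔ zpowers p ≠ P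

/-- (+) ⟹ `MinusQ` or `Minus2` (text #17521, helper438; `Omega/NO1/HE/`). -/
def FrPlus : Prop :=
  ∀ (G : Type u) [Group G] [Finite G] (S : Sylow 2 G) (P M F : Subgroup G), Fr S P M F →
    PlusAt (S : Subgroup G) P (NOne.Flat.EE (zl (S : Subgroup G) M) F) → Ty (S : Subgroup G) P

/-- Not (+), `|V_P : V_P ∩ E_F| ≥ 4` (THEOREM COMP #17539 and CARD N1-ONE #17954). -/
def FrFour : Prop :=
  ∀ (G : Type u) [Group G] [Finite G] (S : Sylow 2 G) (P M F : Subgroup G), Fr S P M F →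
    ¬ PlusAt (S : Subgroup G) P (NOne.Flat.EE (zl (S : Subgroup G) M) F) →
    4 ≤ (NOne.Flat.EE (zl (S : Subgroup G) M) F).relIndex (zl (S : Subgroup G) P) → Ty (S : Subgroup G) P

/-- Not (+), `|V_P : V_P ∩ E_F| = 2`; by `BTAbs` we may assume that `|Z| ≥ 4` or
`|V_P : V_P ∩ O₂(C_G(Z))| ≥ 4`. -/
def FrTwo : Prop :=
  ∀ (G : Type u) [Group G] [Finite G] (S : Sylow 2 G) (P M F : Subgroup G), Fr S P M F →
    ¬ PlusAt (S : Subgroup G) P (NOne.Flat.EE (zl (S : Subgroup G) M) F) →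
    (NOne.Flat.EE (zl (S : Subgroup G) M) F).relIndex (zl (S : Subgroup G) P) = 2 →
    (Nat.card (zc (S : Subgroup G)) ≠ 2 ∨ 4 ≤ (EE (S : Subgroup G) P).relIndex (zl (S : Subgroup G) P)) →
    Ty (S : Subgroup G) P

theorem relIndex_two_or {G : Type u} [Group G] [Finite G] {S : Sylow 2 G} {P : Subgroup G} (h : Cfg S P)
    {E : Subgroup G} (hE : ¬ zl (S : Subgroup G) P ≤ E) :
    E.relIndex (zl (S : Subgroup G) P) = 2 ∨ 4 ≤ E.relIndex (zl (S : Subgroup G) P) := by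
  have : Fact (Nat.Prime 2) := ⟨Nat.prime_two⟩
  obtain ⟨k, hk⟩ := IsPGroup.iff_card.1 h.V_isPGroup
  have h1 : E.relIndex (zl (S : Subgroup G) P) ∣ 2 ^ k := by
    rw [← hk]
    exact relIndex_dvd_card _ _
  obtain ⟨j, -, hj⟩ := (Nat.dvd_prime_pow Nat.prime_two).1 h1
  rcases j with _ | _ | j
  · exfalso
    rw [pow_zero, relIndex_eq_one] at hj
    exact hE hj
  · left; rw [hj]; norm_num
  · right
    rw [hj]
    calc 4 = 2 ^ 2 := by norm_num
      _ ≤ 2 ^ (j + 1 + 1) := Nat.pow_le_pow_right (by norm_num) (by omega)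

end Cfsg.Agent.Omega.NO1

end
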